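import Cfsg.Agent.Lib.Char.HalfDegree.Reduce
import Cfsg.Agent.Lib.Char.Galois

/-!
# Absolutely irreducible representations of `p'`-groups over a prime field lift to a valuation ring

Among the irreducible complex characters one has a form over a valuation ring of `ℂ` whose reduction
intertwines with the given representation, hence is equivalent to it.
-/

set_option autoImplicit false
set_option linter.style.haveILetI false

open Cfsg Module
open scoped Matrix

namespace Cfsg.Agent.Classical.LinThree.Hess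

universe u v

/-- **Lifting.** -/
theorem exists_lift {G : Type u} [Group G] [Finite G] {p n : ℕ} (hp : p.Prime) (hn : 0 < n)
    (hG : ¬ p ∣ Nat.card G) {K : Type v} [Field K] [Fintype K] [CharP K p]
    (σ : G →* Matrix (Fin n) (Fin n) K)
    (hspan : Submodule.span K (Set.range σ) = ⊤) :
    ∃ (V : ValuationSubring ℂ) (f : K →+* IsLocalRing.ResidueField V)
      (R : G →* Matrix (Fin n) (Fin n) V) (U U' : Matrix (Fin n) (Fin n) (IsLocalRing.ResidueField V)),
      U * U' = 1 ∧ U' * U = 1 ∧
      (∀ g, (R g).map (IsLocalRing.residue V) = U * (σ g).map f * U') ∧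
      (∀ X : Matrix (Fin n) (Fin n) V, (∀ g, X * R g = R g * X) →
        ∃ c : V, X = c • (1 : Matrix (Fin n) (Fin n) V)) ∧
      IsCharacter G (fun g => ((R g).trace : ℂ)) := by
  classical
  haveI := Fintype.ofFinite G
  haveI := Fact.mk hp
  haveI : Nonempty (Fin n) := ⟨⟨0, hn⟩⟩
  obtain ⟨V, hV⟩ := Char.HalfDegree.exists_valuation_nonunit hp
  have hp0 : ((p : ℕ) : IsLocalRing.ResidueField V) = 0 := by
    rw [← map_natCast (IsLocalRing.residue V), IsLocalRing.residue_eq_zero_iff]
    exact hV
  haveI : CharP (IsLocalRing.ResidueField V) p := (CharP.charP_iff_prime_eq_zero hp).mpr hp0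
  haveI : IsAlgClosed (IsLocalRing.ResidueField V) := Char.HalfDegree.residue_isAlgClosed V
  letI : Algebra (ZMod p) K := ZMod.algebra K p
  letI : Algebra (ZMod p) (IsLocalRing.ResidueField V) := ZMod.algebra _ p
  let f : K →+* IsLocalRing.ResidueField V :=
    (IsAlgClosed.lift : K →ₐ[ZMod p] IsLocalRing.ResidueField V).toRingHom
  let τ : G →* Matrix (Fin n) (Fin n) (IsLocalRing.ResidueField V) :=
    (f.mapMatrix : Matrix (Fin n) (Fin n) K →+* _).toMonoidHom.comp σ
  have hτ : ∀ g, τ g = (σ g).map f := fun g => rfl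
  have hm : IsUnit ((Nat.card G : ℕ) : V) := Char.isUnit_nat_of_not_dvd hp hV hG
  have hm0 : ((Nat.card G : ℕ) : IsLocalRing.ResidueField V) ≠ 0 := by
    rw [← map_natCast (IsLocalRing.residue V)]
    exact fun h => (IsLocalRing.residue_eq_zero_iff _).mp h hm
  -- forms of all irreducible characters
  have hform : ∀ χ : IrrCharacter G, ∃ (s : ℕ) (R : G →* Matrix (Fin s) (Fin s) V),
      (∀ g, (χ : G → ℂ) g = ((R g).trace : ℂ)) ∧
      (∀ X : Matrix (Fin s) (Fin s) V, (∀ g, X * R g = R g * X) →
        ∃ c : V, X = c • (1 : Matrix (Fin s) (Fin s) V)) := by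
    intro χ
    obtain ⟨m, ρ, hirr, hχ⟩ := χ.2
    obtain ⟨s, R, hR, hsch⟩ := Char.exists_matrix_form V ρ
    exact ⟨s, R, fun g => by rw [← hR g]; exact (congrFun hχ g).symm, hsch hirr⟩
  choose s R hR hsch using hform
  let Rb : ∀ χ, G →* Matrix (Fin (s χ)) (Fin (s χ)) (IsLocalRing.ResidueField V) := fun χ =>
    ((IsLocalRing.residue V).mapMatrix : Matrix (Fin (s χ)) (Fin (s χ)) V →+* _).toMonoidHom.comp (R χ)
  have hRb : ∀ χ g, Rb χ g = (R χ g).map (IsLocalRing.residue V) := fun χ g => rfl
  -- one of them intertwines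
  obtain ⟨χ, X, hX⟩ : ∃ (χ : IrrCharacter G)
      (X : Matrix (Fin n) (Fin (s χ)) (IsLocalRing.ResidueField V)),
      ∑ g : G, τ g * X * Rb χ g⁻¹ ≠ 0 := by
    by_contra hno
    push Not at hno
    have hz : ∀ χ i j, ∑ g : G, τ g i j * (Rb χ g⁻¹).trace = 0 := by
      intro χ i j
      have h : ∀ k, ∑ g : G, τ g i j * Rb χ g⁻¹ k k = 0 := fun k => by
        have e := congrFun (congrFun (hno χ (Matrix.single j k 1)) i) k
        rw [Matrix.sum_apply, Matrix.zero_apply] at e
        rw [← e]
        refine Finset.sum_congr rfl fun g _ => ?_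
        rw [Matrix.mul_apply, Finset.sum_eq_single k]
        · simp
        · intro l _ hl; simp [Matrix.mul_single_apply_of_ne _ _ _ _ _ hl]
        · simp
      simp only [Matrix.trace, Matrix.diag, Finset.mul_sum]
      rw [Finset.sum_comm]
      exact Finset.sum_eq_zero fun k _ => h k
    have hreg : ∀ g : G, ∑ χ, (Rb χ 1).trace * (Rb χ g⁻¹).trace =
        if g = 1 then (Nat.card G : IsLocalRing.ResidueField V) else 0 := by
      intro g
      have h1 : ∑ χ, (R χ 1).trace * (R χ g⁻¹).trace = if g = 1 then ((Nat.card G : ℕ) : V) else 0 := by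
        apply Subtype.val_injective
        rw [AddSubmonoidClass.coe_finsetSum]
        simp only [MulMemClass.coe_mul, ← hR]
        rw [Char.regular_sum, inv_eq_one]
        split_ifs <;> simp
      have h2 := congrArg (IsLocalRing.residue V) h1
      rw [map_sum, apply_ite (IsLocalRing.residue V), map_natCast, map_zero] at h2
      rw [← h2]
      refine Finset.sum_congr rfl fun χ _ => ?_
      rw [map_mul, hRb, hRb]
      exact congrArg₂ (· * ·) (AddMonoidHom.map_trace (IsLocalRing.residue V).toAddMonoidHom _).symm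
        (AddMonoidHom.map_trace (IsLocalRing.residue V).toAddMonoidHom _).symm
    obtain ⟨i⟩ : Nonempty (Fin n) := inferInstance
    have h : ∑ g : G, τ g i i * ∑ χ, (Rb χ 1).trace * (Rb χ g⁻¹).trace = 0 := by
      simp only [Finset.mul_sum]
      rw [Finset.sum_comm]
      refine Finset.sum_eq_zero fun χ _ => ?_
      rw [← mul_zero ((Rb χ 1).trace), ← hz χ i i, Finset.mul_sum]
      exact Finset.sum_congr rfl fun g _ => by ring
    simp only [hreg] at h
    simp only [mul_ite, mul_zero, Finset.sum_ite_eq', Finset.mem_univ, if_true] at h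
    rw [map_one, Matrix.one_apply_eq, one_mul] at h
    exact hm0 h
  obtain ⟨T, hTd⟩ : ∃ T, T = ∑ g : G, τ g * X * Rb χ g⁻¹ := ⟨_, rfl⟩
  have hT0 : T ≠ 0 := hTd ▸ hX
  have hTc : ∀ h, τ h * T = T * Rb χ h := fun h => by
    rw [hTd, Matrix.mul_sum, Matrix.sum_mul]
    refine Fintype.sum_equiv (Equiv.mulLeft h) _ _ fun g => ?_
    have e : Rb χ (h * g)⁻¹ * Rb χ h = Rb χ g⁻¹ := by rw [← map_mul]; congr 1; group
    rw [Equiv.coe_mulLeft, Matrix.mul_assoc (τ (h * g) * X), e, map_mul]
    simp only [Matrix.mul_assoc]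
  -- the image of `T` is everything
  have hall : ∀ A : Matrix (Fin n) (Fin n) K,
      ∃ B : Matrix (Fin (s χ)) (Fin (s χ)) (IsLocalRing.ResidueField V), A.map f * T = T * B := by
    intro A
    have hA : A ∈ Submodule.span K (Set.range σ) := hspan ▸ Submodule.mem_top
    induction hA using Submodule.span_induction with
    | mem A hA => obtain ⟨g, rfl⟩ := hA; exact ⟨Rb χ g, hTc g⟩
    | zero => exact ⟨0, by rw [Matrix.map_zero _ (map_zero f), Matrix.zero_mul, Matrix.mul_zero]⟩
    | add A B _ _ hA hB =>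
      obtain ⟨a, ha⟩ := hA
      obtain ⟨b, hb⟩ := hB
      exact ⟨a + b, by rw [Matrix.map_add _ (map_add f), Matrix.add_mul, ha, hb, Matrix.mul_add]⟩
    | smul c A _ hA =>
      obtain ⟨a, ha⟩ := hA
      refine ⟨f c • a, ?_⟩
      rw [show (c • A).map f = f c • A.map f from Matrix.ext fun i j => by simp, Matrix.smul_mul, ha,
        Matrix.mul_smul]
  obtain ⟨a, b, hab⟩ : ∃ a b, T a b ≠ 0 := by
    by_contra h
    push Not at h
    exact hT0 (Matrix.ext h)
  choose B hB using fun i : Fin n => hall (Matrix.single i a 1)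
  obtain ⟨S0, hS0d⟩ : ∃ S0 : Matrix (Fin (s χ)) (Fin n) (IsLocalRing.ResidueField V),
      S0 = Matrix.of fun l i => (T a b)⁻¹ * B i l b := ⟨_, rfl⟩
  have hTS0 : T * S0 = 1 := Matrix.ext fun j i => by
    have e := congrFun (congrFun (hB i) j) b
    rw [Matrix.mul_apply, hS0d]
    calc ∑ l, T j l * Matrix.of (fun l i => (T a b)⁻¹ * B i l b) l i
        = (T a b)⁻¹ * ((T * B i) j b) := by
          rw [Matrix.mul_apply, Finset.mul_sum]
          exact Finset.sum_congr rfl fun l _ => by rw [Matrix.of_apply]; ring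
      _ = _ := by
        rw [← e, Matrix.map_single, map_one]
        rcases eq_or_ne j i with rfl | hji
        · rw [Matrix.single_mul_apply_same, one_mul, inv_mul_cancel₀ hab, Matrix.one_apply_eq]
        · rw [Matrix.single_mul_apply_of_ne _ _ _ _ _ hji, mul_zero, Matrix.one_apply_ne hji]
  -- average it
  obtain ⟨S, hSd⟩ : ∃ S, S = (Nat.card G : IsLocalRing.ResidueField V)⁻¹ •
      ∑ g : G, Rb χ g * S0 * τ g⁻¹ := ⟨_, rfl⟩
  have hSc : ∀ h, Rb χ h * S = S * τ h := fun h => by
    rw [hSd, Matrix.mul_smul, Matrix.smul_mul, Matrix.mul_sum, Matrix.sum_mul]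
    congr 1
    refine Fintype.sum_equiv (Equiv.mulLeft h) _ _ fun g => ?_
    have e : τ (h * g)⁻¹ * τ h = τ g⁻¹ := by rw [← map_mul]; congr 1; group
    rw [Equiv.coe_mulLeft, Matrix.mul_assoc (Rb χ (h * g) * S0), e, map_mul]
    simp only [Matrix.mul_assoc]
  have hTS : T * S = 1 := by
    rw [hSd, Matrix.mul_smul, Matrix.mul_sum]
    have : ∀ g, T * (Rb χ g * S0 * τ g⁻¹) = 1 := fun g => by
      rw [← Matrix.mul_assoc, ← Matrix.mul_assoc, ← hTc, Matrix.mul_assoc (τ g), hTS0, Matrix.mul_one,
        ← map_mul, mul_inv_cancel, map_one]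
    rw [Finset.sum_congr rfl fun g _ => this g, Finset.sum_const, Finset.card_univ, Nat.card_eq_fintype_card,
      ← Nat.cast_smul_eq_nsmul (IsLocalRing.ResidueField V), smul_smul,
      inv_mul_cancel₀ (by rwa [Nat.card_eq_fintype_card] at hm0), one_smul]
  have hST : S * T = 1 := by
    obtain ⟨P, hP⟩ : ∃ P, P = S * T := ⟨_, rfl⟩
    have hPc : ∀ g, P * Rb χ g = Rb χ g * P := fun g => by
      rw [hP, Matrix.mul_assoc, ← hTc, ← Matrix.mul_assoc, ← hSc, Matrix.mul_assoc]
    choose x hx using fun i j => IsLocalRing.residue_surjective (P i j)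
    obtain ⟨Y, hY⟩ : ∃ Y, Y = ∑ g : G, R χ g * Matrix.of x * R χ g⁻¹ := ⟨_, rfl⟩
    have hYc : ∀ h, Y * R χ h = R χ h * Y := fun h => by
      rw [hY, Matrix.mul_sum, Matrix.sum_mul]
      refine (Fintype.sum_equiv (Equiv.mulLeft h) _ _ fun g => ?_).symm
      have e : R χ (h * g)⁻¹ * R χ h = R χ g⁻¹ := by rw [← map_mul]; congr 1; group
      rw [Equiv.coe_mulLeft, Matrix.mul_assoc (R χ (h * g) * Matrix.of x), e, map_mul]
      simp only [Matrix.mul_assoc]
    obtain ⟨c, hc⟩ := hsch χ Y hYc
    have hPk : (Nat.card G : IsLocalRing.ResidueField V) • P =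
        IsLocalRing.residue V c • (1 : Matrix (Fin (s χ)) (Fin (s χ)) _) := by
      have e := congrArg ((IsLocalRing.residue V).mapMatrix : Matrix (Fin (s χ)) (Fin (s χ)) V →+* _) hY
      rw [map_sum, hc] at e
      have e2 : ∀ g, (IsLocalRing.residue V).mapMatrix (R χ g * Matrix.of x * R χ g⁻¹) = P := fun g => by
        rw [map_mul, map_mul, show (IsLocalRing.residue V).mapMatrix (Matrix.of x) = P from
          Matrix.ext fun i j => hx i j]
        show Rb χ g * P * Rb χ g⁻¹ = P
        rw [← hPc, Matrix.mul_assoc, ← map_mul, mul_inv_cancel, map_one, Matrix.mul_one]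
      rw [Finset.sum_congr rfl fun g _ => e2 g, Finset.sum_const, Finset.card_univ,
        ← Nat.card_eq_fintype_card, ← Nat.cast_smul_eq_nsmul (IsLocalRing.ResidueField V)] at e
      rw [← e]
      ext i j
      rcases eq_or_ne i j with rfl | hij
      · simp [Matrix.one_apply]
      · simp [Matrix.one_apply, hij]
    have hTP : T * P = T := by rw [hP, ← Matrix.mul_assoc, hTS, Matrix.one_mul]
    have he : (Nat.card G : IsLocalRing.ResidueField V) = IsLocalRing.residue V c := by
      have := congrArg (fun M => (T * M) a b) hPk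
      simp only [Matrix.mul_smul, hTP, Matrix.mul_one, Matrix.smul_apply, smul_eq_mul] at this
      exact mul_right_cancel₀ hab this
    rw [← he] at hPk
    rw [← hP]
    exact smul_right_injective _ hm0 hPk
  -- the degree is `n`
  have hsn : s χ = n := by
    have e : (Fin n → IsLocalRing.ResidueField V) ≃ₗ[IsLocalRing.ResidueField V]
        (Fin (s χ) → IsLocalRing.ResidueField V) :=
      LinearEquiv.ofLinear (Matrix.toLin' S) (Matrix.toLin' T)
        (by rw [← Matrix.toLin'_mul, hST, Matrix.toLin'_one])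
        (by rw [← Matrix.toLin'_mul, hTS, Matrix.toLin'_one])
    simpa using e.finrank_eq.symm
  let e := finCongr hsn
  let Re : G →* Matrix (Fin n) (Fin n) V :=
    (Matrix.reindexAlgEquiv V V e).toMonoidHom.comp (R χ)
  have hRe : ∀ g, Re g = (R χ g).submatrix e.symm e.symm := fun g => rfl
  refine ⟨V, f, Re, S.submatrix e.symm id, T.submatrix id e.symm, ?_, ?_, fun g => ?_, fun Y hY => ?_, ?_⟩
  · rw [show S.submatrix e.symm id * T.submatrix id e.symm = (S * T).submatrix e.symm e.symm from
      Matrix.submatrix_mul_equiv S T e.symm (Equiv.refl _) e.symm, hST, Matrix.submatrix_one_equiv]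
  · rw [Matrix.submatrix_mul_equiv T S id e.symm id, hTS, Matrix.submatrix_id_id]
  · have : Rb χ g = S * τ g * T := by rw [← hSc, Matrix.mul_assoc, hST, Matrix.mul_one]
    rw [hRe, show ((R χ g).submatrix e.symm e.symm).map (IsLocalRing.residue V) =
      (Rb χ g).submatrix e.symm e.symm from rfl, this, hτ]
    ext i j
    simp [Matrix.mul_apply]
  · obtain ⟨c, hc⟩ := hsch χ (Y.submatrix e e) fun g => by
      have := congrArg (fun M => Matrix.submatrix M e e) (hY g)
      simp only [hRe] at this
      rw [← Matrix.submatrix_mul_equiv _ _ e e e, ← Matrix.submatrix_mul_equiv _ _ e e e,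
        Matrix.submatrix_submatrix, Equiv.symm_comp_self, Matrix.submatrix_id_id] at this
      exact this
    refine ⟨c, ?_⟩
    have := congrArg (fun M => Matrix.submatrix M e.symm e.symm) hc
    simp only [Matrix.submatrix_submatrix, Equiv.self_comp_symm, Matrix.submatrix_id_id] at this
    rw [this]
    ext i j
    simp [Matrix.one_apply]
  · obtain ⟨m, ρ, -, hχ⟩ := χ.2
    refine ⟨m, ρ, hχ.trans (funext fun g => ?_)⟩
    rw [hR χ g, hRe]
    congr 1
    exact (Fintype.sum_equiv e _ _ fun i => by simp).symm.symm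

end Cfsg.Agent.Classical.LinThree.Hess
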