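import Cfsg.Agent.Lib.Char.HalfDegree.Adjoint

/-!
# The three-dimensional summand of the adjoint action, for degree at most half of `p`
-/

set_option autoImplicit false
set_option linter.unusedSectionVars false

namespace Cfsg.Agent.Classical.LinThree.Hess

open Finset Module LinearMap Cfsg.Agent.Char.HalfDegree

variable {k : Type*} [Field k] {A : Type*} [Ring A] [Algebra k A] {G : Type*} [Group G]
variable {p : ℕ} [CharP k p]

theorem exists_projection_le (hp : p.Prime) {n : ℕ} (hpn : 2 * n + 1 ≤ p) (σ : G →* A) (t : A →ₗ[k] k)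
    (ht : ∀ x y, t (x * y) = t (y * x)) {L R : A} {d : ℕ} (hLn : L ^ n = 0) (hd2 : 2 ≤ d)
    (hdn : d ≤ n) (hS : Splitting L R d) (hm : t (L ^ (d - 1) * R) ≠ 0) {z : G}
    (hz : σ z = texp k p L) {N : Subgroup G} (Q : Set G)
    (hQ : ∀ q ∈ Q, ∃ a : k, a ≠ 0 ∧ conjEnd k σ q L = a • L ∧
      conjEnd k σ q R = (a ^ (d - 1))⁻¹ • R)
    (hN : ∀ g ∈ N, g ∈ Submonoid.closure (insert z Q)) :
    ∃ e : Module.End k A, e * e = e ∧ (∀ g ∈ N, conjEnd k σ g * e = e * conjEnd k σ g) ∧
      (∀ x y, t (e x * y) = t (x * e y)) ∧ Module.finrank k (LinearMap.range e) = 3 ∧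
      (∃ x, e x = x ∧ conjEnd k σ z x ≠ x) ∧ (conjEnd k σ z - 1) ^ (2 * n) = 0 := by
  have h3 : 3 ≤ p := by omega
  have h2 : (2 : k) ≠ 0 := by
    rw [show (2 : k) = (2 : ℕ) by norm_num, Ne, CharP.cast_eq_zero_iff k p]
    exact fun h => by have := Nat.le_of_dvd two_pos h; omega
  obtain ⟨Lt, hLt⟩ : ∃ x, x = tripL k L R d := ⟨_, rfl⟩
  obtain ⟨Ht, hHt⟩ : ∃ x, x = tripH k L R d := ⟨_, rfl⟩
  obtain ⟨Ft, hFt⟩ : ∃ x, x = tripF k L R d := ⟨_, rfl⟩
  have cL : L * Lt - Lt * L = 0 := hLt ▸ comm_L hS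
  have cH : L * Ht - Ht * L = (-2 : k) • Lt := by rw [hLt, hHt]; exact comm_H hS
  have cF : L * Ft - Ft * L = Ht := by rw [hFt, hHt]; exact comm_F hS
  obtain ⟨tLL, tFF, tLH, tHF, tHH, tLF6⟩ := trace_triple t ht hS
  rw [← hLt] at tLL tLH tHH tLF6
  rw [← hHt] at tLH tHF tHH
  rw [← hFt] at tFF tHF tHH tLF6
  obtain ⟨τ, hτ⟩ : ∃ τ, τ = t (Lt * Ft) := ⟨_, rfl⟩
  rw [← hτ] at tHH tLF6
  have hτ0 : τ ≠ 0 := by
    intro h
    rw [h, mul_zero] at tLF6
    have hd : ∀ j, 1 ≤ j → j < p → ((j : ℕ) : k) ≠ 0 := fun j h1 h2 => by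
      rw [Ne, CharP.cast_eq_zero_iff k p]
      exact fun hdvd => by have := Nat.le_of_dvd h1 hdvd; omega
    have e1 := hd d (by omega) (by omega)
    have e2 := hd (d - 1) (by omega) (by omega)
    have e3 := hd (d + 1) (by omega) (by omega)
    rw [Nat.cast_sub (by omega : 1 ≤ d), Nat.cast_one] at e2
    rw [Nat.cast_add, Nat.cast_one] at e3
    exact mul_ne_zero hm (mul_ne_zero (mul_ne_zero e1 e2) e3) tLF6.symm
  -- conjugation by z
  obtain ⟨D, hD⟩ : ∃ D : Module.End k A, D = mulLeft k L + mulRight k (-L) := ⟨_, rfl⟩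
  have hDapp : ∀ x, D x = L * x - x * L := fun x => by simp [hD, sub_eq_add_neg]
  have hcomm : Commute (mulLeft k L) (mulRight k (-L)) :=
    LinearMap.ext fun x => by simp [mul_assoc]
  have hLpow : ∀ i, n ≤ i → L ^ i = 0 := fun i h => pow_eq_zero_of_le hLn h
  have hl : (mulLeft k L) ^ n = 0 := LinearMap.ext fun x => by simp [pow_mulLeft, hLn]
  have hr : (mulRight k (-L)) ^ n = 0 := LinearMap.ext fun x => by simp [pow_mulRight, neg_pow L, hLn]
  have hzi : texp k p (-L) = σ z⁻¹ := by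
    have e : texp k p (-L) * texp k p L = 1 := by
      rw [← texp_add hp (Commute.refl L).neg_left fun i j hij => by
        rw [neg_pow L i, mul_assoc, ← pow_add, hLpow _ (by omega), mul_zero],
        neg_add_cancel, texp_zero hp]
    exact left_inv_eq_right_inv e (by rw [← hz, ← map_mul, mul_inv_cancel, map_one])
  have hcz : conjEnd k σ z = texp k p D := by
    rw [hD, texp_add hp hcomm fun i j hij => by
      rcases le_or_gt n i with h | h
      · rw [pow_eq_zero_of_le hl h, zero_mul]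
      · rw [pow_eq_zero_of_le hr (i := j) (by omega), mul_zero],
      texp_mulLeft, texp_mulRight, hzi, ← hz]
    rfl
  have hnil : (conjEnd k σ z - 1) ^ (2 * n) = 0 := by
    obtain ⟨W, hW, hW'⟩ := texp_sub_one (k := k) hp D
    rw [hcz, hW', add_sub_cancel_left, hW.mul_pow, hD, pow_sum_eq_zero hcomm hl hr, zero_mul]
  have dL : D Lt = 0 := (hDapp Lt).trans cL
  have dH : D Ht = (-2 : k) • Lt := (hDapp Ht).trans cH
  have dF : D Ft = Ht := (hDapp Ft).trans cF
  have zL : conjEnd k σ z Lt = Lt := by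
    rw [hcz, texp_apply hp h3 D _ (by simp [dL]), dL]; simp
  have zH : conjEnd k σ z Ht = Ht + (-2 : k) • Lt := by
    rw [hcz, texp_apply hp h3 D _ (by simp [dH, dL]), dH, map_smul, dL]; simp
  have zF : conjEnd k σ z Ft = Ft + Ht + (-1 : k) • Lt := by
    rw [hcz, texp_apply hp h3 D _ (by simp [dF, dH, dL]), dF, dH, smul_smul]
    congr 2
    field_simp
  -- the span of the triple
  obtain ⟨W, hW⟩ : ∃ W, W = Submodule.span k (Set.range ![Lt, Ht, Ft]) := ⟨_, rfl⟩
  have mL : Lt ∈ W := hW ▸ Submodule.subset_span ⟨0, rfl⟩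
  have mH : Ht ∈ W := hW ▸ Submodule.subset_span ⟨1, rfl⟩
  have mF : Ft ∈ W := hW ▸ Submodule.subset_span ⟨2, rfl⟩
  have hstab : ∀ g ∈ Submonoid.closure (insert z Q), ∀ w ∈ W, conjEnd k σ g w ∈ W := by
    intro g hg
    induction hg using Submonoid.closure_induction with
    | mem g hg =>
      have hgen : conjEnd k σ g Lt ∈ W ∧ conjEnd k σ g Ht ∈ W ∧ conjEnd k σ g Ft ∈ W := by
        rcases Set.mem_insert_iff.mp hg with rfl | hgQ
        · rw [zL, zH, zF]
          exact ⟨mL, W.add_mem mH (W.smul_mem _ mL), W.add_mem (W.add_mem mF mH) (W.smul_mem _ mL)⟩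
        · obtain ⟨a, ha, haL, haR⟩ := hQ g hgQ
          let c : A →ₐ[k] A := AlgHom.ofLinearMap (conjEnd k σ g)
            (by rw [conjEnd_apply, one_mul, ← map_mul, mul_inv_cancel, map_one]) (conjEnd_mul σ g)
          obtain ⟨e1, e2, e3⟩ := map_triple c haL haR ha
          rw [← hLt] at e1
          rw [← hHt] at e2
          rw [← hFt] at e3
          exact ⟨(e1 : conjEnd k σ g Lt = _) ▸ W.smul_mem _ mL,
            by rw [show conjEnd k σ g Ht = Ht from e2]; exact mH, (e3 : conjEnd k σ g Ft = _) ▸ W.smul_mem _ mF⟩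
      intro w hw
      rw [hW] at hw
      induction hw using Submodule.span_induction with
      | mem x hx =>
        obtain ⟨i, rfl⟩ := hx
        fin_cases i
        exacts [hgen.1, hgen.2.1, hgen.2.2]
      | zero => simp
      | add x y _ _ hx hy => rw [map_add]; exact W.add_mem hx hy
      | smul r x _ hx => rw [map_smul]; exact W.smul_mem r hx
    | one => intro w hw; simpa using hw
    | mul a b _ _ ha hb =>
      intro w hw
      rw [map_mul, Module.End.mul_apply]
      exact ha _ (hb w hw)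
  -- the projection
  let e : Module.End k A := (τ⁻¹ • (t ∘ₗ mulLeft k Ft)).smulRight Lt +
    ((2 * τ)⁻¹ • (t ∘ₗ mulLeft k Ht)).smulRight Ht + (τ⁻¹ • (t ∘ₗ mulLeft k Lt)).smulRight Ft
  have he : ∀ x, e x = (τ⁻¹ * t (Ft * x)) • Lt + ((2 * τ)⁻¹ * t (Ht * x)) • Ht
      + (τ⁻¹ * t (Lt * x)) • Ft := fun x => by simp [e]
  have hemem : ∀ x, e x ∈ W := fun x => he x ▸
    W.add_mem (W.add_mem (W.smul_mem _ mL) (W.smul_mem _ mH)) (W.smul_mem _ mF)
  have eL : e Lt = Lt := by
    rw [he, ht Ft Lt, ← hτ, ht Ht Lt, tLH, tLL]; simp [hτ0]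
  have eH : e Ht = Ht := by
    rw [he, ht Ft Ht, tHF, tHH, tLH, inv_mul_cancel₀ (mul_ne_zero h2 hτ0)]; simp
  have eF : e Ft = Ft := by
    rw [he, tFF, tHF, ← hτ]; simp [hτ0]
  have hfix : ∀ w ∈ W, e w = w := fun w hw => by
    rw [hW] at hw
    induction hw using Submodule.span_induction with
    | mem x hx => obtain ⟨i, rfl⟩ := hx; fin_cases i; exacts [eL, eH, eF]
    | zero => simp
    | add x y _ _ hx hy => rw [map_add, hx, hy]
    | smul r x _ hx => rw [map_smul, hx]
  have hsym : ∀ x y, t (e x * y) = t (x * e y) := fun x y => by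
    rw [he, he]
    simp only [add_mul, mul_add, smul_mul_assoc, mul_smul_comm, map_add, map_smul, smul_eq_mul]
    rw [ht x Lt, ht x Ht, ht x Ft]
    ring
  have hN' : ∀ g ∈ N, ∀ w ∈ W, conjEnd k σ g w ∈ W := fun g hg => hstab g (hN g hg)
  refine ⟨e, LinearMap.ext fun x => hfix _ (hemem x), fun g hg => LinearMap.ext fun x => ?_, hsym, ?_,
    ⟨Ft, eF, ?_⟩, hnil⟩
  · simp only [Module.End.mul_apply]
    have hperp : ∀ w ∈ W, t (w * conjEnd k σ g (x - e x)) = 0 := by
      intro w hw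
      have hw' := hN' g⁻¹ (inv_mem hg) w hw
      have e1 : conjEnd k σ g (conjEnd k σ g⁻¹ w) = w := by
        rw [← Module.End.mul_apply, ← map_mul, mul_inv_cancel, map_one, Module.End.one_apply]
      rw [← e1, conjEnd_tracial σ t ht, mul_sub, map_sub, ← hsym, hfix _ hw', sub_self]
    have hz0 : e (conjEnd k σ g (x - e x)) = 0 := by
      rw [he, hperp _ mL, hperp _ mH, hperp _ mF]; simp
    rw [map_sub, map_sub, sub_eq_zero, hfix _ (hN' g hg _ (hemem x))] at hz0
    exact hz0.symm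
  · have hrange : LinearMap.range e = W := le_antisymm
      (by rintro _ ⟨x, rfl⟩; exact hemem x) fun w hw => ⟨w, hfix w hw⟩
    rw [hrange, hW, finrank_span_eq_card ?_, Fintype.card_fin]
    rw [Fintype.linearIndependent_iff]
    intro c hc
    simp [Fin.sum_univ_three] at hc
    have q1 := congrArg (fun x => t (Lt * x)) hc
    have q2 := congrArg (fun x => t (Ht * x)) hc
    have q3 := congrArg (fun x => t (Ft * x)) hc
    simp only [mul_add, mul_smul_comm, map_add, map_smul, mul_zero, map_zero, smul_eq_mul] at q1 q2 q3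
    rw [tLL, tLH, ← hτ] at q1
    rw [ht Ht Lt, tLH, tHH, tHF] at q2
    rw [ht Ft Lt, ← hτ, ht Ft Ht, tHF, tFF] at q3
    intro i
    fin_cases i
    · simpa [hτ0] using q3
    · simpa [hτ0, h2] using q2
    · simpa [hτ0] using q1
  · intro h
    rw [zF, add_assoc, add_eq_left] at h
    have := congrArg (fun x => t (Ht * x)) h
    simp [mul_add, tHH, ht Ht Lt, tLH, hτ0, h2] at this

end Cfsg.Agent.Classical.LinThree.Hess
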