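import Cfsg.Agent.Lib.Classical.LinThree.HessStd
import Cfsg.Agent.Lib.Small.Generation.ThreeUnipotent

/-!
# Over a prime field an irreducible subgroup of the special linear group of degree three with a transvection
is everything
-/

set_option autoImplicit false
set_option linter.unusedSectionVars false

namespace Cfsg.Agent.Classical.LinThree.Hess

open Matrix Module
open Cfsg.Agent.Small.Generation

variable {F : Type*} [Field F] [Fintype F] {p : ℕ} {ω : F}
  {G : Subgroup (Matrix.SpecialLinearGroup (Fin 3) F)}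

theorem in_smul [Fact p.Prime] [CharP F p] (hF : Fintype.card F = p) {a φ : Fin 3 → F} (h : In G a φ)
    (c : F) : In G (c • a) φ := by
  obtain ⟨z, rfl⟩ := (ZMod.ringEquiv F hF).surjective c
  obtain ⟨n, rfl⟩ : ∃ n : ℕ, (n : ZMod p) = z := ⟨z.val, ZMod.natCast_zmod_val z⟩
  rw [map_natCast, Nat.cast_smul_eq_nsmul]
  induction n with
  | zero => rw [zero_smul]; exact In.zero_left φ
  | succ n ih => rw [succ_nsmul]; exact ih.add h

theorem in_conj {a φ b ψ : Fin 3 → F} (ha : In G a φ) (hb : In G b ψ) :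
    In G (b + (φ ⬝ᵥ b) • a) (ψ - (ψ ⬝ᵥ a) • φ) := by
  obtain ⟨h0, x, hx, hxa⟩ := ha
  have h := hb.conj hx
  have h2 : φ ⬝ᵥ (-a) = 0 := by rw [dotProduct_neg, h0, neg_zero]
  have hinv : x⁻¹ = tE (-a) φ h2 := by
    apply inv_eq_of_mul_eq_one_right
    apply Subtype.ext
    rw [Matrix.SpecialLinearGroup.coe_mul, hxa]
    change tv a φ * tv (-a) φ = 1
    rw [tv_add_left a (-a) φ h2, add_neg_cancel]
    simp [tv]
  rw [hxa, tv_mulVec, hinv] at h
  change In G _ (ψ ᵥ* tv (-a) φ) at h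
  rwa [tv_vecMul, dotProduct_neg, neg_smul, ← sub_eq_add_neg] at h

theorem submodule_top_of_rm (hω : Om ω) {W : Submodule F (Fin 3 → F)}
    (hW : ∀ e, ∀ w ∈ W, rm ω e *ᵥ w ∈ W) {v : Fin 3 → F} (hv : v ∈ W) (hv0 : v ≠ 0) : W = ⊤ := by
  refine eq_top_iff.mpr fun u _ => ?_
  obtain ⟨i, hi⟩ := Function.ne_iff.mp hv0
  have hall : ∀ X : Matrix (Fin 3) (Fin 3) F, X *ᵥ v ∈ W := fun X => by
    have hX : X ∈ Submodule.span F (Set.range (rm ω)) := span_rm hω ▸ Submodule.mem_top
    induction hX using Submodule.span_induction with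
    | mem y hy => obtain ⟨e, rfl⟩ := hy; exact hW e v hv
    | zero => rw [zero_mulVec]; exact W.zero_mem
    | add a b _ _ ha hb => rw [add_mulVec]; exact W.add_mem ha hb
    | smul c a _ ha => rw [smul_mulVec]; exact W.smul_mem c ha
  have h := hall (vecMulVec u (Pi.single i (v i)⁻¹))
  rwa [vecMulVec_mulVec, single_dotProduct, inv_mul_cancel₀ (by simpa using hi), MulOpposite.op_one,
    one_smul] at h

theorem submodule_top_of_rm_left (hω : Om ω) {W : Submodule F (Fin 3 → F)}
    (hW : ∀ e, ∀ w ∈ W, w ᵥ* rm ω e ∈ W) {v : Fin 3 → F} (hv : v ∈ W) (hv0 : v ≠ 0) : W = ⊤ := by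
  refine eq_top_iff.mpr fun u _ => ?_
  obtain ⟨i, hi⟩ := Function.ne_iff.mp hv0
  have hall : ∀ X : Matrix (Fin 3) (Fin 3) F, v ᵥ* X ∈ W := fun X => by
    have hX : X ∈ Submodule.span F (Set.range (rm ω)) := span_rm hω ▸ Submodule.mem_top
    induction hX using Submodule.span_induction with
    | mem y hy => obtain ⟨e, rfl⟩ := hy; exact hW e v hv
    | zero => rw [vecMul_zero]; exact W.zero_mem
    | add a b _ _ ha hb => rw [vecMul_add]; exact W.add_mem ha hb
    | smul c a _ ha => rw [vecMul_smul]; exact W.smul_mem c ha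
  have h := hall (vecMulVec (Pi.single i (v i)⁻¹) u)
  rwa [vecMul_vecMulVec, dotProduct_single, mul_inv_cancel₀ (by simpa using hi), one_smul] at h

theorem sl_cancel (g : Matrix.SpecialLinearGroup (Fin 3) F) : g.1 * (g⁻¹).1 = 1 ∧ (g⁻¹).1 * g.1 = 1 := by
  constructor
  · have := congrArg Subtype.val (mul_inv_cancel g)
    exact this
  · have := congrArg Subtype.val (inv_mul_cancel g)
    exact this

/-- A transvection and the standard group generate everything. -/
theorem top_of_transvection [Fact p.Prime] [CharP F p] (hF : Fintype.card F = p) (hω : Om ω)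
    (hR : ∀ e, ∃ g ∈ G, g.1 = rm ω e) {a φ : Fin 3 → F} (ha : In G a φ) (ha0 : a ≠ 0) (hφ0 : φ ≠ 0) :
    G = ⊤ := by
  classical
  -- some axis is full
  suffices hfull : ∃ χ, χ ≠ 0 ∧ Full G χ by
    obtain ⟨χ, hχ0, hχ⟩ := hfull
    have hW := submodule_top_of_rm_left hω
      (W := { carrier := {χ | Full G χ}
              add_mem' := fun h h' => h.add h'
              zero_mem' := fun x _ => In.zero_right x
              smul_mem' := fun c _ h => h.smul c })
      (fun e w hw => by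
        obtain ⟨g, hg, hge⟩ := hR e
        rw [← hge]
        exact Full.conj hw hg) hχ hχ0
    rw [eq_top_iff, ← Classical.sl_closure_transvections, Subgroup.closure_le]
    rintro _ ⟨i, j, hij, t, rfl⟩
    have hj : Full G (Pi.single j 1) := (SetLike.ext_iff.mp hW (Pi.single j 1)).mpr trivial
    obtain ⟨-, g, hg, hge⟩ := hj (Pi.single i t) (by simp [hij.symm])
    have : g = Matrix.SpecialLinearGroup.transvection hij t := by
      apply Subtype.ext
      rw [hge, Matrix.SpecialLinearGroup.transvection_coe]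
      simp [tv, Matrix.transvection, vecMulVec]
      ext k l
      fin_cases i <;> fin_cases j <;> fin_cases k <;> fin_cases l <;> simp at * <;> rfl
    rwa [← this]
  have hpair : ∀ {u α v β : Fin 3 → F}, In G u α → u ≠ 0 → α ≠ 0 → In G v β → v ≠ 0 →
      α ⬝ᵥ v = 0 → β ⬝ᵥ u ≠ 0 → ∃ χ, χ ≠ 0 ∧ Full G χ := by
    intro u α v β hu hu0 hα0 hv hv0 h1 h2
    have h3 : In G v α := by
      have := in_smul hF (In.comm hu hv h1) (β ⬝ᵥ u)⁻¹
      rwa [smul_smul, inv_mul_cancel₀ h2, one_smul] at this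
    let S : Submodule F (Fin 3 → F) :=
      { carrier := {x | In G x α}
        add_mem' := fun h h' => h.add h'
        zero_mem' := In.zero_left α
        smul_mem' := fun c _ h => in_smul hF h c }
    let f : (Fin 3 → F) →ₗ[F] F :=
      { toFun := fun x => α ⬝ᵥ x
        map_add' := fun x y => dotProduct_add α x y
        map_smul' := fun c x => by simp [dotProduct_smul] }
    have hle : S ≤ LinearMap.ker f := fun x hx => hx.1
    have hli : LinearIndependent F ![u, v] := by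
      rw [LinearIndependent.pair_iff]
      intro s t hst
      have e := congrArg (β ⬝ᵥ ·) hst
      simp only [dotProduct_add, dotProduct_smul, hv.1, dotProduct_zero, smul_eq_mul, mul_zero, add_zero] at e
      have hs : s = 0 := (mul_eq_zero.mp e).resolve_right h2
      rw [hs, zero_smul, zero_add] at hst
      exact ⟨hs, (smul_eq_zero.mp hst).resolve_right hv0⟩
    have h2S : 2 ≤ finrank F S := by
      have hs : Submodule.span F (Set.range ![u, v]) ≤ S := Submodule.span_le.mpr (by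
        rintro _ ⟨i, rfl⟩
        fin_cases i
        exacts [hu, h3])
      have := Submodule.finrank_mono hs
      rwa [finrank_span_eq_card hli, Fintype.card_fin] at this
    have hlt : LinearMap.ker f < ⊤ := lt_top_iff_ne_top.mpr fun e => hα0 (funext fun i => by
      have : Pi.single i (1 : F) ∈ LinearMap.ker f := e ▸ Submodule.mem_top
      simpa [f] using this)
    have h3' : finrank F (LinearMap.ker f) < 3 := by
      have := Submodule.finrank_lt hlt.ne
      rwa [Module.finrank_fin_fun] at this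
    have heq := Submodule.eq_of_le_of_finrank_le hle (by omega)
    exact ⟨α, hα0, fun x hx => (SetLike.ext_iff.mp heq x).mpr (LinearMap.mem_ker.mpr hx)⟩
  by_contra hno
  -- so vanishing is symmetric
  have hsym : ∀ {u α v β : Fin 3 → F}, In G u α → u ≠ 0 → α ≠ 0 → In G v β → v ≠ 0 → β ≠ 0 →
      α ⬝ᵥ v = 0 → β ⬝ᵥ u = 0 := fun hu hu0 hα hv hv0 _ h => by
    by_contra h2
    exact hno (hpair hu hu0 hα hv hv0 h h2)
  -- centres and axes span
  have hC : ∀ W : Submodule F (Fin 3 → F), W ≠ ⊤ → ∃ u α, In G u α ∧ u ≠ 0 ∧ α ≠ 0 ∧ u ∉ W := by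
    intro W hW
    by_contra hall
    push Not at hall
    let S := Submodule.span F {u : Fin 3 → F | ∃ α, In G u α ∧ u ≠ 0 ∧ α ≠ 0}
    have hS : S ≤ W := Submodule.span_le.mpr (by rintro u ⟨α, h1, h2, h3⟩; exact hall u α h1 h2 h3)
    refine hW (eq_top_iff.mpr (le_trans (le_of_eq (submodule_top_of_rm hω (W := S) (fun e w hw => ?_)
      (Submodule.subset_span ⟨φ, ha, ha0, hφ0⟩) ha0).symm) hS))
    obtain ⟨g, hg, hge⟩ := hR e
    induction hw using Submodule.span_induction with
    | mem x hx =>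
      obtain ⟨α, h1, h2, h3⟩ := hx
      have h := h1.conj hg
      rw [hge] at h
      refine Submodule.subset_span ⟨α ᵥ* (g⁻¹).1, h, fun e0 => h2 ?_, fun e0 => h3 ?_⟩
      · have := congrArg ((g⁻¹).1 *ᵥ ·) e0
        simpa only [mulVec_zero, ← hge, mulVec_mulVec, (sl_cancel g).2, one_mulVec] using this
      · have := congrArg (· ᵥ* g.1) e0
        simpa only [zero_vecMul, vecMul_vecMul, (sl_cancel g).2, vecMul_one] using this
    | zero => rw [mulVec_zero]; exact S.zero_mem
    | add x y _ _ hx hy => rw [mulVec_add]; exact S.add_mem hx hy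
    | smul c x _ hx => rw [mulVec_smul]; exact S.smul_mem c hx
  have hA : ∀ W : Submodule F (Fin 3 → F), W ≠ ⊤ → ∃ u α, In G u α ∧ u ≠ 0 ∧ α ≠ 0 ∧ α ∉ W := by
    intro W hW
    by_contra hall
    push Not at hall
    let S := Submodule.span F {α : Fin 3 → F | ∃ u, In G u α ∧ u ≠ 0 ∧ α ≠ 0}
    have hS : S ≤ W := Submodule.span_le.mpr (by rintro α ⟨u, h1, h2, h3⟩; exact hall u α h1 h2 h3)
    refine hW (eq_top_iff.mpr (le_trans (le_of_eq (submodule_top_of_rm_left hω (W := S) (fun e w hw => ?_)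
      (Submodule.subset_span ⟨a, ha, ha0, hφ0⟩) hφ0).symm) hS))
    obtain ⟨g, hg, hge⟩ := hR e
    induction hw using Submodule.span_induction with
    | mem x hx =>
      obtain ⟨u, h1, h2, h3⟩ := hx
      have h := h1.conj (inv_mem hg)
      rw [inv_inv, hge] at h
      refine Submodule.subset_span ⟨_, h, fun e0 => h2 ?_, fun e0 => h3 ?_⟩
      · have := congrArg (g.1 *ᵥ ·) e0
        simpa only [mulVec_zero, mulVec_mulVec, (sl_cancel g).1, one_mulVec] using this
      · have := congrArg (· ᵥ* (g⁻¹).1) e0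
        simpa only [zero_vecMul, ← hge, vecMul_vecMul, (sl_cancel g).1, vecMul_one] using this
    | zero => rw [zero_vecMul]; exact S.zero_mem
    | add x y _ _ hx hy => rw [add_vecMul]; exact S.add_mem hx hy
    | smul c x _ hx => rw [smul_vecMul]; exact S.smul_mem c hx
  -- a second one
  obtain ⟨b, ψ, hb, hb0, hψ0, hφb⟩ : ∃ b ψ, In G b ψ ∧ b ≠ 0 ∧ ψ ≠ 0 ∧ φ ⬝ᵥ b ≠ 0 := by
    let f : (Fin 3 → F) →ₗ[F] F :=
      { toFun := fun x => φ ⬝ᵥ x
        map_add' := fun x y => dotProduct_add φ x y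
        map_smul' := fun c x => by simp [dotProduct_smul] }
    obtain ⟨b, ψ, h1, h2, h3, h4⟩ := hC (LinearMap.ker f) fun e => hφ0 (funext fun i => by
      have : Pi.single i (1 : F) ∈ LinearMap.ker f := e ▸ Submodule.mem_top
      simpa [f] using this)
    exact ⟨b, ψ, h1, h2, h3, fun e => h4 (LinearMap.mem_ker.mpr e)⟩
  have hψa : ψ ⬝ᵥ a ≠ 0 := fun e => hφb (hsym hb hb0 hψ0 ha ha0 hφ0 e)
  obtain ⟨L, hL⟩ : ∃ L, L = Submodule.span F {a, b} := ⟨_, rfl⟩
  obtain ⟨D, hD⟩ : ∃ D, D = Submodule.span F {φ, ψ} := ⟨_, rfl⟩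
  have haL : a ∈ L := hL ▸ Submodule.subset_span (by simp)
  have hbL : b ∈ L := hL ▸ Submodule.subset_span (by simp)
  have hφD : φ ∈ D := hD ▸ Submodule.subset_span (by simp)
  have hψD : ψ ∈ D := hD ▸ Submodule.subset_span (by simp)
  have hne : ∀ u v : Fin 3 → F, Submodule.span F {u, v} ≠ ⊤ := fun u v e => by
    have h : (Set.range ![u, v]).finrank F ≤ Fintype.card (Fin 2) := finrank_range_le_card _
    have he : Set.range ![u, v] = {u, v} := by
      rw [Matrix.range_cons, Matrix.range_cons, Matrix.range_empty, Set.union_empty]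
      rfl
    rw [Set.finrank, he, e, finrank_top, Module.finrank_fin_fun, Fintype.card_fin] at h
    omega
  -- a third one off both planes
  obtain ⟨c, θ, hc, hc0, hθ0, hcL, hθD⟩ : ∃ c θ, In G c θ ∧ c ≠ 0 ∧ θ ≠ 0 ∧ c ∉ L ∧ θ ∉ D := by
    obtain ⟨c1, θ1, g1, c10, θ10, hc1⟩ := hC L (hL ▸ hne a b)
    by_cases hθ1 : θ1 ∈ D
    swap
    · exact ⟨c1, θ1, g1, c10, θ10, hc1, hθ1⟩
    obtain ⟨c2, θ2, g2, c20, θ20, hθ2⟩ := hA D (hD ▸ hne φ ψ)
    by_cases hc2 : c2 ∈ L
    swap
    · exact ⟨c2, θ2, g2, c20, θ20, hc2, hθ2⟩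
    have hlink : ∀ c2 θ2, In G c2 θ2 → c2 ∈ L → θ2 ∉ D → θ1 ⬝ᵥ c2 ≠ 0 →
        ∃ c θ, In G c θ ∧ c ≠ 0 ∧ θ ≠ 0 ∧ c ∉ L ∧ θ ∉ D := by
      intro c2 θ2 g2 hc2 hθ2 h
      have hnot : c2 + (θ1 ⬝ᵥ c2) • c1 ∉ L := fun e => hc1 (by
        have := L.smul_mem (θ1 ⬝ᵥ c2)⁻¹ (L.sub_mem e hc2)
        rwa [add_sub_cancel_left, smul_smul, inv_mul_cancel₀ h, one_smul] at this)
      have hnot' : θ2 - (θ2 ⬝ᵥ c1) • θ1 ∉ D := fun e => hθ2 (by
        have := D.add_mem e (D.smul_mem (θ2 ⬝ᵥ c1) hθ1)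
        rwa [sub_add_cancel] at this)
      exact ⟨_, _, in_conj g1 g2, fun e => hnot (e ▸ L.zero_mem), fun e => hnot' (e ▸ D.zero_mem), hnot, hnot'⟩
    by_cases h : θ1 ⬝ᵥ c2 = 0
    swap
    · exact hlink c2 θ2 g2 hc2 hθ2 h
    rw [hD, Submodule.mem_span_pair] at hθ1
    obtain ⟨γ, δ, hγδ⟩ := hθ1
    have hmove : ∀ u α, In G u α → u ∈ L → α ∈ D → θ1 ⬝ᵥ u ≠ 0 → α ⬝ᵥ c2 ≠ 0 →
        ∃ c θ, In G c θ ∧ c ≠ 0 ∧ θ ≠ 0 ∧ c ∉ L ∧ θ ∉ D := by
      intro u α gu hu hα h1 h2
      refine hlink _ _ (in_conj gu g2) (L.add_mem hc2 (L.smul_mem _ hu)) (fun e => hθ2 ?_) ?_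
      · have := D.add_mem e (D.smul_mem (θ2 ⬝ᵥ u) hα)
        rwa [sub_add_cancel] at this
      · rw [dotProduct_add, h, zero_add, dotProduct_smul, smul_eq_mul]
        exact mul_ne_zero h2 h1
    have e1 : θ1 ⬝ᵥ a = δ * (ψ ⬝ᵥ a) := by
      rw [← hγδ]; simp [add_dotProduct, smul_dotProduct, ha.1]
    have e2 : θ1 ⬝ᵥ b = γ * (φ ⬝ᵥ b) := by
      rw [← hγδ]; simp [add_dotProduct, smul_dotProduct, hb.1]
    have e3 : γ * (φ ⬝ᵥ c2) + δ * (ψ ⬝ᵥ c2) = 0 := by
      rw [← hγδ] at h; simpa [add_dotProduct, smul_dotProduct] using h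
    by_cases hφc : φ ⬝ᵥ c2 = 0
    · have hψc : ψ ⬝ᵥ c2 ≠ 0 := by
        intro hψc
        have hc2' := hc2
        rw [hL, Submodule.mem_span_pair] at hc2'
        obtain ⟨x, y, hxy⟩ := hc2'
        rw [← hxy] at hφc hψc
        simp [dotProduct_add, dotProduct_smul, ha.1, hb.1, hφb, hψa] at hφc hψc
        exact c20 (by rw [← hxy, hφc, hψc]; simp)
      refine hmove b ψ hb hbL hψD ?_ hψc
      rw [e2]
      refine mul_ne_zero (fun hγ => θ10 ?_) hφb
      rw [hγ, zero_mul, zero_add] at e3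
      rw [← hγδ, hγ, (mul_eq_zero.mp e3).resolve_right hψc]; simp
    · refine hmove a φ ha haL hφD ?_ hφc
      rw [e1]
      refine mul_ne_zero (fun hδ => θ10 ?_) hψa
      rw [hδ, zero_mul, add_zero] at e3
      rw [← hγδ, hδ, (mul_eq_zero.mp e3).resolve_right hφc]; simp
  -- the contradiction
  have htriple : ∀ c θ, In G c θ → c ∉ L → θ ∉ D → ψ ⬝ᵥ c ≠ 0 → False := by
    intro c θ hc hcL hθD hψc
    have hc0 : c ≠ 0 := fun e => hcL (e ▸ L.zero_mem)
    have hθ0 : θ ≠ 0 := fun e => hθD (e ▸ D.zero_mem)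
    have hθb : θ ⬝ᵥ b ≠ 0 := fun e => hψc (hsym hc hc0 hθ0 hb hb0 hψ0 e)
    obtain ⟨s, hs⟩ : ∃ s, s = -(φ ⬝ᵥ c) / ((ψ ⬝ᵥ c) * (φ ⬝ᵥ b)) := ⟨_, rfl⟩
    have hnew := in_conj (in_smul hF hb s) hc
    have e1 : φ ⬝ᵥ (c + (ψ ⬝ᵥ c) • (s • b)) = 0 := by
      rw [hs, dotProduct_add, dotProduct_smul, dotProduct_smul, smul_eq_mul, smul_eq_mul]
      field_simp
      ring
    have e2 := hsym ha ha0 hφ0 hnew
      (fun e => hcL (by
        have : c = -((ψ ⬝ᵥ c) • (s • b)) := eq_neg_of_add_eq_zero_left e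
        rw [this]; exact L.neg_mem (L.smul_mem _ (L.smul_mem _ hbL))))
      (fun e => hθD (by
        rw [sub_eq_zero] at e
        rw [e]; exact D.smul_mem _ hψD)) e1
    rw [sub_dotProduct, smul_dotProduct, dotProduct_smul, smul_eq_mul, smul_eq_mul] at e2
    -- the three axes are dependent
    obtain ⟨η, hη⟩ : ∃ η, η = θ - ((θ ⬝ᵥ a) / (ψ ⬝ᵥ a)) • ψ - ((θ ⬝ᵥ b) / (φ ⬝ᵥ b)) • φ := ⟨_, rfl⟩
    have ηa : η ⬝ᵥ a = 0 := by
      rw [hη]; simp [sub_dotProduct, smul_dotProduct, ha.1]; field_simp; ring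
    have ηb : η ⬝ᵥ b = 0 := by
      rw [hη]; simp [sub_dotProduct, smul_dotProduct, hb.1]; field_simp; ring
    have ηc : η ⬝ᵥ c = 0 := by
      rw [hη]; simp [sub_dotProduct, smul_dotProduct, hc.1]
      rw [hs] at e2
      field_simp at e2 ⊢
      linear_combination -e2
    let f : (Fin 3 → F) →ₗ[F] F :=
      { toFun := fun x => η ⬝ᵥ x
        map_add' := fun x y => dotProduct_add η x y
        map_smul' := fun c x => by simp [dotProduct_smul] }
    have hlt : L < LinearMap.ker f := by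
      refine lt_of_le_of_ne (hL ▸ Submodule.span_le.mpr ?_) fun e => hcL (e ▸ LinearMap.mem_ker.mpr ηc)
      rintro x (rfl | rfl)
      exacts [LinearMap.mem_ker.mpr ηa, LinearMap.mem_ker.mpr ηb]
    have h2L : 2 ≤ finrank F L := by
      have hli : LinearIndependent F ![a, b] := by
        rw [LinearIndependent.pair_iff]
        intro s t hst
        have ea := congrArg (φ ⬝ᵥ ·) hst
        have eb := congrArg (ψ ⬝ᵥ ·) hst
        simp [dotProduct_add, dotProduct_smul, ha.1, hb.1, hφb, hψa] at ea eb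
        exact ⟨eb, ea⟩
      have hs' : Submodule.span F (Set.range ![a, b]) ≤ L := Submodule.span_le.mpr (by
        rintro _ ⟨i, rfl⟩
        fin_cases i
        exacts [haL, hbL])
      have := Submodule.finrank_mono hs'
      rwa [finrank_span_eq_card hli, Fintype.card_fin] at this
    have h3 := Submodule.finrank_lt_finrank_of_lt hlt
    have htop : LinearMap.ker f = ⊤ := Submodule.eq_top_of_finrank_eq
      (le_antisymm (Submodule.finrank_le _) (by rw [Module.finrank_fin_fun]; omega))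
    have η0 : η = 0 := funext fun i => by
      have : Pi.single i (1 : F) ∈ LinearMap.ker f := htop ▸ Submodule.mem_top
      simpa [f] using this
    rw [η0, eq_comm, sub_eq_zero, sub_eq_iff_eq_add] at hη
    exact hθD (hη ▸ D.add_mem (D.smul_mem _ hφD) (D.smul_mem _ hψD))
  by_cases hψc : ψ ⬝ᵥ c = 0
  · have hφc : φ ⬝ᵥ c ≠ 0 := by
      intro hφc
      have e1 := hsym ha ha0 hφ0 hc hc0 hθ0 hφc
      have e2 := hsym hb hb0 hψ0 hc hc0 hθ0 hψc
      let f : (Fin 3 → F) →ₗ[F] F :=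
        { toFun := fun x => θ ⬝ᵥ x
          map_add' := fun x y => dotProduct_add θ x y
          map_smul' := fun c x => by simp [dotProduct_smul] }
      have hlt : L < LinearMap.ker f := by
        refine lt_of_le_of_ne (hL ▸ Submodule.span_le.mpr ?_) fun e => hcL (e ▸ LinearMap.mem_ker.mpr hc.1)
        rintro x (rfl | rfl)
        exacts [LinearMap.mem_ker.mpr e1, LinearMap.mem_ker.mpr e2]
      have h2L : 2 ≤ finrank F L := by
        have hli : LinearIndependent F ![a, b] := by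
          rw [LinearIndependent.pair_iff]
          intro s t hst
          have ea := congrArg (φ ⬝ᵥ ·) hst
          have eb := congrArg (ψ ⬝ᵥ ·) hst
          simp [dotProduct_add, dotProduct_smul, ha.1, hb.1, hφb, hψa] at ea eb
          exact ⟨eb, ea⟩
        have hs' : Submodule.span F (Set.range ![a, b]) ≤ L := Submodule.span_le.mpr (by
          rintro _ ⟨i, rfl⟩
          fin_cases i
          exacts [haL, hbL])
        have := Submodule.finrank_mono hs'
        rwa [finrank_span_eq_card hli, Fintype.card_fin] at this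
      have h3 := Submodule.finrank_lt_finrank_of_lt hlt
      have htop : LinearMap.ker f = ⊤ := Submodule.eq_top_of_finrank_eq
        (le_antisymm (Submodule.finrank_le _) (by rw [Module.finrank_fin_fun]; omega))
      exact hθ0 (funext fun i => by
        have : Pi.single i (1 : F) ∈ LinearMap.ker f := htop ▸ Submodule.mem_top
        simpa [f] using this)
    refine htriple _ _ (in_conj ha hc) (fun e => hcL ?_) (fun e => hθD ?_) ?_
    · have := L.sub_mem e (L.smul_mem (φ ⬝ᵥ c) haL)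
      rwa [add_sub_cancel_right] at this
    · have := D.add_mem e (D.smul_mem (θ ⬝ᵥ a) hφD)
      rwa [sub_add_cancel] at this
    · rw [dotProduct_add, hψc, zero_add, dotProduct_smul, smul_eq_mul]
      exact mul_ne_zero hφc hψa
  · exact htriple c θ hc hcL hθD hψc

end Cfsg.Agent.Classical.LinThree.Hess
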