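import Cfsg.Agent.Lib.Classical.LinThree.HessOdd
import Cfsg.Agent.Lib.Classical.LinThree.HessProj
import Cfsg.Agent.Lib.Classical.LinThree.HessTrans

/-!
# Subgroups of the special linear group of degree three containing the standard elements

Either the nine involutions are permuted or the subgroup is everything.
-/

set_option autoImplicit false
set_option linter.style.haveILetI false
set_option linter.unusedSectionVars false

namespace Cfsg.Agent.Classical.LinThree.Hess

open Matrix Module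
open Cfsg.Agent.Small.Generation

universe u

variable {F : Type u} [Field F] {p : ℕ} {ω : F}

theorem one_add_pow {A : Type*} [Ring A] [Algebra F A] (N : A) (hN : N * N * N = 0) :
    ∀ j : ℕ, ∃ c : F, (1 + N) ^ j = 1 + (j : F) • N + c • (N * N)
  | 0 => ⟨0, by simp⟩
  | j + 1 => by
    obtain ⟨c, hc⟩ := one_add_pow N hN j
    refine ⟨c + j, ?_⟩
    rw [pow_succ, hc]
    simp only [mul_add, add_mul, mul_one, one_mul, smul_mul_assoc, hN, smul_zero, Nat.cast_add, Nat.cast_one]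
    module

theorem nilp_cube [CharP F p] (hp : p.Prime) (h3 : 3 ≤ p) {X : Matrix (Fin 3) (Fin 3) F}
    (hX : ∃ j, X ^ p ^ j = 1) : (X - 1) * (X - 1) * (X - 1) = 0 := by
  haveI := Fact.mk hp
  haveI : CharP (Matrix (Fin 3) (Fin 3) F) p :=
    charP_of_injective_algebraMap (FaithfulSMul.algebraMap_injective F _) p
  obtain ⟨j, hj⟩ := hX
  obtain ⟨L, hL⟩ : ∃ L, L = Matrix.toLinAlgEquiv' (X - 1) := ⟨_, rfl⟩
  have hnil : IsNilpotent L := ⟨p ^ j, by
    rw [hL, ← map_pow, sub_pow_char_pow_of_commute (R := Matrix (Fin 3) (Fin 3) F) (p := p) _ (Commute.one_right X),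
      hj, one_pow, sub_self, map_zero]⟩
  have h := LinearMap.aeval_self_charpoly L
  rw [hnil.charpoly_eq_X_pow_finrank, map_pow, Polynomial.aeval_X, Module.finrank_fin_fun, hL, ← map_pow] at h
  have := (map_eq_zero_iff _ Matrix.toLinAlgEquiv'.injective).mp h
  rwa [pow_succ, pow_two] at this

/-- A square-zero matrix is an outer product. -/
theorem rank_one_of_sq_zero {N : Matrix (Fin 3) (Fin 3) F} (h0 : N ≠ 0) (h2 : N * N = 0) :
    ∃ a φ : Fin 3 → F, a ≠ 0 ∧ φ ≠ 0 ∧ φ ⬝ᵥ a = 0 ∧ N = vecMulVec a φ := by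
  classical
  obtain ⟨v, hv⟩ : ∃ v, N *ᵥ v ≠ 0 := by
    by_contra h
    push Not at h
    exact h0 (ext_mulVec fun x => by rw [h x, zero_mulVec])
  obtain ⟨a, ha⟩ : ∃ a, a = N *ᵥ v := ⟨_, rfl⟩
  rw [← ha] at hv
  let f := Matrix.toLin' N
  have hf : ∀ x, f x = N *ᵥ x := fun x => Matrix.toLin'_apply N x
  have hle : LinearMap.range f ≤ LinearMap.ker f := by
    rintro _ ⟨x, rfl⟩
    rw [LinearMap.mem_ker, hf, hf, mulVec_mulVec, h2, zero_mulVec]
  have hrk := f.finrank_range_add_finrank_ker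
  have hle' := Submodule.finrank_mono hle
  rw [Module.finrank_fin_fun] at hrk
  have haR : a ∈ LinearMap.range f := ⟨v, by rw [hf, ha]⟩
  have hspan : Submodule.span F {a} = LinearMap.range f :=
    Submodule.eq_of_le_of_finrank_le ((Submodule.span_singleton_le_iff_mem _ _).mpr haR)
      (by rw [finrank_span_singleton hv]; omega)
  obtain ⟨j, hj⟩ := Function.ne_iff.mp hv
  simp only [Pi.zero_apply] at hj
  have hcol : ∀ x, N *ᵥ x = ((N *ᵥ x) j / a j) • a := fun x => by
    have : N *ᵥ x ∈ Submodule.span F {a} := hspan ▸ ⟨x, hf x⟩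
    obtain ⟨c, hc⟩ := Submodule.mem_span_singleton.mp this
    rw [← hc, Pi.smul_apply, smul_eq_mul, mul_div_cancel_right₀ _ hj]
  have hN : N = vecMulVec a fun k => N j k / a j := by
    ext i k
    have := congrFun (hcol (Pi.single k 1)) i
    simp [mulVec_single] at this
    rw [vecMulVec_apply, this]; ring
  have hφ : (fun k => N j k / a j) ≠ 0 := fun e => h0 (by rw [hN, e]; ext i k; simp [vecMulVec_apply])
  refine ⟨a, _, hv, hφ, ?_, hN⟩
  have h := congrArg (· *ᵥ a) hN
  simp only [vecMulVec_mulVec] at h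
  rw [show N *ᵥ a = 0 by rw [ha, mulVec_mulVec, h2, zero_mulVec]] at h
  have h' := congrFun h j
  simp at h'
  exact h'.resolve_left hj

variable [Fintype F]

/-- Order divisible by `p²` gives a transvection. -/
theorem exists_transvection [Fact p.Prime] [CharP F p] (hF : Fintype.card F = p) (h3 : 3 ≤ p)
    {G : Subgroup (Matrix.SpecialLinearGroup (Fin 3) F)} (h : p ^ 2 ∣ Nat.card G) :
    ∃ a φ : Fin 3 → F, a ≠ 0 ∧ φ ≠ 0 ∧ In G a φ := by
  classical
  have hp : p.Prime := Fact.out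
  obtain ⟨P, hP⟩ := Sylow.exists_subgroup_card_pow_prime p h
  have hab := (IsPGroup.commutative_of_card_eq_prime_sq (G := P) hP)
  let val : G → Matrix (Fin 3) (Fin 3) F := fun g => (g : Matrix.SpecialLinearGroup (Fin 3) F).1
  have hval : ∀ g h, val (g * h) = val g * val h := fun g h => rfl
  have hpow : ∀ g n, val (g ^ n) = val g ^ n := fun g n => by
    induction n with
    | zero => rfl
    | succ n ih => rw [pow_succ, pow_succ, hval, ih]
  have hinj : Function.Injective val := fun g h e => Subtype.ext (Subtype.ext e)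
  have hnil : ∀ g : P, (val g - 1) * (val g - 1) * (val g - 1) = 0 := fun g =>
    nilp_cube hp h3 ⟨2, by
      rw [← hpow]
      have : (g : G) ^ p ^ 2 = 1 := by
        rw [← hP, ← Subgroup.coe_pow, pow_card_eq_one', Subgroup.coe_one]
      rw [this]; rfl⟩
  have hexp : ∀ g : P, g ^ p = 1 := fun g => Subtype.ext (hinj (by
    rw [Subgroup.coe_pow, hpow]
    haveI : CharP (Matrix (Fin 3) (Fin 3) F) p :=
      charP_of_injective_algebraMap (FaithfulSMul.algebraMap_injective F _) p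
    have h1 : (val g - 1) ^ p = val g ^ p - 1 := by
      rw [sub_pow_char_of_commute (R := Matrix (Fin 3) (Fin 3) F) (p := p) (Commute.one_right _), one_pow]
    have h0 : val g ^ p - 1 = 0 := by
      rw [← h1, ← Nat.sub_add_cancel h3, pow_add, pow_succ, pow_two, hnil, mul_zero]
    exact sub_eq_zero.mp h0))
  -- a square-zero one suffices
  suffices hsq : ∃ g : P, (g : G) ≠ 1 ∧ (val g - 1) * (val g - 1) = 0 by
    obtain ⟨g, hg1, hg2⟩ := hsq
    obtain ⟨a, φ, ha, hφ, hdot, hN⟩ := rank_one_of_sq_zero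
      (N := val g - 1) (fun e => hg1 (hinj (by rw [sub_eq_zero.mp e]; rfl))) hg2
    exact ⟨a, φ, ha, hφ, hdot, (g : G), (g : G).2, by rw [tv, ← hN]; exact (add_sub_cancel 1 (val g)).symm⟩
  obtain ⟨g, hg⟩ : ∃ g : P, g ≠ 1 := by
    haveI : Nontrivial P := Finite.one_lt_card_iff_nontrivial.mp (by rw [hP]; exact Nat.one_lt_pow two_ne_zero hp.one_lt)
    exact exists_ne 1
  have hg' : (g : G) ≠ 1 := fun e => hg (Subtype.ext e)
  by_cases hN2 : (val g - 1) * (val g - 1) = 0
  · exact ⟨g, hg', hN2⟩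
  obtain ⟨h', hh'⟩ : ∃ h' : P, h' ∉ Subgroup.zpowers g := by
    by_contra hall
    push Not at hall
    have := Subgroup.card_le_card_group (Subgroup.zpowers g)
    have htop : Subgroup.zpowers g = ⊤ := eq_top_iff.mpr fun x _ => hall x
    have hc := Nat.card_zpowers g
    rw [htop, Subgroup.card_top, hP, orderOf_eq_prime (hexp g) hg] at hc
    nlinarith [hp.two_le]
  obtain ⟨N, hN⟩ : ∃ N, N = val g - 1 := ⟨_, rfl⟩
  obtain ⟨K, hK⟩ : ∃ K, K = val h' - 1 := ⟨_, rfl⟩
  rw [← hN] at hN2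
  have hcomm : K * N = N * K := by
    have : val g * val h' = val h' * val g := by
      rw [← hval, ← hval, ← Subgroup.coe_mul, ← Subgroup.coe_mul, hab g h']
    rw [hK, hN]
    simp only [sub_mul, mul_sub, mul_one, one_mul, this]
    abel
  have hN3 : N * N * N = 0 := hN ▸ hnil g
  have hK3 : K * K * K = 0 := hK ▸ hnil h'
  obtain ⟨v, hv⟩ : ∃ v, (N * N) *ᵥ v ≠ 0 := by
    by_contra hh
    push Not at hh
    exact hN2 (ext_mulVec fun x => by rw [hh x, zero_mulVec])
  have hli : LinearIndependent F ![v, N *ᵥ v, (N * N) *ᵥ v] := by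
    rw [Fintype.linearIndependent_iff]
    intro c hc
    simp only [Fin.sum_univ_three, Matrix.cons_val_zero, Matrix.cons_val_one, Matrix.cons_val_two,
      Matrix.head_cons, Matrix.tail_cons] at hc
    have c0 : c 0 = 0 := by
      have e := congrArg ((N * N) *ᵥ ·) hc
      simp only [mulVec_add, mulVec_smul, mulVec_mulVec, mulVec_zero, hN3, ← Matrix.mul_assoc,
        zero_mulVec, smul_zero, add_zero, Matrix.zero_mul] at e
      exact (smul_eq_zero.mp e).resolve_right hv
    rw [c0, zero_smul, zero_add] at hc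
    have c1 : c 1 = 0 := by
      have e := congrArg (N *ᵥ ·) hc
      simp only [mulVec_add, mulVec_smul, mulVec_mulVec, mulVec_zero, hN3, ← Matrix.mul_assoc,
        zero_mulVec, smul_zero, add_zero] at e
      exact (smul_eq_zero.mp e).resolve_right hv
    rw [c1, zero_smul, zero_add] at hc
    intro i; fin_cases i
    exacts [c0, c1, (smul_eq_zero.mp hc).resolve_right hv]
  let B := basisOfLinearIndependentOfCardEqFinrank hli (by simp)
  have hB : ∀ i, B i = ![v, N *ᵥ v, (N * N) *ᵥ v] i := fun i => by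
    simp [B]
  obtain ⟨a, b, c, habc⟩ : ∃ a b c, K *ᵥ v = a • v + b • (N *ᵥ v) + c • ((N * N) *ᵥ v) :=
    ⟨B.repr (K *ᵥ v) 0, B.repr (K *ᵥ v) 1, B.repr (K *ᵥ v) 2, by
      conv_lhs => rw [← B.sum_repr (K *ᵥ v)]
      simp [Fin.sum_univ_three, hB]⟩
  have hNK : ∀ x, N *ᵥ (K *ᵥ x) = K *ᵥ (N *ᵥ x) := fun x => by rw [mulVec_mulVec, mulVec_mulVec, hcomm]
  have hKN : K *ᵥ (N *ᵥ v) = a • (N *ᵥ v) + b • ((N * N) *ᵥ v) := by
    rw [← hNK, habc]
    simp [mulVec_add, mulVec_smul, mulVec_mulVec, ← Matrix.mul_assoc, hN3]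
  have hKNN : K *ᵥ ((N * N) *ᵥ v) = a • ((N * N) *ᵥ v) := by
    rw [← mulVec_mulVec v N N, ← hNK, hKN]
    simp [mulVec_add, mulVec_smul, mulVec_mulVec, ← Matrix.mul_assoc, hN3]
  have ha : a = 0 := by
    have e : (K * K * K) *ᵥ ((N * N) *ᵥ v) = (a * a * a) • ((N * N) *ᵥ v) := by
      rw [← mulVec_mulVec, ← mulVec_mulVec, hKNN, mulVec_smul, hKNN, mulVec_smul, mulVec_smul, hKNN, smul_smul,
        smul_smul]
    rw [hK3, zero_mulVec] at e
    simpa using (smul_eq_zero.mp e.symm).resolve_right hv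
  have hKeq : K = b • N + c • (N * N) := by
    refine Matrix.toLin'.injective (B.ext fun i => ?_)
    rw [Matrix.toLin'_apply, Matrix.toLin'_apply, hB]
    fin_cases i
    · simp [habc, ha, add_mulVec, smul_mulVec]
    · show K *ᵥ (N *ᵥ v) = (b • N + c • (N * N)) *ᵥ (N *ᵥ v)
      rw [hKN, ha, add_mulVec, smul_mulVec, smul_mulVec, mulVec_mulVec, mulVec_mulVec, hN3, zero_smul,
        zero_add, zero_mulVec, smul_zero, add_zero]
    · show K *ᵥ ((N * N) *ᵥ v) = (b • N + c • (N * N)) *ᵥ ((N * N) *ᵥ v)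
      rw [hKNN, ha, add_mulVec, smul_mulVec, smul_mulVec, mulVec_mulVec, mulVec_mulVec, ← Matrix.mul_assoc N N N,
        hN3, Matrix.mul_assoc N N (N * N), ← Matrix.mul_assoc N N N, hN3, Matrix.mul_zero, zero_smul, zero_mulVec,
        smul_zero, smul_zero, add_zero]
  obtain ⟨z, hz⟩ := (ZMod.ringEquiv F hF).surjective (-b)
  obtain ⟨j, hj⟩ : ∃ j : ℕ, (j : F) = -b :=
    ⟨z.val, by rw [← hz, ← map_natCast (ZMod.ringEquiv F hF), ZMod.natCast_zmod_val]⟩
  obtain ⟨e, he⟩ := one_add_pow (F := F) N hN3 j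
  refine ⟨h' * g ^ j, fun q => hh' ?_, ?_⟩
  · have q' : h' * g ^ j = 1 := Subtype.ext q
    rw [eq_inv_of_mul_eq_one_left q']
    exact Subgroup.inv_mem _ (Subgroup.pow_mem _ (Subgroup.mem_zpowers g) j)
  · have hv' : val ((h' * g ^ j : P) : G) - 1 = (c + e - b * b) • (N * N) := by
      rw [Subgroup.coe_mul, Subgroup.coe_pow, hval, hpow, show val h' = 1 + K by rw [hK, add_sub_cancel],
        show val g = 1 + N by rw [hN, add_sub_cancel], he, hKeq, hj]
      simp only [mul_add, add_mul, one_mul, mul_one, smul_mul_assoc, mul_smul_comm, hN3, smul_zero,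
        show N * (N * N) = 0 by rw [← Matrix.mul_assoc, hN3], show N * N * (N * N) = 0 by
          rw [← Matrix.mul_assoc, hN3, Matrix.zero_mul], smul_smul, add_zero]
      module
    rw [hv', smul_mul_assoc, mul_smul_comm, ← Matrix.mul_assoc, hN3, Matrix.zero_mul, smul_zero, smul_zero]

theorem sum_pw (h : Om ω) {d : Fin 3 × Fin 3} (hd : d ≠ 0) :
    ∑ f : Fin 3 × Fin 3, pw ω (f.2 * d.1 - d.2 * f.1) = 0 := by
  obtain ⟨f0, hf0⟩ := (show ∀ d : Fin 3 × Fin 3, d ≠ 0 → ∃ f : Fin 3 × Fin 3, f.2 * d.1 - d.2 * f.1 = 1 by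
    decide +kernel) d hd
  have e : pw ω 1 * ∑ f : Fin 3 × Fin 3, pw ω (f.2 * d.1 - d.2 * f.1) =
      ∑ f : Fin 3 × Fin 3, pw ω (f.2 * d.1 - d.2 * f.1) := by
    rw [Finset.mul_sum]
    refine Fintype.sum_equiv (Equiv.addLeft f0) _ _ fun f => ?_
    rw [← pw_add h, ← hf0]
    congr 1
    revert d f f0
    decide +kernel
  rw [pw_one_val] at e
  refine (mul_left_eq_self₀.mp e).resolve_left h.ne_one

/-- No three-dimensional space of matrices is invariant under the standard elements. -/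
theorem no_three_space (hω : Om ω) {W : Submodule F (Matrix (Fin 3) (Fin 3) F)} (hW : finrank F W = 3)
    (hr : ∀ e, ∀ X ∈ W, ∀ Y, rm ω e * Y = 1 → rm ω e * X * Y ∈ W)
    (hq : ∀ k, ∀ X ∈ W, ∀ Y, qm ω k * Y = 1 → qm ω k * X * Y ∈ W) : False := by
  classical
  have hrinv : ∀ e, rm ω e * (pw ω (-(e.2 * (-e).1)) • rm ω (-e)) = 1 := fun e => by
    rw [Matrix.mul_smul, rm_mul hω, add_neg_cancel, rm_zero, smul_smul, ← pw_add hω, neg_add_cancel, pw_zero,
      one_smul]
  have hcomp : ∀ X ∈ W, ∀ c : Fin 3 × Fin 3 → F, X = ∑ e, c e • rm ω e → ∀ e, c e ≠ 0 → rm ω e ∈ W := by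
    intro X hX c hc e0 hc0
    have hsum : ∑ f : Fin 3 × Fin 3, pw ω (-(f.2 * e0.1 - e0.2 * f.1)) •
        (rm ω f * X * (pw ω (-(f.2 * (-f).1)) • rm ω (-f))) ∈ W :=
      Submodule.sum_mem _ fun f _ => W.smul_mem _ (hr f X hX _ (hrinv f))
    have hterm : ∀ f, rm ω f * X * (pw ω (-(f.2 * (-f).1)) • rm ω (-f)) =
        ∑ e, (pw ω (f.2 * e.1 - e.2 * f.1) * c e) • rm ω e := fun f => by
      rw [hc, Matrix.mul_sum, Matrix.sum_mul]
      refine Finset.sum_congr rfl fun e _ => ?_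
      simp only [Matrix.mul_smul, Matrix.smul_mul, rm_comm hω f e, Matrix.mul_assoc, smul_smul]
      rw [rm_mul hω f (-f), add_neg_cancel, rm_zero, Matrix.mul_smul, Matrix.mul_one, smul_smul]
      congr 1
      have h1 : pw ω (-(f.2 * (-f).1)) * pw ω (f.2 * (-f).1) = 1 := by
        rw [← pw_add hω, neg_add_cancel, pw_zero]
      linear_combination (c e * pw ω (f.2 * e.1 - e.2 * f.1)) * h1
    simp only [hterm, Finset.smul_sum, smul_smul] at hsum
    rw [Finset.sum_comm] at hsum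
    simp only [← mul_assoc, ← Finset.sum_smul, ← Finset.sum_mul] at hsum
    rw [Finset.sum_eq_single e0] at hsum
    · have h1 : (∑ f : Fin 3 × Fin 3, pw ω (-(f.2 * e0.1 - e0.2 * f.1)) * pw ω (f.2 * e0.1 - e0.2 * f.1)) = 9 := by
        simp only [← pw_add hω, neg_add_cancel, pw_zero, Finset.sum_const, Finset.card_univ, Fintype.card_prod,
          Fintype.card_fin]
        norm_num
      rw [h1] at hsum
      have h9 : (9 : F) * c e0 ≠ 0 := mul_ne_zero (by
        rw [show (9 : F) = 3 * 3 by norm_num]; exact mul_ne_zero hω.three hω.three) hc0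
      have := W.smul_mem ((9 : F) * c e0)⁻¹ hsum
      rwa [smul_smul, inv_mul_cancel₀ h9, one_smul] at this
    · intro e _ he
      have h0 : (∑ f : Fin 3 × Fin 3, pw ω (-(f.2 * e0.1 - e0.2 * f.1)) * pw ω (f.2 * e.1 - e.2 * f.1)) = 0 := by
        rw [← sum_pw hω (sub_ne_zero.mpr he)]
        refine Finset.sum_congr rfl fun f _ => ?_
        rw [← pw_add hω]
        congr 1
        exact (show ∀ e e0 f : Fin 3 × Fin 3,
          -(f.2 * e0.1 - e0.2 * f.1) + (f.2 * e.1 - e.2 * f.1) = f.2 * (e - e0).1 - (e - e0).2 * f.1 by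
            decide +kernel) e e0 f
      rw [h0, zero_mul, zero_smul]
    · simp
  obtain ⟨e, he, heW⟩ : ∃ e, e ≠ 0 ∧ rm ω e ∈ W := by
    by_contra hno
    push Not at hno
    have hle : W ≤ Submodule.span F {(1 : Matrix (Fin 3) (Fin 3) F)} := fun X hX => by
      obtain ⟨c, hc⟩ := Submodule.mem_span_range_iff_exists_fun F |>.mp
        (span_rm hω ▸ (Submodule.mem_top : X ∈ ⊤))
      rw [← hc, Finset.sum_eq_single 0]
      · rw [rm_zero]; exact Submodule.mem_span_singleton.mpr ⟨c 0, rfl⟩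
      · intro e _ he
        have hce : c e = 0 := by
          by_contra hce
          exact hno e he (hcomp X hX c hc.symm e hce)
        rw [hce, zero_smul]
      · simp
    have := Submodule.finrank_mono hle
    rw [hW, finrank_span_singleton one_ne_zero] at this
    omega
  have hqinv : ∀ k, qm ω k * (qm ω k * Tm ω 0) = 1 := fun k => by
    rw [← Matrix.mul_assoc, qm_sq hω, Tm_mul_self hω]
  have hact : ∀ k e, rm ω e ∈ W → rm ω (act k e) ∈ W := fun k e h => by
    have h1 := hq k _ h _ (hqinv k)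
    obtain ⟨c, hc⟩ := qm_rm hω k e
    rw [hc, Matrix.smul_mul, Matrix.mul_assoc, hqinv, Matrix.mul_one] at h1
    have := W.smul_mem (pw ω c)⁻¹ h1
    rwa [smul_smul, inv_mul_cancel₀ (pw_ne_zero hω c), one_smul] at this
  have h10 : rm ω (1, 0) ∈ W := by
    have key : ∀ e : Fin 3 × Fin 3, e ≠ 0 → e = (1, 0) ∨ (∃ k, (1, 0) = act k e) ∨
        ∃ k l, (1, 0) = act k (act l e) := by decide +kernel
    rcases key e he with rfl | ⟨k, hk⟩ | ⟨k, l, hk⟩
    · exact heW
    · rw [hk]; exact hact k e heW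
    · rw [hk]; exact hact k _ (hact l e heW)
  have hall : ∀ f, f ≠ 0 → rm ω f ∈ W := fun f hf => by
    rcases act_cover f hf with rfl | ⟨k, rfl⟩ | ⟨k, l, rfl⟩
    · exact h10
    · exact hact k _ h10
    · exact hact k _ (hact l _ h10)
  have hli : LinearIndependent F (fun f : {f : Fin 3 × Fin 3 // f ≠ 0} => (⟨rm ω f, hall f f.2⟩ : W)) := by
    rw [Fintype.linearIndependent_iff]
    intro c hc g
    have e1 := congrArg (fun X : W => ((X : Matrix (Fin 3) (Fin 3) F) * rm ω (-(g : Fin 3 × Fin 3))).trace) hc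
    simp only [AddSubmonoidClass.coe_finsetSum, Submodule.coe_smul, Matrix.sum_mul, Matrix.smul_mul,
      Matrix.trace_sum, Matrix.trace_smul, ZeroMemClass.coe_zero, Matrix.zero_mul, Matrix.trace_zero] at e1
    rw [Finset.sum_eq_single g] at e1
    · rw [rm_mul hω, add_neg_cancel, rm_zero, Matrix.trace_smul, Matrix.trace_one, Fintype.card_fin] at e1
      simpa [pw_ne_zero hω, hω.three] using e1
    · intro f _ hf
      rw [rm_mul hω, Matrix.trace_smul, trace_rm hω (fun q => hf (Subtype.ext (add_neg_eq_zero.mp q))), smul_zero,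
        smul_zero]
    · simp
  have := hli.fintype_card_le_finrank
  rw [hW] at this
  have h8 : Fintype.card {f : Fin 3 × Fin 3 // f ≠ 0} = 8 := by simp [Fintype.card_subtype_compl]
  omega

/-- **The dichotomy.** -/
theorem permutes_or_top [Fact p.Prime] [CharP F p] (hF : Fintype.card F = p) (h7 : 7 ≤ p) (hω : Om ω)
    (G : Subgroup (Matrix.SpecialLinearGroup (Fin 3) F))
    (hr : ∀ e, ∃ g ∈ G, g.1 = rm ω e) (hz : ∃ g ∈ G, g.1 = pw ω 1 • (1 : Matrix (Fin 3) (Fin 3) F))
    (ht : ∀ e, ∃ g ∈ G, g.1 = Tm ω e) (hq : ∀ k, ∃ g ∈ G, g.1 = qm ω k) :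
    (∀ g ∈ G, ∀ e, ∃ f, g.1 * Tm ω e = Tm ω f * g.1) ∨ G = ⊤ := by
  classical
  have hp : p.Prime := Fact.out
  let σ : G →* Matrix (Fin 3) (Fin 3) F :=
    { toFun := fun g => (g : Matrix.SpecialLinearGroup (Fin 3) F).1
      map_one' := rfl
      map_mul' := fun _ _ => rfl }
  choose r hr1 hr2 using hr
  choose t ht1 ht2 using ht
  choose q hq1 hq2 using hq
  obtain ⟨z, hz1, hz2⟩ := hz
  let C : Ctx G ω :=
    { om := hω, σ := σ, inj := fun a b h => Subtype.ext (Subtype.ext h), det := fun g => g.1.2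
      r := fun e => ⟨r e, hr1 e⟩, hr := hr2, z := ⟨z, hz1⟩, hz := hz2
      t := fun e => ⟨t e, ht1 e⟩, ht := ht2, q := fun k => ⟨q k, hq1 k⟩, hq := hq2 }
  by_cases hG : p ∣ Nat.card G
  swap
  · left
    intro g hg e
    obtain ⟨f, hf⟩ := C.permutes hp h7 hG ⟨g, hg⟩ e
    refine ⟨f, ?_⟩
    rw [mul_inv_eq_iff_eq_mul] at hf
    have := congrArg σ hf
    rw [map_mul, map_mul] at this
    rwa [show σ (C.t e) = Tm ω e from ht2 e, show σ (C.t f) = Tm ω f from ht2 f] at this
  right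
  by_cases hG2 : p ^ 2 ∣ Nat.card G
  · obtain ⟨a, φ, ha, hφ, hin⟩ := exists_transvection hF (by omega) hG2
    exact top_of_transvection hF hω (fun e => ⟨r e, hr1 e, hr2 e⟩) hin ha hφ
  exfalso
  haveI := Fintype.ofFinite G
  obtain ⟨x, hx⟩ := exists_prime_orderOf_dvd_card' p hG
  let τ : G →* Module.End F (Fin 3 → F) :=
    (Matrix.toLinAlgEquiv' : Matrix (Fin 3) (Fin 3) F ≃ₐ[F] _).toMonoidHom.comp σ
  obtain ⟨W, hW3, hWst⟩ := exists_three_summand (n := 3) hp (by norm_num) (by omega) hG2 τ hx fun e => by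
    have : x = 1 := C.inj (Matrix.toLinAlgEquiv'.injective (e.trans (map_one τ).symm))
    rw [this, orderOf_one] at hx
    omega
  let W' : Submodule F (Matrix (Fin 3) (Fin 3) F) :=
    W.comap (Matrix.toLinAlgEquiv' : Matrix (Fin 3) (Fin 3) F ≃ₐ[F] _).toLinearMap
  have hW' : finrank F W' = 3 := by
    exact (LinearEquiv.finrank_eq ((Matrix.toLinAlgEquiv' :
      Matrix (Fin 3) (Fin 3) F ≃ₐ[F] _).toLinearEquiv.ofSubmodule' W)).trans hW3
  have hst : ∀ g : G, ∀ X ∈ W', ∀ Y, σ g * Y = 1 → σ g * X * Y ∈ W' := by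
    intro g X hX Y hY
    have e : Y = σ g⁻¹ := by
      calc Y = σ g⁻¹ * σ g * Y := by rw [← map_mul, inv_mul_cancel, map_one, Matrix.one_mul]
        _ = _ := by rw [Matrix.mul_assoc, hY, Matrix.mul_one]
    show Matrix.toLinAlgEquiv' (σ g * X * Y) ∈ W
    rw [e, map_mul, map_mul]
    exact hWst g _ hX
  exact no_three_space hω hW' (fun e X hX Y hY => by
      rw [← show σ (C.r e) = rm ω e from hr2 e] at hY ⊢; exact hst _ X hX Y hY)
    (fun k X hX Y hY => by rw [← show σ (C.q k) = qm ω k from hq2 k] at hY ⊢; exact hst _ X hX Y hY)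

end Cfsg.Agent.Classical.LinThree.Hess
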