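import Mathlib.LinearAlgebra.Matrix.GeneralLinearGroup.Defs
import Mathlib

/-!
# The standard extraspecial group of order `27` in dimension three and elements normalising it

`rm e` are the Weyl operators `S^a D^b`, `Tm e` the nine involutions inverting them, and `qm k` three
elements of order four with square `Tm 0`.
-/

set_option autoImplicit false
set_option linter.unusedSectionVars false

namespace Cfsg.Agent.Classical.LinThree.Hess

open Matrix

variable {F : Type*} [Field F]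

/-- `ω` is a primitive cube root of unity. -/
structure Om (ω : F) : Prop where
  root : ω * ω + ω + 1 = 0
  three : (3 : F) ≠ 0

/-- Powers indexed by `Fin 3`. -/
def pw (ω : F) (x : Fin 3) : F := ω ^ (x : ℕ)

variable {ω : F}

theorem Om.cube (h : Om ω) : ω * ω * ω = 1 := by linear_combination (ω - 1) * h.root

theorem Om.ne_zero (h : Om ω) : ω ≠ 0 := fun e => by simpa [e] using h.cube

theorem Om.ne_one (h : Om ω) : ω ≠ 1 := fun e => h.three (by
  have := h.root
  rw [e] at this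
  linear_combination this)

theorem pw_zero (ω : F) : pw ω 0 = 1 := by simp [pw]

theorem pw_add (h : Om ω) (x y : Fin 3) : pw ω (x + y) = pw ω x * pw ω y := by
  have := h.cube
  fin_cases x <;> fin_cases y <;> simp [pw, Fin.val_add] <;> grind

theorem pw_ne_zero (h : Om ω) (x : Fin 3) : pw ω x ≠ 0 := pow_ne_zero _ h.ne_zero

theorem pw_eq_one (h : Om ω) {x : Fin 3} (e : pw ω x = 1) : x = 0 := by
  have h1 := h.ne_one
  have := h.cube
  fin_cases x <;> simp [pw] at e ⊢ <;> grind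

theorem pw_injective (h : Om ω) : Function.Injective (pw ω) := fun x y e => by
  refine sub_eq_zero.mp (pw_eq_one h (mul_right_cancel₀ (pw_ne_zero h y) ?_))
  rw [← pw_add h, sub_add_cancel, e, one_mul]

/-- A monomial matrix with cube roots of unity as entries. -/
def mono (ω : F) (s φ : Fin 3 → Fin 3) : Matrix (Fin 3) (Fin 3) F :=
  Matrix.of fun i j => if j = s i then pw ω (φ i) else 0

theorem pw_one_val (ω : F) : pw ω 1 = ω := by simp [pw]

theorem pw_two_val (ω : F) : pw ω 2 = ω * ω := by simp [pw, pow_two]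

theorem fin_three_facts : (-1 : Fin 3) = 2 ∧ (-2 : Fin 3) = 1 := by decide

theorem mono_mul (s φ : Fin 3 → Fin 3) (X : Matrix (Fin 3) (Fin 3) F) :
    mono ω s φ * X = Matrix.of fun i j => pw ω (φ i) * X (s i) j := by
  ext i j
  rw [Matrix.mul_apply, Finset.sum_eq_single (s i) (fun l _ hl => by simp [mono, hl]) (by simp)]
  simp [mono]

theorem mul_mono (s φ τ : Fin 3 → Fin 3) (hτ : ∀ l j, j = s l ↔ l = τ j) (X : Matrix (Fin 3) (Fin 3) F) :
    X * mono ω s φ = Matrix.of fun i j => X i (τ j) * pw ω (φ (τ j)) := by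
  ext i j
  rw [Matrix.mul_apply, Finset.sum_eq_single (τ j) (fun l _ hl => by
    rw [mono, Matrix.of_apply, if_neg (fun q => hl ((hτ l j).mp q)), mul_zero]) (by simp)]
  rw [mono, Matrix.of_apply, if_pos ((hτ (τ j) j).mpr rfl), Matrix.of_apply]

theorem mono_mul_mono (h : Om ω) (s φ s' φ' : Fin 3 → Fin 3) :
    mono ω s φ * mono ω s' φ' = mono ω (fun i => s' (s i)) (fun i => φ i + φ' (s i)) := by
  ext i j
  rw [mono_mul]
  simp [mono, pw_add h]

theorem mono_smul (h : Om ω) {s φ s' φ' : Fin 3 → Fin 3} {c : Fin 3}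
    (hs : ∀ i, s i = s' i ∧ φ i = c + φ' i) : mono ω s φ = pw ω c • mono ω s' φ' := by
  ext i j
  obtain ⟨e1, e2⟩ := hs i
  simp [mono, e1, e2, pw_add h]

theorem mono_congr {s φ s' φ' : Fin 3 → Fin 3} (hs : ∀ i, s i = s' i ∧ φ i = φ' i) :
    mono ω s φ = mono ω s' φ' := by
  rw [funext fun i => (hs i).1, funext fun i => (hs i).2]

/-- `S^a D^b`. -/
def rm (ω : F) (e : Fin 3 × Fin 3) : Matrix (Fin 3) (Fin 3) F :=
  mono ω (fun i => i - e.1) fun i => e.2 * (i - e.1)

/-- The nine involutions. -/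
def Tm (ω : F) (e : Fin 3 × Fin 3) : Matrix (Fin 3) (Fin 3) F :=
  -mono ω (fun i => e.1 + e.1 - i) fun i => e.2 * (i + i - (e.1 + e.1))

/-- The unscaled quarter turns. -/
def Fm (ω : F) (k : Fin 3) : Matrix (Fin 3) (Fin 3) F :=
  Matrix.of fun i j => pw ω (k * (i * i - j * j) + i * j)

/-- The action of the quarter turns on the indices. -/
def act (k : Fin 3) (e : Fin 3 × Fin 3) : Fin 3 × Fin 3 :=
  (-(k * e.1) - e.2, e.1 * (1 + k * k) + k * e.2)

theorem rm_zero : rm ω 0 = 1 := by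
  ext i j
  simp [rm, mono, Matrix.one_apply, pw_zero, eq_comm]

theorem rm_mul (h : Om ω) (e f : Fin 3 × Fin 3) :
    rm ω e * rm ω f = pw ω (e.2 * f.1) • rm ω (e + f) := by
  rw [rm, rm, mono_mul_mono h]
  refine mono_smul h ?_
  revert e f
  decide +kernel

theorem rm_comm (h : Om ω) (e f : Fin 3 × Fin 3) :
    rm ω e * rm ω f = pw ω (e.2 * f.1 - f.2 * e.1) • (rm ω f * rm ω e) := by
  rw [rm_mul h, rm_mul h, add_comm f e, smul_smul, ← pw_add h, sub_add_cancel]

theorem Tm_mul_self (h : Om ω) (e : Fin 3 × Fin 3) : Tm ω e * Tm ω e = 1 := by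
  rw [Tm, neg_mul_neg, mono_mul_mono h, ← rm_zero (ω := ω), rm]
  refine mono_congr ?_
  revert e
  decide +kernel

theorem Tm_mul_rm (h : Om ω) (e f : Fin 3 × Fin 3) :
    Tm ω (e + f) * rm ω e = rm ω e * Tm ω f := by
  rw [Tm, Tm, rm, Matrix.neg_mul, Matrix.mul_neg, mono_mul_mono h, mono_mul_mono h]
  refine congrArg Neg.neg (mono_congr ?_)
  revert e f
  decide +kernel

theorem Tm_zero_rm (h : Om ω) (e : Fin 3 × Fin 3) :
    ∃ c, Tm ω 0 * rm ω e = pw ω c • (rm ω (-e) * Tm ω 0) := by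
  obtain ⟨c, hc⟩ : ∃ c : Fin 3, ∀ i : Fin 3,
      (((0 : Fin 3) + 0 - i) - e.1 = ((0 : Fin 3) + 0 - (i - (-e).1)) ∧
      (0 : Fin 3) * (i + i - (0 + 0)) + e.2 * ((0 + 0 - i) - e.1) =
        c + ((-e).2 * (i - (-e).1) + 0 * ((i - (-e).1) + (i - (-e).1) - (0 + 0)))) := by
    revert e
    decide +kernel
  refine ⟨c, ?_⟩
  rw [Tm, rm, rm, Matrix.neg_mul, Matrix.mul_neg, mono_mul_mono h, mono_mul_mono h, smul_neg]
  exact congrArg Neg.neg (mono_smul h hc)

theorem Tm_mul_Tm (h : Om ω) (e f : Fin 3 × Fin 3) :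
    ∃ c, Tm ω e * Tm ω f = pw ω c • rm ω (e - f + (e - f)) := by
  obtain ⟨c, hc⟩ : ∃ c : Fin 3, ∀ i : Fin 3,
      (f.1 + f.1 - (e.1 + e.1 - i)) = i - (e - f + (e - f)).1 ∧
      e.2 * (i + i - (e.1 + e.1)) + f.2 * ((e.1 + e.1 - i) + (e.1 + e.1 - i) - (f.1 + f.1)) =
        c + (e - f + (e - f)).2 * (i - (e - f + (e - f)).1) := by
    revert e f
    decide +kernel
  refine ⟨c, ?_⟩
  rw [Tm, Tm, neg_mul_neg, mono_mul_mono h]
  exact mono_smul h hc

theorem Fm_rm (h : Om ω) (k : Fin 3) (e : Fin 3 × Fin 3) :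
    ∃ c, Fm ω k * rm ω e = pw ω c • (rm ω (act k e) * Fm ω k) := by
  obtain ⟨c, hc⟩ : ∃ c : Fin 3, ∀ i j : Fin 3,
      k * (i * i - (j + e.1) * (j + e.1)) + i * (j + e.1) + e.2 * (j + e.1 - e.1) =
      c + ((act k e).2 * (i - (act k e).1) +
        (k * ((i - (act k e).1) * (i - (act k e).1) - j * j) + (i - (act k e).1) * j)) := by
    revert k e
    decide +kernel
  refine ⟨c, ?_⟩
  rw [rm, rm, mul_mono _ _ (fun j => j + e.1) (fun l j => by constructor <;> intro q <;> rw [q] <;> abel),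
    mono_mul]
  ext i j
  simp only [Matrix.of_apply, Matrix.smul_apply, Fm, smul_eq_mul, ← pw_add h, hc i j]

theorem Fm_Tm (h : Om ω) (k : Fin 3) (e : Fin 3 × Fin 3) :
    Fm ω k * Tm ω e = Tm ω (act k e) * Fm ω k := by
  have hc : ∀ i j : Fin 3,
      k * (i * i - (e.1 + e.1 - j) * (e.1 + e.1 - j)) + i * (e.1 + e.1 - j) +
          e.2 * ((e.1 + e.1 - j) + (e.1 + e.1 - j) - (e.1 + e.1)) =
      (act k e).2 * (i + i - ((act k e).1 + (act k e).1)) +
        (k * (((act k e).1 + (act k e).1 - i) * ((act k e).1 + (act k e).1 - i) - j * j) +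
          ((act k e).1 + (act k e).1 - i) * j) := by
    revert k e
    decide +kernel
  rw [Tm, Tm, Matrix.mul_neg, Matrix.neg_mul,
    mul_mono _ _ (fun j => e.1 + e.1 - j) (fun l j => by constructor <;> intro q <;> rw [q] <;> abel),
    mono_mul]
  refine congrArg Neg.neg ?_
  ext i j
  simp only [Matrix.of_apply, Fm, ← pw_add h, hc i j]

theorem Fm_sq (h : Om ω) (k : Fin 3) : Fm ω k * Fm ω k = (-3 : F) • Tm ω 0 := by
  have := h.root
  ext i j
  fin_cases k <;> fin_cases i <;> fin_cases j <;>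
    simp [Fm, Tm, mono, Matrix.mul_apply, Fin.sum_univ_three, pw_zero, pw_one_val, pw_two_val, fin_three_facts] <;> grind

theorem det_Fm (h : Om ω) (k : Fin 3) : (Fm ω k).det = (3 : F) * (ω * ω - ω) := by
  have := h.root
  fin_cases k <;> simp [Fm, Matrix.det_fin_three, pw_zero, pw_one_val, pw_two_val, fin_three_facts] <;> grind

/-- The quarter turns. -/
def qm (ω : F) (k : Fin 3) : Matrix (Fin 3) (Fin 3) F := (ω - ω * ω)⁻¹ • Fm ω k

theorem Om.gauss_sq (h : Om ω) : (ω - ω * ω) * (ω - ω * ω) = -3 := by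
  linear_combination (ω * ω - 3 * ω + 3) * h.root

theorem Om.gauss_ne (h : Om ω) : ω - ω * ω ≠ 0 := fun e => h.three (by
  have := h.gauss_sq
  rw [e] at this
  linear_combination this)

theorem qm_sq (h : Om ω) (k : Fin 3) : qm ω k * qm ω k = Tm ω 0 := by
  rw [qm, Matrix.smul_mul, Matrix.mul_smul, Fm_sq h, smul_smul, smul_smul, ← mul_inv, h.gauss_sq,
    inv_mul_cancel₀ (neg_ne_zero.mpr h.three), one_smul]

theorem det_qm (h : Om ω) (k : Fin 3) : (qm ω k).det = 1 := by
  rw [qm, Matrix.det_smul, det_Fm h, Fintype.card_fin]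
  have := h.gauss_ne
  have := h.gauss_sq
  field_simp
  grind

theorem qm_Tm (h : Om ω) (k : Fin 3) (e : Fin 3 × Fin 3) : qm ω k * Tm ω e = Tm ω (act k e) * qm ω k := by
  rw [qm, Matrix.smul_mul, Matrix.mul_smul, Fm_Tm h]

theorem qm_rm (h : Om ω) (k : Fin 3) (e : Fin 3 × Fin 3) :
    ∃ c, qm ω k * rm ω e = pw ω c • (rm ω (act k e) * qm ω k) := by
  obtain ⟨c, hc⟩ := Fm_rm h k e
  exact ⟨c, by rw [qm, Matrix.smul_mul, Matrix.mul_smul, hc, smul_comm]⟩

theorem det_rm (h : Om ω) (e : Fin 3 × Fin 3) : (rm ω e).det = 1 := by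
  have := h.cube
  obtain ⟨a, b⟩ := e
  fin_cases a <;> fin_cases b <;> simp [rm, mono, Matrix.det_fin_three, pw_zero, pw_one_val, pw_two_val, fin_three_facts] <;> grind

theorem det_Tm (h : Om ω) (e : Fin 3 × Fin 3) : (Tm ω e).det = 1 := by
  have := h.cube
  obtain ⟨a, b⟩ := e
  fin_cases a <;> fin_cases b <;> simp [Tm, mono, Matrix.det_fin_three, pw_zero, pw_one_val, pw_two_val, fin_three_facts] <;> grind

theorem trace_Tm (h : Om ω) (e : Fin 3 × Fin 3) : (Tm ω e).trace = -1 := by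
  have := h.cube
  obtain ⟨a, b⟩ := e
  rw [Matrix.trace, Fin.sum_univ_three]
  fin_cases a <;> fin_cases b <;> simp [Tm, mono, pw_zero, pw_one_val, pw_two_val, fin_three_facts]

theorem trace_rm (h : Om ω) {e : Fin 3 × Fin 3} (he : e ≠ 0) : (rm ω e).trace = 0 := by
  have := h.root
  obtain ⟨a, b⟩ := e
  rw [Matrix.trace, Fin.sum_univ_three]
  fin_cases a <;> fin_cases b <;>
    first
      | exact absurd rfl he
      | (simp [rm, mono, pw_zero, pw_one_val, pw_two_val, fin_three_facts]; done)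
      | (simp [rm, mono, pw_zero, pw_one_val, pw_two_val, fin_three_facts]; grind)

theorem two_torsion : ∀ e f : Fin 3 × Fin 3, f - e + (f - e) = 0 → e = f := by decide +kernel

theorem Tm_injective (h : Om ω) {e f : Fin 3 × Fin 3} (he : Tm ω e = Tm ω f) : e = f := by
  by_contra hne
  have h1 := Tm_mul_self h f
  obtain ⟨c, hc⟩ := Tm_mul_Tm h f e
  rw [he, h1] at hc
  have h2 := congrArg Matrix.trace hc
  rw [Matrix.trace_smul, trace_rm h, smul_zero, Matrix.trace_one, Fintype.card_fin] at h2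
  · exact h.three (by exact_mod_cast h2)
  · exact fun q => hne (two_torsion e f q)

/-- The matrix units are combinations of the Weyl operators. -/
theorem single_eq (h : Om ω) (i j : Fin 3) :
    Matrix.single i j (3 : F) = ∑ b, pw ω (-(b * j)) • rm ω (i - j, b) := by
  have := h.root
  ext a c
  fin_cases i <;> fin_cases j <;> fin_cases a <;> fin_cases c <;>
    simp [rm, mono, Matrix.single, Fin.sum_univ_three, pw_zero, pw_one_val, pw_two_val, fin_three_facts, Matrix.sum_apply] <;> grind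

theorem span_rm (h : Om ω) : Submodule.span F (Set.range (rm ω)) = ⊤ := by
  rw [eq_top_iff]
  intro X _
  rw [Matrix.matrix_eq_sum_single X]
  refine Submodule.sum_mem _ fun i _ => Submodule.sum_mem _ fun j _ => ?_
  have e : Matrix.single i j (X i j) = (X i j * (3 : F)⁻¹) • Matrix.single i j (3 : F) := by
    rw [Matrix.smul_single, smul_eq_mul, mul_assoc, inv_mul_cancel₀ h.three, mul_one]
  rw [e, single_eq h]
  exact Submodule.smul_mem _ _ (Submodule.sum_mem _ fun b _ =>
    Submodule.smul_mem _ _ (Submodule.subset_span ⟨_, rfl⟩))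

theorem scalar_of_commute (h : Om ω) {X : Matrix (Fin 3) (Fin 3) F}
    (hX : ∀ e, X * rm ω e = rm ω e * X) : ∃ c : F, X = c • (1 : Matrix (Fin 3) (Fin 3) F) := by
  have hall : ∀ Y, X * Y = Y * X := fun Y => by
    have hY : Y ∈ Submodule.span F (Set.range (rm ω)) := span_rm h ▸ Submodule.mem_top
    induction hY using Submodule.span_induction with
    | mem y hy => obtain ⟨e, rfl⟩ := hy; exact hX e
    | zero => simp
    | add a b _ _ ha hb => rw [mul_add, add_mul, ha, hb]
    | smul c a _ ha => rw [Matrix.mul_smul, Matrix.smul_mul, ha]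
  obtain ⟨c, hc⟩ := Matrix.mem_range_scalar_of_commute_single (M := X) fun i j _ => (hall _).symm
  exact ⟨c, by rw [← hc]; ext i j; simp [Matrix.scalar_apply, Matrix.one_apply, Matrix.diagonal_apply]⟩

theorem act_add (k : Fin 3) (e f : Fin 3 × Fin 3) : act k (e + f) = act k e + act k f := by
  revert k e f
  decide +kernel

theorem act_act (k : Fin 3) (e : Fin 3 × Fin 3) : act k (act k e) = -e := by
  revert k e
  decide +kernel

theorem act_cover : ∀ e : Fin 3 × Fin 3, e ≠ 0 → e = (1, 0) ∨ (∃ k, e = act k (1, 0)) ∨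
    ∃ k l, e = act k (act l (1, 0)) := by
  decide +kernel

end Cfsg.Agent.Classical.LinThree.Hess
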