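import Cfsg.Agent.Lib.Classical.LinThree.HessLift
import Cfsg.Agent.Lib.Classical.LinThree.HessStd
import Cfsg.Agent.Lib.Char.KGVAbelian

/-!
# In a `p'`-group containing the Weyl operators and the quarter turns, the standard involution is the
only involution commuting with it

The nine values `χ (u t_e)` of such an involution satisfy two quadratic identities, and the products of
`u` with its images under the quarter turns give algebraic integers in `[-1/2, 1]` at every embedding.
-/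

set_option autoImplicit false
set_option linter.style.haveILetI false
set_option linter.unusedSectionVars false

open Cfsg Module
open scoped Matrix ComplexConjugate

namespace Cfsg.Agent.Classical.LinThree.Hess

universe u v

/-- A group acting on a three-dimensional space and containing the standard elements. -/
structure Ctx {F : Type v} [Field F] (G : Type u) [Group G] (ω : F) where
  om : Om ω
  σ : G →* Matrix (Fin 3) (Fin 3) F
  inj : Function.Injective σ
  det : ∀ g, (σ g).det = 1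
  r : Fin 3 × Fin 3 → G
  hr : ∀ e, σ (r e) = rm ω e
  z : G
  hz : σ z = pw ω 1 • (1 : Matrix (Fin 3) (Fin 3) F)
  t : Fin 3 × Fin 3 → G
  ht : ∀ e, σ (t e) = Tm ω e
  q : Fin 3 → G
  hq : ∀ k, σ (q k) = qm ω k

variable {F : Type v} [Field F] {G : Type u} [Group G] {ω : F}

namespace Ctx

variable (C : Ctx G ω)

theorem pw_one_pow (h : Om ω) (c : Fin 3) : pw ω 1 ^ (c : ℕ) = pw ω c := by
  rw [pw_one_val]; rfl

theorem z_pow (c : Fin 3) : C.σ (C.z ^ (c : ℕ)) = pw ω c • (1 : Matrix (Fin 3) (Fin 3) F) := by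
  rw [map_pow, C.hz, smul_pow, one_pow, pw_one_pow C.om]

theorem z_comm (g : G) : C.z * g = g * C.z := C.inj (by
  rw [map_mul, map_mul, C.hz, Matrix.smul_mul, Matrix.mul_smul, Matrix.one_mul, Matrix.mul_one])

theorem t_sq (e : Fin 3 × Fin 3) : C.t e * C.t e = 1 := C.inj (by
  rw [map_mul, map_one, C.ht, Tm_mul_self C.om])

theorem q_sq (k : Fin 3) : C.q k * C.q k = C.t 0 := C.inj (by
  rw [map_mul, C.hq, C.ht, qm_sq C.om])

theorem q_t (k : Fin 3) (e : Fin 3 × Fin 3) : C.q k * C.t e * (C.q k)⁻¹ = C.t (act k e) := by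
  rw [mul_inv_eq_iff_eq_mul]
  exact C.inj (by rw [map_mul, map_mul, C.hq, C.ht, C.ht, qm_Tm C.om])

theorem t_zero_conj (e : Fin 3 × Fin 3) : C.t 0 * C.t e * (C.t 0)⁻¹ = C.t (-e) := by
  rw [← C.q_sq 0, ← act_act 0 e, ← C.q_t, ← C.q_t]
  group

theorem t_ne_one (h2 : (2 : F) ≠ 0) (e : Fin 3 × Fin 3) : C.t e ≠ 1 := fun he => by
  have h := congrArg (fun g => (C.σ g).trace) he
  simp only [C.ht, trace_Tm C.om, map_one, Matrix.trace_one, Fintype.card_fin] at h
  exact mul_ne_zero h2 h2 (by push_cast at h; linear_combination -h)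

end Ctx

/-- A square root of one in dimension three is a scalar or has trace opposite to the determinant. -/
theorem sq_one_cases {K : Type*} [Field K] {X : Matrix (Fin 3) (Fin 3) K} (h : X * X = 1) :
    (∃ c : K, c * c = 1 ∧ X = c • (1 : Matrix (Fin 3) (Fin 3) K)) ∨ X.trace = -X.det := by
  obtain ⟨s, hs⟩ : ∃ s, s = X 0 0 * X 1 1 - X 0 1 * X 1 0 + (X 0 0 * X 2 2 - X 0 2 * X 2 0) +
      (X 1 1 * X 2 2 - X 1 2 * X 2 1) := ⟨_, rfl⟩
  have hch : X * X * X - X.trace • (X * X) + s • X - X.det • (1 : Matrix (Fin 3) (Fin 3) K) = 0 := by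
    rw [hs, Matrix.det_fin_three, Matrix.trace, Fin.sum_univ_three]
    ext i j
    fin_cases i <;> fin_cases j <;> simp [Matrix.mul_apply, Fin.sum_univ_three] <;> ring
  rw [h, Matrix.one_mul] at hch
  have hlin : (1 + s) • X = (X.trace + X.det) • (1 : Matrix (Fin 3) (Fin 3) K) := by
    linear_combination (norm := module) hch
  rcases eq_or_ne (1 + s) 0 with hs0 | hs0
  · right
    rw [hs0, zero_smul] at hlin
    have := congrFun (congrFun hlin 0) 0
    simp at this
    linear_combination -this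
  · left
    refine ⟨(1 + s)⁻¹ * (X.trace + X.det), ?_, ?_⟩
    · have e : X = ((1 + s)⁻¹ * (X.trace + X.det)) • (1 : Matrix (Fin 3) (Fin 3) K) := by
        rw [← smul_smul, ← hlin, smul_smul, inv_mul_cancel₀ hs0, one_smul]
      have e2 : X * X = (((1 + s)⁻¹ * (X.trace + X.det)) * ((1 + s)⁻¹ * (X.trace + X.det))) •
          (1 : Matrix (Fin 3) (Fin 3) K) := by
        conv_lhs => rw [e]
        rw [Matrix.smul_mul, Matrix.mul_smul, Matrix.one_mul, smul_smul]
      rw [h] at e2
      have := congrFun (congrFun e2 0) 0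
      simpa using this.symm
    · rw [← smul_smul, ← hlin, smul_smul, inv_mul_cancel₀ hs0, one_smul]

/-- An algebraic integer in `[-1/2, 1]` at every embedding is `0` or `1`. -/
theorem zero_or_one_of_bound {N : ℕ} (hN : N ≠ 0) {z : ℂ} (hm : z ∈ Char.cyc N) (hI : IsIntegral ℤ z)
    (hB : ∀ φ : Char.cyc N →ₐ[ℚ] ℂ, ∃ x : ℝ, φ ⟨z, hm⟩ = x ∧ -1 / 2 ≤ x ∧ x ≤ 1) : z = 0 ∨ z = 1 := by
  by_contra hne
  push Not at hne
  have hw0 : z * (1 - z) ≠ 0 := mul_ne_zero hne.1 (sub_ne_zero.mpr hne.2.symm)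
  have h := Char.KGV.card_le_of_galois_bound (ι := Fin 1) hN (fun _ => z * (1 - z))
    (fun _ => mul_mem hm (sub_mem (one_mem _) hm)) (fun _ => hI.mul (isIntegral_one.sub hI)) (fun _ => hw0)
    (9 / 16 : ℝ) fun φ => by
      rw [Fin.sum_univ_one]
      obtain ⟨x, hx, h1, h2⟩ := hB φ
      have e : φ ⟨z * (1 - z), mul_mem hm (sub_mem (one_mem _) hm)⟩ = ((x * (1 - x) : ℝ) : ℂ) := by
        rw [show (⟨z * (1 - z), _⟩ : Char.cyc N) = ⟨z, hm⟩ * (1 - ⟨z, hm⟩) from rfl, map_mul, map_sub, map_one,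
          hx]
        push_cast
        ring
      rw [e, Complex.norm_real, Real.norm_eq_abs, sq_abs]
      have h3 : -(3 / 4 : ℝ) ≤ x * (1 - x) := by nlinarith
      have h4 : x * (1 - x) ≤ 1 / 4 := by nlinarith [sq_nonneg (x - 1 / 2)]
      nlinarith
  norm_num at h

variable [Finite G]

/-- **No other involution commutes with the standard one.** -/
theorem Ctx.eq_t_zero (C : Ctx G ω) [Fintype F] {p : ℕ} (hp : p.Prime) [CharP F p]
    (h7 : 7 ≤ p) (hG : ¬ p ∣ Nat.card G) {u : G} (hu : u * u = 1) (hu1 : u ≠ 1)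
    (hc : u * C.t 0 = C.t 0 * u) : u = C.t 0 := by
  classical
  by_contra hut
  haveI := Fintype.ofFinite G
  have h := C.om
  have h2 : (2 : F) ≠ 0 := by
    rw [show (2 : F) = ((2 : ℕ) : F) by norm_num, Ne, CharP.cast_eq_zero_iff F p]
    exact fun hd => by have := Nat.le_of_dvd two_pos hd; omega
  have hspan : Submodule.span F (Set.range C.σ) = ⊤ := eq_top_iff.mpr ((span_rm h).symm.le.trans
    (Submodule.span_mono (by rintro _ ⟨e, rfl⟩; exact ⟨C.r e, C.hr e⟩)))
  obtain ⟨V, f, R, U, U', hUU', hU'U, hred, hsch, hchar⟩ :=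
    exists_lift hp (by norm_num : 0 < 3) hG C.σ hspan
  haveI : CharP (IsLocalRing.ResidueField V) p := charP_of_injective_ringHom f.injective p
  let ρ : G →* Matrix (Fin 3) (Fin 3) ℂ :=
    (V.subtype.mapMatrix : Matrix (Fin 3) (Fin 3) V →+* _).toMonoidHom.comp R
  obtain ⟨χ, hχdef⟩ : ∃ χ : G → ℂ, χ = fun g => ((R g).trace : ℂ) := ⟨_, rfl⟩
  have hρ : ∀ g, (ρ g).trace = χ g := fun g => by
    rw [hχdef]; exact (AddMonoidHom.map_trace V.subtype.toAddMonoidHom (R g)).symm
  have hχ : IsCharacter G χ := hχdef ▸ hchar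
  have hres : ∀ g, IsLocalRing.residue V (R g).trace = f (C.σ g).trace := fun g => by
    have e := congrArg Matrix.trace (hred g)
    rw [Matrix.trace_mul_comm, ← Matrix.mul_assoc, hU'U, Matrix.one_mul] at e
    exact (AddMonoidHom.map_trace (IsLocalRing.residue V).toAddMonoidHom (R g)).trans
      (e.trans (AddMonoidHom.map_trace f.toAddMonoidHom (C.σ g)).symm)
  have hcl : ∀ a g, χ (a * g * a⁻¹) = χ g := fun a g => by
    rw [← hρ, ← hρ, map_mul, map_mul, Matrix.trace_mul_comm, ← Matrix.mul_assoc, ← map_mul,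
      inv_mul_cancel, map_one, Matrix.one_mul]
  have hone : χ 1 = 3 := by rw [← hρ, map_one, Matrix.trace_one, Fintype.card_fin]; norm_num
  -- involutions
  have hinv : ∀ g : G, g * g = 1 → g ≠ 1 → χ g = -1 := by
    intro g hg hg1
    have hσg : (C.σ g).trace = -1 := by
      rcases sq_one_cases (X := C.σ g) (by rw [← map_mul, hg, map_one]) with ⟨c, hc2, hce⟩ | he
      · exfalso
        have hd := C.det g
        rw [hce, Matrix.det_smul, Fintype.card_fin, Matrix.det_one, mul_one] at hd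
        have : c = 1 := by linear_combination hd - c * hc2
        exact hg1 (C.inj (by rw [hce, this, one_smul, map_one]))
      · rw [he, C.det]
    obtain ⟨m, hm, hmb⟩ : ∃ m : ℤ, (R g).trace = (m : V) ∧ -3 ≤ m ∧ m ≤ 3 := by
      have hX : ρ g * ρ g = 1 := by rw [← map_mul, hg, map_one]
      have hV : ∀ m : ℤ, (ρ g).trace = (m : ℂ) → (R g).trace = (m : V) := fun m hm => by
        apply Subtype.val_injective
        rw [hρ, hχdef] at hm
        simpa using hm
      rcases sq_one_cases hX with ⟨c, hc2, hce⟩ | he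
      · rcases mul_self_eq_one_iff.mp hc2 with e | e
        · exact ⟨3, hV 3 (by rw [hce, e]; simp), by norm_num, by norm_num⟩
        · exact ⟨-3, hV (-3) (by rw [hce, e]; simp), by norm_num, by norm_num⟩
      · have hd : (ρ g).det * (ρ g).det = 1 := by rw [← Matrix.det_mul, hX, Matrix.det_one]
        rcases mul_self_eq_one_iff.mp hd with e | e
        · exact ⟨-1, hV (-1) (by rw [he, e]; simp), by norm_num, by norm_num⟩
        · exact ⟨1, hV 1 (by rw [he, e]; simp), by norm_num, by norm_num⟩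
    have e := hres g
    rw [hm, map_intCast, hσg, map_neg, map_one] at e
    have hd : (p : ℤ) ∣ m + 1 := (CharP.intCast_eq_zero_iff (IsLocalRing.ResidueField V) p _).mp (by
      push_cast; rw [e]; exact neg_add_cancel 1)
    have hm1 : m = -1 := by
      by_contra hne
      have h1 := Int.le_of_dvd (a := (p : ℤ)) (b := |m + 1|) (abs_pos.mpr (by omega)) (by rwa [dvd_abs])
      rcases abs_cases (m + 1) with ⟨hh, -⟩ | ⟨hh, -⟩ <;> omega
    rw [← hρ, hρ, hχdef]
    show ((R g).trace : ℂ) = -1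
    rw [hm, hm1]; simp
  -- the scalar
  obtain ⟨c, hc0⟩ := hsch (R C.z) fun g => by rw [← map_mul, ← map_mul, C.z_comm]
  have hr0 : ∀ e, e ≠ 0 → χ (C.r e) = 0 := by
    intro e he
    obtain ⟨e', hee⟩ : ∃ e' : Fin 3 × Fin 3, e.2 * e'.1 - e'.2 * e.1 ≠ 0 := by
      revert he; revert e; decide +kernel
    obtain ⟨j, hj⟩ : ∃ j, j = e.2 * e'.1 - e'.2 * e.1 := ⟨_, rfl⟩
    rw [← hj] at hee
    have hrel : C.r e = C.z ^ (j : ℕ) * (C.r e' * C.r e * (C.r e')⁻¹) := by
      rw [eq_comm, ← mul_assoc, mul_inv_eq_iff_eq_mul]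
      refine C.inj ?_
      rw [map_mul, map_mul, map_mul, C.z_pow, C.hr, C.hr, Matrix.smul_mul, Matrix.one_mul, hj,
        rm_comm h e e']
    have hz' : R (C.z ^ (j : ℕ)) = c ^ (j : ℕ) • (1 : Matrix (Fin 3) (Fin 3) V) := by
      rw [map_pow, hc0, smul_pow, one_pow]
    have htr : χ (C.r e) = ((c ^ (j : ℕ) : V) : ℂ) * χ (C.r e) := by
      conv_lhs => rw [hrel]
      rw [← hcl (C.r e') (C.r e), hχdef]
      simp only [map_mul, hz', Matrix.smul_mul, Matrix.one_mul, Matrix.trace_smul, smul_eq_mul,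
        MulMemClass.coe_mul]
    refine (mul_left_eq_self₀.mp htr.symm).resolve_left fun e1 => hee ?_
    have e2 : c ^ (j : ℕ) = 1 := Subtype.val_injective (by simpa using e1)
    have e3 := hred (C.z ^ (j : ℕ))
    rw [hz', e2, one_smul, C.z_pow, show (pw ω j • (1 : Matrix (Fin 3) (Fin 3) F)).map f =
      f (pw ω j) • (1 : Matrix (Fin 3) (Fin 3) (IsLocalRing.ResidueField V)) from
        Matrix.ext fun a b => by rcases eq_or_ne a b with rfl | hab <;> simp [*],
      Matrix.mul_smul, Matrix.mul_one, Matrix.smul_mul, hUU'] at e3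
    have e4 := congrFun (congrFun e3 0) 0
    simp at e4
    exact pw_eq_one h (f.injective (e4.symm.trans (map_one f).symm))
  have horth : ∀ e e', χ (C.t e * C.t e') = if e = e' then 3 else 0 := by
    intro e e'
    split_ifs with he
    · rw [he, C.t_sq, hone]
    · obtain ⟨j, hj⟩ := Tm_mul_Tm h e e'
      have hrel : C.t e * C.t e' = C.z ^ (j : ℕ) * C.r (e - e' + (e - e')) := C.inj (by
        rw [map_mul, map_mul, C.ht, C.ht, C.z_pow, C.hr, Matrix.smul_mul, Matrix.one_mul, hj])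
      rw [hrel, hχdef]
      simp only [map_mul, map_pow, hc0, smul_pow, one_pow, Matrix.smul_mul, Matrix.one_mul,
        Matrix.trace_smul, smul_eq_mul, MulMemClass.coe_mul]
      rw [show ((R (C.r (e - e' + (e - e')))).trace : ℂ) = 0 by
        have := hr0 (e - e' + (e - e')) fun q => he (two_torsion e' e q).symm
        rwa [hχdef] at this, mul_zero]
  have hexp : ∀ X : Matrix (Fin 3) (Fin 3) ℂ, (3 : ℂ) • X = ∑ e, (X * ρ (C.t e)).trace • ρ (C.t e) := by
    have horth' : ∀ e e', (ρ (C.t e) * ρ (C.t e')).trace = if e = e' then (3 : ℂ) else 0 := fun e e' => by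
      rw [← map_mul, hρ, horth]
    have hli : LinearIndependent ℂ fun e => ρ (C.t e) := by
      rw [Fintype.linearIndependent_iff]
      intro g hg e'
      have e := congrArg (fun X => (X * ρ (C.t e')).trace) hg
      simp only [Matrix.sum_mul, Matrix.smul_mul, Matrix.trace_sum, Matrix.trace_smul, horth', Matrix.zero_mul,
        Matrix.trace_zero, smul_eq_mul, mul_ite, mul_zero, Finset.sum_ite_eq', Finset.mem_univ, if_true] at e
      simpa using e
    have htop := hli.span_eq_top_of_card_eq_finrank' (by rw [Module.finrank_matrix]; simp)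
    intro X
    have hX : X ∈ Submodule.span ℂ (Set.range fun e => ρ (C.t e)) := htop ▸ Submodule.mem_top
    induction hX using Submodule.span_induction with
    | mem y hy =>
      obtain ⟨e', rfl⟩ := hy
      simp [horth', ite_smul]
    | zero => simp
    | add a b _ _ ha hb => simp [Matrix.add_mul, Matrix.trace_add, add_smul, Finset.sum_add_distrib, ha, hb]
    | smul k a _ ha =>
      simp only [Matrix.smul_mul, Matrix.trace_smul, smul_eq_mul, ← smul_smul, ← Finset.smul_sum, ← ha]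
      exact smul_comm _ _ _
  -- the nine values
  obtain ⟨w, hw⟩ : ∃ w : Fin 3 × Fin 3 → ℂ, w = fun e => χ (u * C.t e) := ⟨_, rfl⟩
  have hu' : u⁻¹ = u := inv_eq_of_mul_eq_one_right hu
  have ht' : ∀ e, (C.t e)⁻¹ = C.t e := fun e => inv_eq_of_mul_eq_one_right (C.t_sq e)
  have hreal : ∀ a b : G, a * a = 1 → b * b = 1 → ∀ k : ℕ, conj (χ ((a * b) ^ k)) = χ ((a * b) ^ k) := by
    intro a b ha hb k
    rw [← Char.char_inv hχ]
    have e : ((a * b) ^ k)⁻¹ = a * (a * b) ^ k * a⁻¹ := by
      rw [← conj_pow, ← inv_pow, mul_inv_rev, inv_eq_of_mul_eq_one_right ha,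
        inv_eq_of_mul_eq_one_right hb, ← mul_assoc a a b, ha, one_mul]
    rw [e, hcl]
  have hwneg : ∀ e, w (-e) = w e := fun e => by
    rw [hw]
    show χ (u * C.t (-e)) = χ (u * C.t e)
    rw [← C.t_zero_conj, ← hcl (C.t 0) (u * C.t e)]
    congr 1
    calc u * (C.t 0 * C.t e * (C.t 0)⁻¹) = u * C.t 0 * (C.t e * (C.t 0)⁻¹) := by group
      _ = C.t 0 * (u * C.t e) * (C.t 0)⁻¹ := by rw [hc]; group
  have hw0 : w 0 = -1 := by
    rw [hw]
    refine hinv _ ?_ fun e => hut ?_
    · rw [mul_assoc, ← mul_assoc (C.t 0), ← hc, mul_assoc u, C.t_sq, mul_one, hu]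
    · rw [mul_eq_one_iff_eq_inv] at e; rw [e, ht']
  have hwI : ∀ e, IsIntegral ℤ (w e) := fun e => hw ▸ Char.char_isIntegral hχ _
  have hwr : ∀ e, conj (w e) = w e := fun e => by
    rw [hw]; simpa using hreal u (C.t e) hu (C.t_sq e) 1
  have hpair : ∀ g, ∑ e, χ (g * C.t e) * w e = 3 * χ (g * u) := fun g => by
    have e := congrArg (fun X => (X * ρ u).trace) (hexp (ρ g))
    simp only [Matrix.sum_mul, Matrix.smul_mul, Matrix.trace_sum, Matrix.trace_smul, smul_eq_mul,
      ← map_mul, hρ] at e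
    rw [e]
    refine Finset.sum_congr rfl fun i _ => congrArg (_ * ·) ?_
    rw [hw]
    show χ (u * C.t i) = χ (C.t i * u)
    conv_rhs => rw [← hcl u, ← mul_assoc, mul_assoc (u * C.t i), hu', hu, mul_one]
  have hS : ∑ e, w e * (-1) = -3 := by
    have e := hpair 1
    simp only [one_mul, hinv u hu hu1] at e
    rw [show (-3 : ℂ) = 3 * -1 by norm_num, ← e]
    exact Finset.sum_congr rfl fun i _ => by rw [hinv _ (C.t_sq i) (C.t_ne_one h2 i), mul_comm]
  have hQ : ∑ e, w e * w e = 9 := by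
    have e := hpair u
    rw [hu, hone] at e
    rw [show (9 : ℂ) = 3 * 3 by norm_num, ← e, hw]
  -- the conjugates
  have hA : ∀ k, ∃ A : ℂ, 3 * A = ∑ e, w (act k e) * w e ∧ IsIntegral ℤ A ∧
      (IsIntegral ℤ ((A + 1) / 4) → A = -1 ∨ A = 3) := by
    intro k
    obtain ⟨v, hv⟩ : ∃ v, v = C.q k * u * (C.q k)⁻¹ := ⟨_, rfl⟩
    refine ⟨χ (v * u), ?_, Char.char_isIntegral hχ _, fun hI => ?_⟩
    · rw [← hpair v]
      refine Finset.sum_congr rfl fun e _ => congrArg (· * w e) ?_
      have e1 : C.t e = C.q k * C.t (-act k e) * (C.q k)⁻¹ := by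
        rw [C.q_t, show act k (-act k e) = e from (show ∀ k e, act k (-act k e) = e by decide +kernel) k e]
      rw [hv, e1, show C.q k * u * (C.q k)⁻¹ * (C.q k * C.t (-act k e) * (C.q k)⁻¹) =
        C.q k * (u * C.t (-act k e)) * (C.q k)⁻¹ by group, hcl, ← hwneg, hw]
    · have hvv : v * v = 1 := by
        rw [hv, show C.q k * u * (C.q k)⁻¹ * (C.q k * u * (C.q k)⁻¹) = C.q k * (u * u) * (C.q k)⁻¹ by group,
          hu, mul_one, mul_inv_cancel]
      obtain ⟨hm, hgal⟩ := Char.char_galois hχ (v * u)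
      have hN : Nat.card G ≠ 0 := Nat.card_pos.ne'
      have hm' : (χ (v * u) + 1) / 4 ∈ Char.cyc (Nat.card G) :=
        div_mem (add_mem hm (one_mem _)) (natCast_mem _ 4)
      rcases zero_or_one_of_bound hN hm' hI fun φ => by
        obtain ⟨j, -, hj⟩ := Char.exists_power_of_embedding hN φ
        obtain ⟨x, hx⟩ := Complex.conj_eq_iff_real.mp (hreal v u hvv hu j)
        refine ⟨(x + 1) / 4, ?_, ?_⟩
        · rw [show (⟨(χ (v * u) + 1) / 4, hm'⟩ : Char.cyc (Nat.card G)) = (⟨χ (v * u), hm⟩ + 1) / 4 from rfl,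
            map_div₀, map_add, map_one, map_ofNat, hgal φ j hj, hx]
          push_cast
          rfl
        · have hb := Char.char_norm_le hχ ((v * u) ^ j)
          rw [hone, hx, Complex.norm_real, Real.norm_eq_abs] at hb
          norm_num at hb
          obtain ⟨hb1, hb2⟩ := abs_le.mp hb
          exact ⟨by linarith, by linarith⟩
      with h0 | h1
      · exact Or.inl (by linear_combination 4 * h0)
      · exact Or.inr (by linear_combination 4 * h1)
  obtain ⟨A0, hA0, hA0I, hA0c⟩ := hA 0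
  obtain ⟨A1, hA1, hA1I, hA1c⟩ := hA 1
  obtain ⟨A2, hA2, hA2I, hA2c⟩ := hA 2
  simp only [Fintype.sum_prod_type, Fin.sum_univ_three] at hS hQ hA0 hA1 hA2
  simp only [show act 0 (0, 0) = (0, 0) from rfl, show act 0 (0, 1) = (2, 0) from rfl,
    show act 0 (0, 2) = (1, 0) from rfl, show act 0 (1, 0) = (0, 1) from rfl,
    show act 0 (1, 1) = (2, 1) from rfl, show act 0 (1, 2) = (1, 1) from rfl,
    show act 0 (2, 0) = (0, 2) from rfl, show act 0 (2, 1) = (2, 2) from rfl,
    show act 0 (2, 2) = (1, 2) from rfl] at hA0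
  simp only [show act 1 (0, 0) = (0, 0) from rfl, show act 1 (0, 1) = (2, 1) from rfl,
    show act 1 (0, 2) = (1, 2) from rfl, show act 1 (1, 0) = (2, 2) from rfl,
    show act 1 (1, 1) = (1, 0) from rfl, show act 1 (1, 2) = (0, 1) from rfl,
    show act 1 (2, 0) = (1, 1) from rfl, show act 1 (2, 1) = (0, 2) from rfl,
    show act 1 (2, 2) = (2, 0) from rfl] at hA1
  simp only [show act 2 (0, 0) = (0, 0) from rfl, show act 2 (0, 1) = (2, 2) from rfl,
    show act 2 (0, 2) = (1, 1) from rfl, show act 2 (1, 0) = (1, 2) from rfl,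
    show act 2 (1, 1) = (0, 1) from rfl, show act 2 (1, 2) = (2, 0) from rfl,
    show act 2 (2, 0) = (2, 1) from rfl, show act 2 (2, 1) = (1, 0) from rfl,
    show act 2 (2, 2) = (0, 2) from rfl] at hA2
  have e00 : w (0, 0) = -1 := hw0
  have e20 : w (2, 0) = w (1, 0) := hwneg (1, 0)
  have e02 : w (0, 2) = w (0, 1) := hwneg (0, 1)
  have e22 : w (2, 2) = w (1, 1) := hwneg (1, 1)
  have e21 : w (2, 1) = w (1, 2) := hwneg (1, 2)
  simp only [e00, e20, e02, e22, e21] at hS hQ hA0 hA1 hA2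
  obtain ⟨a, ha⟩ := Complex.conj_eq_iff_real.mp (hwr (1, 0))
  obtain ⟨b, hb⟩ := Complex.conj_eq_iff_real.mp (hwr (0, 1))
  obtain ⟨c', hc'⟩ := Complex.conj_eq_iff_real.mp (hwr (1, 1))
  obtain ⟨d, hd⟩ := Complex.conj_eq_iff_real.mp (hwr (1, 2))
  have ia : IsIntegral ℤ (a : ℂ) := ha ▸ hwI _
  have ib : IsIntegral ℤ (b : ℂ) := hb ▸ hwI _
  have ic : IsIntegral ℤ (c' : ℂ) := hc' ▸ hwI _
  have id' : IsIntegral ℤ (d : ℂ) := hd ▸ hwI _
  rw [ha, hb, hc', hd] at hS hQ hA0 hA1 hA2
  have i0 : (A0 + 1) / 4 = A0 - ((a : ℂ) * b + c' * d) := by linear_combination (1 / 4 : ℂ) * -hA0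
  have i1 : (A1 + 1) / 4 = A1 - ((a : ℂ) * c' + b * d) := by linear_combination (1 / 4 : ℂ) * -hA1
  have i2 : (A2 + 1) / 4 = A2 - ((a : ℂ) * d + b * c') := by linear_combination (1 / 4 : ℂ) * -hA2
  have c0 := hA0c (i0 ▸ hA0I.sub ((ia.mul ib).add (ic.mul id')))
  have c1 := hA1c (i1 ▸ hA1I.sub ((ia.mul ic).add (ib.mul id')))
  have c2 := hA2c (i2 ▸ hA2I.sub ((ia.mul id').add (ib.mul ic)))
  have hS' : a + b + c' + d = 2 := by exact_mod_cast (show ((a : ℂ) + b + c' + d) = 2 by linear_combination -hS / 2)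
  have hQ' : a * a + b * b + c' * c' + d * d = 4 := by
    exact_mod_cast (show ((a : ℂ) * a + b * b + c' * c' + d * d) = 4 by linear_combination hQ / 2)
  have r0 : ∀ A : ℂ, ∀ I : ℝ, 3 * A = 1 + 4 * (I : ℂ) → A = -1 ∨ A = 3 → I = -1 ∨ I = 2 := by
    rintro A I hh (rfl | rfl)
    · left; exact_mod_cast (show (I : ℂ) = -1 by linear_combination -hh / 4)
    · right; exact_mod_cast (show (I : ℂ) = 2 by linear_combination -hh / 4)
  have d0 := r0 A0 (a * b + c' * d) (by push_cast; linear_combination hA0) c0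
  have d1 := r0 A1 (a * c' + b * d) (by push_cast; linear_combination hA1) c1
  have d2 := r0 A2 (a * d + b * c') (by push_cast; linear_combination hA2) c2
  have hhalf : ∀ x y : ℝ, IsIntegral ℤ (x : ℂ) → IsIntegral ℤ (y : ℂ) → 2 * (x * y) ≠ -1 := by
    intro x y hx hy e
    have hi := hx.mul hy
    rw [← Complex.ofReal_mul, show x * y = ((-1 / 2 : ℚ) : ℝ) by push_cast; linarith, Complex.ofReal_ratCast]
      at hi
    obtain ⟨z, hz⟩ := Char.isIntegral_rat_cast_imp hi
    have : (2 * z : ℤ) = -1 := by exact_mod_cast (show (2 * z : ℚ) = -1 by rw [hz]; norm_num)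
    omega
  rcases d0 with q0 | q0
  · rcases d1 with q1 | q1
    · rcases d2 with q2 | q2
      · nlinarith
      · have e1 : a = d := by nlinarith [sq_nonneg (a - d), sq_nonneg (b - c')]
        have e2 : b = c' := by nlinarith [sq_nonneg (a - d), sq_nonneg (b - c')]
        exact hhalf a b ia ib (by rw [← e1, ← e2] at q0; linarith)
    · have e1 : a = c' := by nlinarith [sq_nonneg (a - c'), sq_nonneg (b - d)]
      have e2 : b = d := by nlinarith [sq_nonneg (a - c'), sq_nonneg (b - d)]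
      exact hhalf a b ia ib (by rw [← e1, ← e2] at q0; linarith)
  · have e1 : a = b := by nlinarith [sq_nonneg (a - b), sq_nonneg (c' - d)]
    have e2 : c' = d := by nlinarith [sq_nonneg (a - b), sq_nonneg (c' - d)]
    rcases d1 with q1 | q1
    · exact hhalf a c' ia ic (by rw [← e1, ← e2] at q1; linarith)
    · rw [← e1, ← e2] at q0 q1
      nlinarith [sq_nonneg (a - c')]

end Cfsg.Agent.Classical.LinThree.Hess
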