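import Cfsg.Agent.Lib.Classical.LinThree.HessGroup
import Cfsg.Agent.Lib.Classical.SymplecticClassTwo
import Cfsg.Agent.Lib.Classical.LinBasic
import Cfsg.Agent.Lib.Classical.Frame.EightMax

/-!
# The normaliser of an extraspecial group of order `27` is maximal in the special linear group of degree three
over a prime field
-/

set_option autoImplicit false
set_option linter.style.haveILetI false
set_option linter.unusedSectionVars false

namespace Cfsg.Agent.Classical.LinThree.Hess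

open Matrix Module Cfsg.Geo

universe u

variable {F : Type u} [Field F] [Fintype F] {p : ℕ}

/-- Coordinates for a group of order `27`, from the data used. -/
theorem exists_coords_of {R : Subgroup (GL (Fin 3) F)} (hsymp : IsSymplecticTypeGroup 3 R)
    (habs : ActsAbsolutelyIrreducibly (matrixSet R)) (h3 : (3 : F) ≠ 0) (hcard : Nat.card R = 27)
    (hZ : Nat.card (Subgroup.center R) = 3) :
    ∃ (ω : F) (P : GL (Fin 3) F), Om ω ∧ ∀ g : GL (Fin 3) F, g ∈ R ↔
      ∃ c e, ((P⁻¹ * g * P : GL (Fin 3) F) : Matrix (Fin 3) (Fin 3) F) = pw ω c • rm ω e := by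
  classical
  haveI : Nonempty (Fin 3) := ⟨0⟩
  haveI : Fact (Nat.Prime 3) := ⟨Nat.prime_three⟩
  have hsc := symplecticTypeGroup_comm hsymp habs
  have hexp : ∀ g ∈ R, g ^ 3 = 1 := fun g hg => by
    have h := (Monoid.exponent_dvd_iff_forall_pow_eq_one.mp
      (dvd_of_eq hsymp.exponent_eq)) (⟨g, hg⟩ : R)
    simpa using congrArg Subtype.val h
  have hne : Subgroup.center R ≠ ⊤ := fun h => by
    rw [h, Subgroup.card_top, hcard] at hZ
    omega
  obtain ⟨a, b, hab⟩ : ∃ a b : R, a * b ≠ b * a := by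
    by_contra h
    push Not at h
    exact hne (eq_top_iff.mpr fun a _ => Subgroup.mem_center_iff.mpr fun b => (h a b).symm)
  obtain ⟨c, hc⟩ : ∃ c, c = (a : GL (Fin 3) F) * b * (a : GL (Fin 3) F)⁻¹ * (b : GL (Fin 3) F)⁻¹ := ⟨_, rfl⟩
  have hcR : c ∈ R := hc ▸ R.mul_mem (R.mul_mem (R.mul_mem a.2 b.2) (R.inv_mem a.2)) (R.inv_mem b.2)
  obtain ⟨ω, hω⟩ : ∃ ω : F, (c : Matrix (Fin 3) (Fin 3) F) = ω • (1 : Matrix (Fin 3) (Fin 3) F) := by
    obtain ⟨u, hu⟩ : c ∈ scalars (Fin 3) F := hc ▸ hsc a a.2 b b.2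
    refine ⟨(u : F), ?_⟩
    rw [← hu]
    ext i j
    rcases eq_or_ne i j with rfl | hij <;> simp [Matrix.scalar_apply, *]
  have hω3 : ω * ω * ω = 1 := by
    have h := congrArg Units.val (hexp c hcR)
    rw [Units.val_pow_eq_pow_val, hω, smul_pow, one_pow, Units.val_one] at h
    have := congrFun (congrFun h 0) 0
    simp at this
    linear_combination this
  have habω : ((a : GL (Fin 3) F) : Matrix (Fin 3) (Fin 3) F) * ((b : GL (Fin 3) F) : Matrix (Fin 3) (Fin 3) F) =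
      ω • (((b : GL (Fin 3) F) : Matrix (Fin 3) (Fin 3) F) * ((a : GL (Fin 3) F) : Matrix (Fin 3) (Fin 3) F)) := by
    have e : (a : GL (Fin 3) F) * b = c * ((b : GL (Fin 3) F) * a) := by rw [hc]; group
    have e2 := congrArg Units.val e
    rw [Units.val_mul, Units.val_mul, Units.val_mul, hω, Matrix.smul_mul, Matrix.one_mul] at e2
    exact e2
  have hω1 : ω ≠ 1 := fun e => hab (Subtype.ext (Units.ext (by rw [e, one_smul] at habω; exact habω)))
  have hroot : ω * ω + ω + 1 = 0 := by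
    have h : (ω - 1) * (ω * ω + ω + 1) = 0 := by linear_combination hω3
    exact (mul_eq_zero.mp h).resolve_left (sub_ne_zero.mpr hω1)
  have hOm : Om ω := ⟨hroot, h3⟩
  -- an eigenvector
  obtain ⟨A, hA⟩ : ∃ A, A = ((a : GL (Fin 3) F) : Matrix (Fin 3) (Fin 3) F) := ⟨_, rfl⟩
  obtain ⟨B, hB⟩ : ∃ B, B = ((b : GL (Fin 3) F) : Matrix (Fin 3) (Fin 3) F) := ⟨_, rfl⟩
  rw [← hA, ← hB] at habω
  have hA3 : A * A * A = 1 := by
    have h := congrArg Units.val (hexp a a.2)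
    rw [Units.val_pow_eq_pow_val, Units.val_one, pow_succ, pow_two] at h
    rw [hA]; exact h
  have hB3 : B * B * B = 1 := by
    have h := congrArg Units.val (hexp b b.2)
    rw [Units.val_pow_eq_pow_val, Units.val_one, pow_succ, pow_two] at h
    rw [hB]; exact h
  obtain ⟨μ, k, v, hv0, hμk, hAv⟩ : ∃ (μ : F) (k : Fin 3) (v : Fin 3 → F), v ≠ 0 ∧ μ = pw ω k ∧ A *ᵥ v = μ • v := by
    have hprod : (A - pw ω 0 • 1) * ((A - pw ω 1 • 1) * (A - pw ω 2 • 1)) = 0 := by
      rw [pw_zero, pw_one_val, pw_two_val]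
      simp only [sub_mul, mul_sub, Matrix.smul_mul, Matrix.mul_smul, mul_one, one_mul, one_smul, smul_smul,
        ← Matrix.mul_assoc, hA3]
      match_scalars <;> grind
    have : (A - pw ω 0 • 1).det * ((A - pw ω 1 • 1).det * (A - pw ω 2 • 1).det) = 0 := by
      rw [← Matrix.det_mul, ← Matrix.det_mul, hprod, Matrix.det_zero]
    obtain ⟨k, hk⟩ : ∃ k : Fin 3, (A - pw ω k • (1 : Matrix (Fin 3) (Fin 3) F)).det = 0 := by
      rcases mul_eq_zero.mp this with h | h
      · exact ⟨0, h⟩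
      · rcases mul_eq_zero.mp h with h | h
        exacts [⟨1, h⟩, ⟨2, h⟩]
    obtain ⟨v, hv, hvk⟩ := Matrix.exists_mulVec_eq_zero_iff.mpr hk
    refine ⟨pw ω k, k, v, hv, rfl, ?_⟩
    rw [sub_mulVec, smul_mulVec, one_mulVec, sub_eq_zero] at hvk
    exact hvk
  have hμ0 : μ ≠ 0 := hμk ▸ pw_ne_zero hOm k
  have hAB : ∀ (t : F) (w : Fin 3 → F), A *ᵥ w = t • w → A *ᵥ (B *ᵥ w) = (ω * t) • (B *ᵥ w) := fun t w h => by
    rw [mulVec_mulVec, habω, smul_mulVec, ← mulVec_mulVec, h, mulVec_smul, smul_smul]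
  have hv1 := hAB _ _ hAv
  have hv2 := hAB _ _ hv1
  have hBinj : ∀ w, B *ᵥ w = 0 → w = 0 := fun w h => by
    have := congrArg ((B * B) *ᵥ ·) h
    simpa [mulVec_mulVec, hB3] using this
  have hli : LinearIndependent F ![v, B *ᵥ v, B *ᵥ (B *ᵥ v)] := by
    have h := eigen_indep (Matrix.toLin' A) (Matrix.toLin' A) ![v, B *ᵥ v, B *ᵥ (B *ᵥ v)]
      ![μ, ω * μ, ω * (ω * μ)] ![μ, ω * μ, ω * (ω * μ)]
      (by intro i; rw [Matrix.toLin'_apply]; fin_cases i <;> first | exact hAv | exact hv1 | exact hv2)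
      (by intro i; rw [Matrix.toLin'_apply]; fin_cases i <;> first | exact hAv | exact hv1 | exact hv2)
      (by intro i; fin_cases i <;> first | exact hv0 | exact fun e => hv0 (hBinj _ e) |
        exact fun e => hv0 (hBinj _ (hBinj _ e)))
      (by
        intro i j
        have hω0 := hOm.ne_zero
        fin_cases i <;> fin_cases j <;> simp <;> grind)
      Finset.univ
    exact Fintype.linearIndependent_iff.mpr fun g hg i => h g hg i (Finset.mem_univ i)
  obtain ⟨Pm, hPm⟩ : ∃ Pm : Matrix (Fin 3) (Fin 3) F,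
      Pm = Matrix.of fun i j => ![v, B *ᵥ v, B *ᵥ (B *ᵥ v)] j i := ⟨_, rfl⟩
  have hPu : IsUnit Pm.det := by
    rw [← Matrix.isUnit_iff_isUnit_det, ← Matrix.linearIndependent_cols_iff_isUnit]
    rw [hPm]; exact hli
  obtain ⟨P, hP⟩ : ∃ P : GL (Fin 3) F, (P : Matrix (Fin 3) (Fin 3) F) = Pm :=
    ⟨Matrix.GeneralLinearGroup.mkOfDetNeZero Pm hPu.ne_zero, rfl⟩
  have hcolA : A * Pm = Pm * (μ • rm ω (0, 1)) := by
    have h0 : ∀ i, (A *ᵥ v) i = μ * v i := fun i => by rw [hAv]; rfl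
    have h1 : ∀ i, (A *ᵥ (B *ᵥ v)) i = ω * μ * (B *ᵥ v) i := fun i => by rw [hv1]; rfl
    have h2 : ∀ i, (A *ᵥ (B *ᵥ (B *ᵥ v))) i = ω * (ω * μ) * (B *ᵥ (B *ᵥ v)) i := fun i => by rw [hv2]; rfl
    ext i j
    have hl : (A * Pm) i j = (A *ᵥ ![v, B *ᵥ v, B *ᵥ (B *ᵥ v)] j) i := by rw [hPm]; rfl
    rw [hl, Matrix.mul_apply, Fin.sum_univ_three, hPm]
    fin_cases j <;> simp [-Matrix.mulVec_mulVec, rm, mono, pw_zero, pw_one_val, pw_two_val, h0, h1, h2] <;> ring
  have hcolB : B * Pm = Pm * rm ω (1, 0) := by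
    have h2 : ∀ i, (B *ᵥ (B *ᵥ (B *ᵥ v))) i = v i := fun i => by
      rw [mulVec_mulVec, mulVec_mulVec, hB3, one_mulVec]
    ext i j
    have hl : (B * Pm) i j = (B *ᵥ ![v, B *ᵥ v, B *ᵥ (B *ᵥ v)] j) i := by rw [hPm]; rfl
    rw [hl, Matrix.mul_apply, Fin.sum_univ_three, hPm]
    fin_cases j <;> simp [-Matrix.mulVec_mulVec, rm, mono, pw_zero, h2, fin_three_facts]
  refine ⟨ω, P, hOm, ?_⟩
  -- the 27 elements
  have hconj : ∀ g : GL (Fin 3) F, ∀ X : Matrix (Fin 3) (Fin 3) F,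
      (g : Matrix (Fin 3) (Fin 3) F) * Pm = Pm * X → ((P⁻¹ * g * P : GL (Fin 3) F) : Matrix (Fin 3) (Fin 3) F) = X := by
    intro g X h
    rw [Units.val_mul, Units.val_mul, hP, Matrix.mul_assoc, h, ← Matrix.mul_assoc, ← hP, ← Units.val_mul,
      inv_mul_cancel, Units.val_one, Matrix.one_mul]
  let φ : GL (Fin 3) F →* Matrix (Fin 3) (Fin 3) F :=
    { toFun := fun g => ((P⁻¹ * g * P : GL (Fin 3) F) : Matrix (Fin 3) (Fin 3) F)
      map_one' := by simp
      map_mul' := fun x y => by rw [← Units.val_mul]; congr 1; group }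
  have hmul : ∀ {x y : GL (Fin 3) F}, φ (x * y) = φ x * φ y := fun {x y} => map_mul φ x y
  have hb' : φ b = rm ω (1, 0) := hconj _ _ (by rw [← hB]; exact hcolB)
  have ha' : φ a = μ • rm ω (0, 1) := hconj _ _ (by rw [← hA]; exact hcolA)
  have hc' : φ c = pw ω 1 • (1 : Matrix (Fin 3) (Fin 3) F) := hconj _ _ (by
    rw [hω, pw_one_val, Matrix.smul_mul, Matrix.mul_smul, Matrix.one_mul, Matrix.mul_one])
  obtain ⟨a', ha'R, ha''⟩ : ∃ a', a' ∈ R ∧ φ a' = rm ω (0, 1) := by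
    refine ⟨c ^ ((-k : Fin 3) : ℕ) * (a : GL (Fin 3) F), R.mul_mem (R.pow_mem hcR _) a.2, ?_⟩
    rw [hmul, map_pow, hc', ha', smul_pow, one_pow, Ctx.pw_one_pow hOm, Matrix.smul_mul, Matrix.one_mul, smul_smul,
      hμk, ← pw_add hOm, neg_add_cancel, pw_zero, one_smul]
  have hrm : ∀ (e : Fin 3 × Fin 3), ∃ g ∈ R, φ g = rm ω e := by
    have hpow : ∀ e0 : Fin 3 × Fin 3, e0.2 * e0.1 = 0 → ∀ n : ℕ, rm ω e0 ^ n = rm ω (n • e0) := by
      intro e0 he n
      induction n with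
      | zero => rw [pow_zero, zero_smul, rm_zero]
      | succ n ih =>
        rw [pow_succ, ih, rm_mul hOm, succ_nsmul, show (n • e0).2 * e0.1 = 0 by
          rw [Prod.smul_snd, smul_mul_assoc, he, smul_zero], pw_zero, one_smul]
    intro e
    refine ⟨(b : GL (Fin 3) F) ^ (e.1 : ℕ) * a' ^ (e.2 : ℕ), R.mul_mem (R.pow_mem b.2 _) (R.pow_mem ha'R _), ?_⟩
    rw [hmul, map_pow, map_pow, hb', ha'', hpow _ (by decide), hpow _ (by decide), rm_mul hOm,
      show (((e.1 : ℕ) • ((1, 0) : Fin 3 × Fin 3)).2 * ((e.2 : ℕ) • ((0, 1) : Fin 3 × Fin 3)).1) = 0 by simp,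
      pw_zero, one_smul]
    congr 1
    revert e
    decide +kernel
  choose r hrR hr using hrm
  let f : Fin 3 × (Fin 3 × Fin 3) → R := fun x => ⟨c ^ (x.1 : ℕ) * r x.2, R.mul_mem (R.pow_mem hcR _) (hrR _)⟩
  have hf : ∀ x, φ (f x) = pw ω x.1 • rm ω x.2 := fun x => by
    show φ (c ^ (x.1 : ℕ) * r x.2) = _
    rw [hmul, map_pow, hc', hr, smul_pow, one_pow, Ctx.pw_one_pow hOm, Matrix.smul_mul, Matrix.one_mul]
  have hfi : Function.Injective f := fun x y h => by
    have e1 : φ (f x) = φ (f y) := by rw [h]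
    rw [hf, hf] at e1
    have e2 := Ctx.smul_rm_eq hOm e1
    refine Prod.ext ?_ e2
    rw [e2] at e1
    have e3 := congrArg (fun X => (X * rm ω (-y.2)).trace) e1
    simp only [Matrix.smul_mul, rm_mul hOm, add_neg_cancel, rm_zero, smul_smul, Matrix.trace_smul,
      Matrix.trace_one, Fintype.card_fin, smul_eq_mul] at e3
    exact pw_injective hOm (mul_right_cancel₀ (pw_ne_zero hOm _) (mul_right_cancel₀ (by exact_mod_cast h3) e3))
  have hfb : Function.Bijective f := (Fintype.bijective_iff_injective_and_card f).mpr ⟨hfi, by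
    rw [← Nat.card_eq_fintype_card (α := R), hcard]; simp⟩
  have hφi : Function.Injective φ := fun x y h => by
    have h' : P⁻¹ * x * P = P⁻¹ * y * P := Units.ext h
    exact mul_left_cancel (mul_right_cancel h')
  intro g
  constructor
  · intro hg
    obtain ⟨x, hx⟩ := hfb.2 ⟨g, hg⟩
    exact ⟨x.1, x.2, by rw [← hf, hx]; rfl⟩
  · rintro ⟨i, e, he⟩
    have : g = (f (i, e) : GL (Fin 3) F) := hφi ((show φ g = _ from he).trans (hf (i, e)).symm)
    rw [this]; exact (f (i, e)).2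

/-- Coordinates for the group of order `27`. -/
theorem exists_coords {R : Subgroup (GL (Fin 3) F)} (hR : IsLinearSymplecticTypeData 3 R) :
    ∃ (ω : F) (P : GL (Fin 3) F), Om ω ∧ ∀ g : GL (Fin 3) F, g ∈ R ↔
      ∃ c e, ((P⁻¹ * g * P : GL (Fin 3) F) : Matrix (Fin 3) (Fin 3) F) = pw ω c • rm ω e := by
  haveI : Nonempty (Fin 3) := ⟨0⟩
  haveI : Fact (Nat.Prime 3) := ⟨Nat.prime_three⟩
  have hZ : Nat.card (Subgroup.center R) = 3 := by
    obtain ⟨q, e, -, -, h | h | h⟩ := hR.field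
    · exact h.2.2.1
    · exact absurd h.1 (by decide)
    · exact absurd h.1 (by decide)
  have h3 : (3 : F) ≠ 0 := by
    obtain ⟨q, e, hq, ⟨hqp, hchar, -, -, -⟩, -⟩ := hR.field
    rw [show (3 : F) = ((3 : ℕ) : F) by norm_num, Ne, CharP.cast_eq_zero_iff F q]
    exact fun h => hq ((Nat.prime_dvd_prime_iff_eq hqp Nat.prime_three).mp h).symm
  refine exists_coords_of hR.symplecticType hR.absIrred h3 ?_ hZ
  rw [← card_sq_of_scalar_commutators hR.absIrred (symplecticTypeGroup_comm hR.symplecticType hR.absIrred), hZ,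
    Fintype.card_fin]
  norm_num

/-- **Maximality.** -/
theorem isMaximal (hp : p.Prime) (hF : Fintype.card F = p) (h1 : p % 3 = 1)
    {R : Subgroup (GL (Fin 3) F)} (hR : IsLinearSymplecticTypeData 3 R) :
    IsMaximalIn (specialLinear (Fin 3) F) (subgroupNormalizer R ⊓ specialLinear (Fin 3) F) := by
  classical
  haveI := Fact.mk hp
  haveI : CharP F p := Cfsg.Agent.Classical.Frame.charP_of_card_pow hp one_ne_zero (by rw [pow_one, hF])
  have h7 : 7 ≤ p := by
    have := hp.two_le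
    rcases Nat.lt_or_ge p 7 with h | h
    · interval_cases p <;> simp_all (config := { decide := true })
    · exact h
  obtain ⟨ω, P, hω, hmem⟩ := exists_coords hR
  let φ : Matrix.SpecialLinearGroup (Fin 3) F →* GL (Fin 3) F :=
    (MulAut.conj P).toMonoidHom.comp Matrix.SpecialLinearGroup.toGL
  have hφ : ∀ s, φ s = P * Matrix.SpecialLinearGroup.toGL s * P⁻¹ := fun s => rfl
  have hback : ∀ s, ((P⁻¹ * φ s * P : GL (Fin 3) F) : Matrix (Fin 3) (Fin 3) F) = s.1 := fun s => by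
    rw [show P⁻¹ * φ s * P = Matrix.SpecialLinearGroup.toGL s by rw [hφ]; group]; rfl
  have hφS : ∀ s, φ s ∈ specialLinear (Fin 3) F := fun s => by
    rw [mem_specialLinear_iff, hφ, Units.val_mul, Units.val_mul, Matrix.det_mul_right_comm, ← Units.val_mul,
      mul_inv_cancel, Units.val_one, Matrix.one_mul]
    exact s.2
  have hsurj : ∀ g ∈ specialLinear (Fin 3) F, ∃ s, φ s = g := fun g hg => by
    obtain ⟨s, hs⟩ : ∃ s : Matrix.SpecialLinearGroup (Fin 3) F,
        Matrix.SpecialLinearGroup.toGL s = P⁻¹ * g * P := by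
      have hd : ((P⁻¹ * g * P : GL (Fin 3) F) : Matrix (Fin 3) (Fin 3) F).det = 1 := by
        rw [Units.val_mul, Units.val_mul, Matrix.det_mul_right_comm, ← Units.val_mul, inv_mul_cancel,
          Units.val_one, Matrix.one_mul]
        exact mem_specialLinear_iff.mp hg
      exact ⟨⟨_, hd⟩, Units.ext rfl⟩
    exact ⟨s, by rw [hφ, hs]; group⟩
  -- elements permuting the standard group up to scalars normalise it
  have hnorm : ∀ s : Matrix.SpecialLinearGroup (Fin 3) F,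
      (∀ e, ∃ c f, s.1 * rm ω e = pw ω c • (rm ω f * s.1)) → φ s ∈ subgroupNormalizer R := by
    intro s hs
    refine Ctx.mem_normalizer_of_forall fun x hx => ?_
    obtain ⟨c, e, he⟩ := (hmem x).mp hx
    obtain ⟨c', f, hf⟩ := hs e
    refine (hmem _).mpr ⟨c + c', f, ?_⟩
    rw [show P⁻¹ * (φ s * x * (φ s)⁻¹) * P = (P⁻¹ * φ s * P) * (P⁻¹ * x * P) * (P⁻¹ * φ s * P)⁻¹ by group,
      Units.val_mul, Units.val_mul, he, hback, Matrix.mul_smul, hf, smul_smul, ← pw_add hω, Matrix.smul_mul,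
      Matrix.mul_assoc (rm ω f), ← hback s, ← Units.val_mul, mul_inv_cancel, Units.val_one, Matrix.mul_one]
  let mk : ∀ X : Matrix (Fin 3) (Fin 3) F, X.det = 1 → Matrix.SpecialLinearGroup (Fin 3) F := fun X h => ⟨X, h⟩
  have hr : ∀ e0, φ (mk (rm ω e0) (det_rm hω e0)) ∈ subgroupNormalizer R := fun e0 => hnorm _ fun e =>
    ⟨_, e, rm_comm hω e0 e⟩
  have hzd : (pw ω 1 • (1 : Matrix (Fin 3) (Fin 3) F)).det = 1 := by
    rw [Matrix.det_smul, Matrix.det_one, mul_one, Fintype.card_fin, pw_one_val]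
    linear_combination hω.cube
  have hz : φ (mk _ hzd) ∈ subgroupNormalizer R := hnorm _ fun e => ⟨0, e, by
    simp [mk, pw_zero]⟩
  have ht : ∀ a, φ (mk (Tm ω a) (det_Tm hω a)) ∈ subgroupNormalizer R := fun a => hnorm _ fun e => by
    have h1 : Tm ω a * rm ω a = rm ω a * Tm ω 0 := by simpa using Tm_mul_rm hω a 0
    have hi : rm ω a * (pw ω (-(a.2 * (-a).1)) • rm ω (-a)) = 1 := by
      rw [Matrix.mul_smul, rm_mul hω, add_neg_cancel, rm_zero, smul_smul, ← pw_add hω, neg_add_cancel, pw_zero,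
        one_smul]
    have hT : Tm ω a = rm ω a * Tm ω 0 * (pw ω (-(a.2 * (-a).1)) • rm ω (-a)) := by
      rw [← h1, Matrix.mul_assoc, hi, Matrix.mul_one]
    obtain ⟨c1, hc1⟩ := Tm_zero_rm hω e
    refine ⟨((-a).2 * e.1 - e.2 * (-a).1) + c1 + (a.2 * (-e).1 - (-e).2 * a.1), -e, ?_⟩
    show Tm ω a * rm ω e = _ • (rm ω (-e) * Tm ω a)
    rw [hT]
    simp only [Matrix.mul_smul, Matrix.smul_mul, Matrix.mul_assoc, rm_comm hω (-a) e, smul_smul]
    rw [← Matrix.mul_assoc (Tm ω 0), hc1]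
    simp only [Matrix.mul_smul, Matrix.smul_mul, smul_smul, Matrix.mul_assoc]
    rw [← Matrix.mul_assoc (rm ω a) (rm ω (-e)), rm_comm hω a (-e)]
    simp only [Matrix.mul_smul, Matrix.smul_mul, smul_smul, Matrix.mul_assoc, pw_add hω]
    congr 1
    ring
  have hq : ∀ k, φ (mk (qm ω k) (det_qm hω k)) ∈ subgroupNormalizer R := fun k => hnorm _ fun e => by
    obtain ⟨c, hc⟩ := qm_rm hω k e
    exact ⟨c, _, hc⟩
  refine ⟨lt_of_le_not_ge inf_le_right fun hall => ?_, fun M hle hM => ?_⟩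
  · -- a transvection does not normalise
    obtain ⟨s, hs⟩ := hsurj _ (transGL_mem (show (0 : Fin 3) ≠ 1 by decide) (1 : F))
    obtain ⟨t, htd⟩ : ∃ t : Matrix.SpecialLinearGroup (Fin 3) F, t.1 = !![1, 1, 0; 0, 1, 0; 0, 0, 1] :=
      ⟨⟨_, by simp [Matrix.det_fin_three]⟩, rfl⟩
    have hN : φ t ∈ subgroupNormalizer R := (hall (hφS t)).1
    have hxR : φ (mk (rm ω (0, 1)) (det_rm hω _)) ∈ R := (hmem _).mpr ⟨0, (0, 1), by
      rw [hback, pw_zero, one_smul]⟩
    obtain ⟨c, e, he⟩ := (hmem _).mp ((Subgroup.mem_normalizer_iff.mp hN _).mp hxR)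
    have h2 : t.1 * rm ω (0, 1) = pw ω c • (rm ω e * t.1) := by
      have e1 : ((P⁻¹ * (φ t * φ (mk (rm ω (0, 1)) (det_rm hω _)) * (φ t)⁻¹) * P : GL (Fin 3) F) :
          Matrix (Fin 3) (Fin 3) F) * t.1 = t.1 * rm ω (0, 1) := by
        rw [← hback t]
        conv_rhs => rw [show rm ω (0, 1) = ((P⁻¹ * φ (mk (rm ω (0, 1)) (det_rm hω _)) * P : GL (Fin 3) F) :
          Matrix (Fin 3) (Fin 3) F) from (hback (mk (rm ω (0, 1)) (det_rm hω _))).symm]
        rw [← Units.val_mul, ← Units.val_mul]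
        congr 1
        group
      rw [← e1, he, Matrix.smul_mul]
    have hω1 := hω.ne_one
    have hω0 := pw_ne_zero hω c
    have e00 := congrFun (congrFun h2 0) 0
    have e01 := congrFun (congrFun h2 0) 1
    obtain ⟨i, j⟩ := e
    fin_cases i <;> fin_cases j <;>
      simp [htd, rm, mono, Matrix.mul_apply, Fin.sum_univ_three, pw_zero, pw_one_val, pw_two_val,
        fin_three_facts] at e00 e01 <;>
      first | exact hω0 e00.symm | exact hω1 (by linear_combination e01 - e00) | grind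
  · let G : Subgroup (Matrix.SpecialLinearGroup (Fin 3) F) := M.comap φ
    rcases permutes_or_top hF h7 hω G
      (fun e => ⟨_, hle ⟨hr e, hφS _⟩, rfl⟩) ⟨_, hle ⟨hz, hφS _⟩, rfl⟩
      (fun e => ⟨_, hle ⟨ht e, hφS _⟩, rfl⟩) (fun k => ⟨_, hle ⟨hq k, hφS _⟩, rfl⟩) with hperm | htop
    · left
      refine le_antisymm (fun g hg => ⟨?_, hM hg⟩) hle
      obtain ⟨s, rfl⟩ := hsurj g (hM hg)
      refine hnorm s fun e => ?_
      obtain ⟨x, hx⟩ := hperm s hg (-e)
      obtain ⟨y, hy⟩ := hperm s hg 0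
      obtain ⟨d, hd⟩ := Tm_mul_Tm hω (-e) 0
      obtain ⟨d', hd'⟩ := Tm_mul_Tm hω x y
      rw [show -e - 0 + (-e - 0) = e from (show ∀ e : Fin 3 × Fin 3, -e - 0 + (-e - 0) = e by decide +kernel) e] at hd
      have hre : rm ω e = pw ω (-d) • (Tm ω (-e) * Tm ω 0) := by
        rw [hd, smul_smul, ← pw_add hω, neg_add_cancel, pw_zero, one_smul]
      refine ⟨-d + d', x - y + (x - y), ?_⟩
      rw [hre, Matrix.mul_smul, ← Matrix.mul_assoc, hx, Matrix.mul_assoc, hy, ← Matrix.mul_assoc, hd',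
        Matrix.smul_mul, smul_smul, pw_add hω]
    · right
      refine le_antisymm hM fun g hg => ?_
      obtain ⟨s, rfl⟩ := hsurj g hg
      exact (SetLike.ext_iff.mp htop s).mpr trivial

end Cfsg.Agent.Classical.LinThree.Hess
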