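import Cfsg.Agent.Lib.Classical.LinThree.HessInvol
import Cfsg.Agent.Lib.Char.ZStar
import Cfsg.Agent.Lib.Solv.Coprime
import Cfsg.Agent.Lib.Solv.Cores
import Cfsg.Agent.Lib.Char.Blichfeldt

/-!
# A `p'`-group containing the standard elements permutes the nine involutions

The standard involution is isolated, so by the theorem of Glauberman it is central modulo the odd core; the
Sylow subgroups of the odd core centralise it, except for the standard group of order `27`.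
-/

set_option autoImplicit false
set_option linter.style.haveILetI false
set_option linter.unusedSectionVars false

open Cfsg Module
open scoped Matrix

namespace Cfsg.Agent.Classical.LinThree.Hess

universe u v

/-- Additive maps of the index plane. -/
def lin (a b e : Fin 3 × Fin 3) : Fin 3 × Fin 3 := (e.1 * a.1 + e.2 * b.1, e.1 * a.2 + e.2 * b.2)

theorem eigen_indep {K V ι : Type*} [Field K] [AddCommGroup V] [Module K V] (X Y : Module.End K V)
    (v : ι → V) (a b : ι → K) (hX : ∀ i, X (v i) = a i • v i) (hY : ∀ i, Y (v i) = b i • v i)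
    (hv : ∀ i, v i ≠ 0) (hd : ∀ i j, a i = a j → b i = b j → i = j) (s : Finset ι) (g : ι → K)
    (h : ∑ i ∈ s, g i • v i = 0) : ∀ i ∈ s, g i = 0 := by
  classical
  induction s using Finset.induction generalizing g with
  | empty => simp
  | insert i0 s hi ih =>
    rw [Finset.sum_insert hi] at h
    have key : ∀ (Z : Module.End K V) (c : ι → K), (∀ i, Z (v i) = c i • v i) →
        ∀ i ∈ s, g i * (c i - c i0) = 0 := by
      intro Z c hZ
      refine ih (fun i => g i * (c i - c i0)) ?_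
      have e := congrArg Z h
      rw [map_add, map_sum, map_smul, map_zero, hZ] at e
      simp only [map_smul, hZ] at e
      have e2 : c i0 • (g i0 • v i0 + ∑ i ∈ s, g i • v i) = 0 := by rw [h, smul_zero]
      rw [smul_add, Finset.smul_sum] at e2
      have e3 : ∑ i ∈ s, g i • c i • v i - ∑ i ∈ s, c i0 • g i • v i = 0 := by
        have := congrArg₂ (· - ·) e e2
        simp only [sub_zero, smul_comm (g i0) (c i0)] at this
        rwa [add_sub_add_left_eq_sub] at this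
      rw [← Finset.sum_sub_distrib] at e3
      rw [← e3]
      exact Finset.sum_congr rfl fun i _ => by module
    have hs : ∀ i ∈ s, g i = 0 := fun i hi' => by
      by_contra hg
      have ea := sub_eq_zero.mp ((mul_eq_zero.mp (key X a hX i hi')).resolve_left hg)
      have eb := sub_eq_zero.mp ((mul_eq_zero.mp (key Y b hY i hi')).resolve_left hg)
      exact hi (hd i i0 ea eb ▸ hi')
    rw [Finset.sum_eq_zero (fun i hi' => by rw [hs i hi', zero_smul]), add_zero] at h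
    exact Finset.forall_mem_insert _ _ _ |>.mpr ⟨(smul_eq_zero.mp h).resolve_right (hv i0), hs⟩

/-- No commuting odd pair is turned by a quarter turn in dimension three. -/
theorem quarter_turn_trivial {G : Type*} [Group G] [Finite G] (ρ : Representation ℂ G (Fin 3 → ℂ))
    (hρ : Function.Injective ρ) {q x : G} (hx : Odd (orderOf x)) (hc : Commute x (q * x * q⁻¹))
    (hinv : q * (q * x * q⁻¹) * q⁻¹ = x⁻¹) : x = 1 := by
  by_contra hx1
  obtain ⟨y, hy⟩ : ∃ y, y = q * x * q⁻¹ := ⟨_, rfl⟩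
  rw [← hy] at hc hinv
  obtain ⟨n, hn⟩ : ∃ n, n = orderOf x := ⟨_, rfl⟩
  rw [← hn] at hx
  obtain ⟨bs, μ, hμ, hb⟩ := Char.exists_eigenbasis_of_pow_eq_one (ρ x) n (hn ▸ (orderOf_pos x).ne')
    (by rw [← map_pow, hn, pow_orderOf_eq_one, map_one])
  obtain ⟨i, hi⟩ : ∃ i, μ i ≠ 1 := by
    by_contra h
    push Not at h
    refine hx1 (hρ ?_)
    rw [map_one]
    exact bs.ext fun i => by rw [hb, h, one_smul]; rfl
  obtain ⟨c, hcd⟩ : ∃ c, c = μ i := ⟨_, rfl⟩
  have hc0 : c ≠ 0 := fun e => by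
    have := hμ i
    rw [← hcd, e, zero_pow (hn ▸ (orderOf_pos x).ne')] at this
    exact zero_ne_one this
  have hc2 : c * c ≠ 1 := fun e => by
    obtain ⟨m, hm⟩ := hx
    have h1 := hμ i
    rw [← hcd, hm, pow_succ, pow_mul, sq, e, one_pow, one_mul] at h1
    exact hi (hcd ▸ h1)
  let E := LinearMap.ker (ρ x - c • (1 : Module.End ℂ (Fin 3 → ℂ)))
  have hmem : ∀ w, w ∈ E ↔ ρ x w = c • w := fun w => by
    simp [E, LinearMap.mem_ker, sub_eq_zero]
  have hyE : ∀ w ∈ E, ρ y w ∈ E := fun w hw => by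
    rw [hmem] at hw ⊢
    rw [← Module.End.mul_apply, ← map_mul, hc.eq, map_mul, Module.End.mul_apply, hw, map_smul]
  haveI : Nontrivial E := ⟨⟨bs i, (hmem _).mpr (hcd ▸ hb i)⟩, 0, fun e => bs.ne_zero i (congrArg Subtype.val e)⟩
  obtain ⟨d, hd⟩ := Module.End.exists_eigenvalue ((ρ y).restrict hyE)
  obtain ⟨w, hw⟩ := hd.exists_hasEigenvector
  obtain ⟨v, hvd⟩ : ∃ v : Fin 3 → ℂ, v = (w : Fin 3 → ℂ) := ⟨_, rfl⟩
  have hv0 : v ≠ 0 := fun e => hw.2 (Subtype.ext (hvd ▸ e))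
  have hxv : ρ x v = c • v := hvd ▸ (hmem _).mp w.2
  have hyv : ρ y v = d • v := by
    have := congrArg Subtype.val hw.apply_eq_smul
    rw [hvd]; exact this
  have hd0 : d ≠ 0 := fun e => by
    rw [e, zero_smul] at hyv
    refine hv0 ?_
    rw [show v = ρ (y⁻¹ * y) v by rw [inv_mul_cancel, map_one]; rfl, map_mul, Module.End.mul_apply, hyv, map_zero]
  have hinv' : ∀ (g : G) (a : ℂ) (u : Fin 3 → ℂ), a ≠ 0 → ρ g u = a • u → ρ g⁻¹ u = a⁻¹ • u := by
    intro g a u ha h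
    have e := congrArg (ρ g⁻¹) h
    rw [map_smul, ← Module.End.mul_apply, ← map_mul, inv_mul_cancel, map_one, Module.End.one_apply] at e
    rw [eq_inv_smul_iff₀ ha]; exact e.symm
  have hstep : ∀ (a b : ℂ) (u : Fin 3 → ℂ), a ≠ 0 → b ≠ 0 → ρ x u = a • u → ρ y u = b • u →
      ρ x (ρ q u) = b⁻¹ • ρ q u ∧ ρ y (ρ q u) = a • ρ q u := by
    intro a b u ha hb' h1 h2
    have e1 : x * q = q * y⁻¹ := by
      have : q * y * q⁻¹ = x⁻¹ := hinv
      have e := congrArg (·⁻¹) this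
      simp only [mul_inv_rev, inv_inv] at e
      rw [← e]; group
    have e2 : y * q = q * x := by rw [hy]; group
    constructor
    · rw [← Module.End.mul_apply, ← map_mul, e1, map_mul, Module.End.mul_apply, hinv' y b u hb' h2, map_smul]
    · rw [← Module.End.mul_apply, ← map_mul, e2, map_mul, Module.End.mul_apply, h1, map_smul]
  obtain ⟨h1x, h1y⟩ := hstep c d v hc0 hd0 hxv hyv
  obtain ⟨h2x, h2y⟩ := hstep _ _ _ (inv_ne_zero hd0) hc0 h1x h1y
  obtain ⟨h3x, h3y⟩ := hstep _ _ _ (inv_ne_zero hc0) (inv_ne_zero hd0) h2x h2y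
  rw [inv_inv] at h3x
  have hne : ∀ u : Fin 3 → ℂ, u ≠ 0 → ρ q u ≠ 0 := fun u hu e => hu (by
    rw [show u = ρ (q⁻¹ * q) u by rw [inv_mul_cancel, map_one]; rfl, map_mul, Module.End.mul_apply, e, map_zero])
  have hind := eigen_indep (ρ x) (ρ y) ![v, ρ q v, ρ q (ρ q v), ρ q (ρ q (ρ q v))] ![c, d⁻¹, c⁻¹, d]
    ![d, c, d⁻¹, c⁻¹] (by intro j; fin_cases j <;> first | exact hxv | exact h1x | exact h2x | exact h3x)
    (by intro j; fin_cases j <;> first | exact hyv | exact h1y | exact h2y | exact h3y)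
    (by intro j; fin_cases j <;> first | exact hv0 | exact hne _ hv0 | exact hne _ (hne _ hv0) |
      exact hne _ (hne _ (hne _ hv0)))
    (by
      have hd2 : c * c ≠ 1 := hc2
      intro j k
      fin_cases j <;> fin_cases k <;> simp <;> intro e1 e2 <;> first | omega | grind)
    Finset.univ
  have hli : LinearIndependent ℂ ![v, ρ q v, ρ q (ρ q v), ρ q (ρ q (ρ q v))] :=
    Fintype.linearIndependent_iff.mpr fun g hg j => hind g hg j (Finset.mem_univ j)
  have := hli.fintype_card_le_finrank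
  simp at this

variable {F : Type v} [Field F] {G : Type u} [Group G] {ω : F}

namespace Ctx

variable (C : Ctx G ω)

theorem smul_rm_eq {a b : Fin 3} {e f : Fin 3 × Fin 3} (h : Om ω)
    (he : pw ω a • rm ω e = pw ω b • rm ω f) : e = f := by
  by_contra hne
  have := congrArg (fun X => (X * rm ω (-f)).trace) he
  simp only [Matrix.smul_mul, rm_mul h, add_neg_cancel, rm_zero, smul_smul, ← pw_add h, Matrix.trace_smul,
    Matrix.trace_one, Fintype.card_fin, trace_rm h (fun q : e + -f = 0 => hne (add_neg_eq_zero.mp q)),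
    smul_eq_mul, mul_zero] at this
  first
    | exact mul_ne_zero (pw_ne_zero h _) h.three (by exact_mod_cast this)
    | exact mul_ne_zero (pw_ne_zero h _) h.three (by exact_mod_cast this.symm)

/-- The standard group of order `27`. -/
def R0 : Subgroup G where
  carrier := {g | ∃ c e, C.σ g = pw ω c • rm ω e}
  one_mem' := ⟨0, 0, by rw [map_one, rm_zero, pw_zero, one_smul]⟩
  mul_mem' := by
    rintro g g' ⟨c, e, h⟩ ⟨c', e', h'⟩
    exact ⟨c + c' + e.2 * e'.1, e + e', by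
      rw [map_mul, h, h', Matrix.smul_mul, Matrix.mul_smul, rm_mul C.om, smul_smul, smul_smul, pw_add C.om,
        pw_add C.om]⟩
  inv_mem' := by
    rintro g ⟨c, e, h⟩
    refine ⟨-c - e.2 * (-e).1, -e, ?_⟩
    have e1 : C.σ g * (pw ω (-c - e.2 * (-e).1) • rm ω (-e)) = 1 := by
      rw [h, Matrix.smul_mul, Matrix.mul_smul, rm_mul C.om, add_neg_cancel, rm_zero, smul_smul, smul_smul,
        ← pw_add C.om, ← pw_add C.om, show c + (-c - e.2 * (-e).1) + e.2 * (-e).1 = 0 by abel, pw_zero, one_smul]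
    calc C.σ g⁻¹ = C.σ g⁻¹ * (C.σ g * (pw ω (-c - e.2 * (-e).1) • rm ω (-e))) := by rw [e1, Matrix.mul_one]
      _ = _ := by rw [← Matrix.mul_assoc, ← map_mul, inv_mul_cancel, map_one, Matrix.one_mul]

theorem mem_R0 {g : G} : g ∈ C.R0 ↔ ∃ c e, g = C.z ^ ((c : Fin 3) : ℕ) * C.r e := by
  constructor
  · rintro ⟨c, e, h⟩
    exact ⟨c, e, C.inj (by rw [h, map_mul, C.z_pow, C.hr, Matrix.smul_mul, Matrix.one_mul])⟩
  · rintro ⟨c, e, rfl⟩
    exact ⟨c, e, by rw [map_mul, C.z_pow, C.hr, Matrix.smul_mul, Matrix.one_mul]⟩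

theorem r_mem (e : Fin 3 × Fin 3) : C.r e ∈ C.R0 := ⟨0, e, by rw [C.hr, pw_zero, one_smul]⟩

theorem r_conj (e : Fin 3 × Fin 3) : C.r e * C.t 0 * (C.r e)⁻¹ = C.t e := by
  rw [mul_inv_eq_iff_eq_mul]
  refine C.inj ?_
  rw [map_mul, map_mul, C.ht, C.ht, C.hr, ← Tm_mul_rm C.om e 0, add_zero]

theorem t_injective : Function.Injective C.t := fun e f h =>
  Tm_injective C.om (by rw [← C.ht, ← C.ht, h])

theorem z_pow_mem (c : Fin 3) : C.z ^ (c : ℕ) ∈ C.R0 := ⟨c, 0, by rw [C.z_pow, rm_zero]⟩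

theorem eq_z_of_scalar {g : G} {s : F} (hs : C.σ g = s • (1 : Matrix (Fin 3) (Fin 3) F)) :
    ∃ c : Fin 3, g = C.z ^ (c : ℕ) := by
  have hd := C.det g
  rw [hs, Matrix.det_smul, Fintype.card_fin, Matrix.det_one, mul_one] at hd
  have : s = pw ω 0 ∨ s = pw ω 1 ∨ s = pw ω 2 := by
    have h3 := C.om.cube
    have hr := C.om.root
    have : (s - 1) * (s - ω) * (s - ω * ω) = 0 := by grind
    rw [pw_zero, pw_one_val, pw_two_val]
    rcases mul_eq_zero.mp this with h | h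
    · rcases mul_eq_zero.mp h with h | h
      · exact Or.inl (sub_eq_zero.mp h)
      · exact Or.inr (Or.inl (sub_eq_zero.mp h))
    · exact Or.inr (Or.inr (sub_eq_zero.mp h))
  rcases this with rfl | rfl | rfl <;> exact ⟨_, C.inj (hs.trans (C.z_pow _).symm)⟩

/-- An element acting on the standard group by scalars lies in it. -/
theorem mem_R0_of_twist {y : G} (hy : ∀ e, ∃ c : Fin 3, y * C.r e * y⁻¹ = C.z ^ (c : ℕ) * C.r e) :
    y ∈ C.R0 := by
  obtain ⟨a, ha⟩ := hy (1, 0)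
  obtain ⟨b, hb⟩ := hy (0, 1)
  have hmat : ∀ e c, y * C.r e * y⁻¹ = C.z ^ ((c : Fin 3) : ℕ) * C.r e →
      C.σ y * rm ω e = pw ω c • (rm ω e * C.σ y) := fun e c h => by
    rw [mul_inv_eq_iff_eq_mul] at h
    have := congrArg C.σ h
    rwa [map_mul, map_mul, map_mul, C.z_pow, C.hr, Matrix.smul_mul, Matrix.one_mul, Matrix.smul_mul] at this
  obtain ⟨W, hW⟩ : ∃ W, W = C.r ((-b, a) : Fin 3 × Fin 3) := ⟨_, rfl⟩
  obtain ⟨g, hg⟩ : ∃ g, g = W⁻¹ * y := ⟨_, rfl⟩
  have hgen : ∀ e c, y * C.r e * y⁻¹ = C.z ^ ((c : Fin 3) : ℕ) * C.r e → a * e.1 - e.2 * -b = c →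
      C.σ g * rm ω e = rm ω e * C.σ g := fun e c h hc => by
    have e1 : rm ω (-b, a) * rm ω e = pw ω c • (rm ω e * rm ω (-b, a)) := by rw [rm_comm C.om, hc]
    have e2 : C.σ W * (C.σ g * rm ω e) = C.σ W * (rm ω e * C.σ g) := by
      rw [← Matrix.mul_assoc, ← Matrix.mul_assoc, ← map_mul, hg, mul_inv_cancel_left, hmat e c h, hW, C.hr, e1,
        Matrix.smul_mul, Matrix.mul_assoc (rm ω e), ← C.hr (-b, a), ← map_mul C.σ (C.r (-b, a)),
        ← hW, mul_inv_cancel_left]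
    have := congrArg (C.σ W⁻¹ * ·) e2
    simpa [← Matrix.mul_assoc, ← map_mul] using this
  have h10 := hgen (1, 0) a ha (by simp)
  have h01 := hgen (0, 1) b hb (by simp)
  obtain ⟨s, hs⟩ := scalar_of_commute C.om (X := C.σ g) fun e => by
    have hpow : ∀ e0, C.σ g * rm ω e0 = rm ω e0 * C.σ g → ∀ n : ℕ, C.σ g * rm ω e0 ^ n = rm ω e0 ^ n * C.σ g :=
      fun e0 h n => (Commute.pow_right h n).eq
    have hexp : ∃ c, rm ω e = pw ω c • (rm ω (1, 0) ^ (e.1 : ℕ) * rm ω (0, 1) ^ (e.2 : ℕ)) := by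
      obtain ⟨i, j⟩ := e
      refine ⟨0, ?_⟩
      rw [pw_zero, one_smul]
      fin_cases i <;> fin_cases j <;>
        simp [pow_two, rm_mul C.om, pw_zero, ← rm_zero (ω := ω)] <;> rfl
    obtain ⟨c, hc⟩ := hexp
    rw [hc, Matrix.mul_smul, Matrix.smul_mul, ← Matrix.mul_assoc, hpow _ h10, Matrix.mul_assoc, hpow _ h01,
      Matrix.mul_assoc]
  obtain ⟨c, hc⟩ := C.eq_z_of_scalar hs
  rw [show y = W * g by rw [hg, mul_inv_cancel_left], hc, hW]
  exact C.R0.mul_mem (C.r_mem _) (C.z_pow_mem c)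

theorem eq_t_of_mem {g : G} (hg : g ∈ C.R0) (h2 : g * C.t 0 * (g * C.t 0) = 1) :
    ∃ x, g * C.t 0 = C.t x := by
  obtain ⟨c, f, rfl⟩ := C.mem_R0.mp hg
  obtain ⟨d, hd⟩ := Tm_mul_Tm C.om (f + f) 0
  have hf : f + f - 0 + (f + f - 0) = f := (show ∀ f : Fin 3 × Fin 3, f + f - 0 + (f + f - 0) = f by decide +kernel) f
  rw [hf] at hd
  have e : C.r f * C.t 0 = C.z ^ ((-d : Fin 3) : ℕ) * C.t (f + f) := C.inj (by
    rw [map_mul, map_mul, C.z_pow, C.hr, C.ht, C.ht, Matrix.smul_mul, Matrix.one_mul]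
    calc rm ω f * Tm ω 0 = pw ω (-d) • (pw ω d • rm ω f) * Tm ω 0 := by
          rw [smul_smul, ← pw_add C.om, neg_add_cancel, pw_zero, one_smul]
      _ = _ := by rw [← hd, Matrix.smul_mul, Matrix.mul_assoc, Tm_mul_self C.om, Matrix.mul_one])
  rw [show C.z ^ (c : ℕ) * C.r f * C.t 0 = C.z ^ (c : ℕ) * (C.r f * C.t 0) from mul_assoc _ _ _, e] at h2 ⊢
  obtain ⟨n, hn⟩ : ∃ n : Fin 3, n = c + -d := ⟨_, rfl⟩
  have e2 : C.z ^ (c : ℕ) * (C.z ^ ((-d : Fin 3) : ℕ) * C.t (f + f)) = C.z ^ (n : ℕ) * C.t (f + f) :=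
    C.inj (by simp only [map_mul, C.z_pow, C.ht, Matrix.smul_mul, Matrix.one_mul, smul_smul, hn, pw_add C.om])
  rw [e2] at h2 ⊢
  have h3 := congrArg C.σ h2
  rw [map_mul, map_mul, C.z_pow, C.ht, map_one, Matrix.smul_mul, Matrix.one_mul, Matrix.smul_mul,
    Matrix.mul_smul, Tm_mul_self C.om, smul_smul, ← pw_add C.om] at h3
  have h4 := congrFun (congrFun h3 0) 0
  simp at h4
  rw [show n = 0 from (show ∀ n : Fin 3, n + n = 0 → n = 0 by decide) n (pw_eq_one C.om h4)]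
  exact ⟨f + f, by simp⟩

/-- The normaliser of the standard group permutes the involutions. -/
theorem conj_t_of_normalizes {g : G} (hg : ∀ e, g * C.r e * g⁻¹ ∈ C.R0) (hg' : ∀ e, g⁻¹ * C.r e * g ∈ C.R0) :
    ∃ x, g * C.t 0 * g⁻¹ = C.t x := by
  obtain ⟨v, hv⟩ : ∃ v, v = g * C.t 0 * g⁻¹ := ⟨_, rfl⟩
  have hy : v * C.t 0 ∈ C.R0 := by
    refine C.mem_R0_of_twist fun e => ?_
    obtain ⟨c1, hc1⟩ := Tm_zero_rm C.om e
    have h1 : C.t 0 * C.r e * (C.t 0)⁻¹ = C.z ^ (c1 : ℕ) * C.r (-e) := by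
      rw [mul_inv_eq_iff_eq_mul]
      exact C.inj (by rw [map_mul, map_mul, map_mul, C.z_pow, C.ht, C.hr, C.hr, hc1, Matrix.smul_mul,
        Matrix.one_mul, Matrix.smul_mul])
    obtain ⟨c2, f, hf⟩ := C.mem_R0.mp (hg' (-e))
    obtain ⟨c3, hc3⟩ := Tm_zero_rm C.om f
    have h2 : C.t 0 * C.r f * (C.t 0)⁻¹ = C.z ^ (c3 : ℕ) * C.r (-f) := by
      rw [mul_inv_eq_iff_eq_mul]
      exact C.inj (by rw [map_mul, map_mul, map_mul, C.z_pow, C.ht, C.hr, C.hr, hc3, Matrix.smul_mul,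
        Matrix.one_mul, Matrix.smul_mul])
    have hz : ∀ (n : ℕ) (a : G), a * C.z ^ n = C.z ^ n * a := fun n a =>
      ((Commute.pow_left (C.z_comm a) n).eq).symm
    have hz' : ∀ (n : ℕ) (a : G), a * C.z ^ n * a⁻¹ = C.z ^ n := fun n a => by
      rw [hz, mul_assoc, mul_inv_cancel, mul_one]
    have hzl : ∀ (n : ℕ) (a b : G), a * (C.z ^ n * b) = C.z ^ n * (a * b) := fun n a b => by
      rw [← mul_assoc, hz, mul_assoc]
    have hzg := fun n b => hzl n g b
    have hzgi := fun n b => hzl n g⁻¹ b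
    have hzt := fun n b => hzl n (C.t 0) b
    have hzti := fun n b => hzl n (C.t 0)⁻¹ b
    have h3 : C.r (-f) * C.r f = C.z ^ (((-f).2 * f.1 : Fin 3) : ℕ) := C.inj (by
      rw [map_mul, C.z_pow, C.hr, C.hr, rm_mul C.om, neg_add_cancel, rm_zero])
    have h4 : C.r (-e) * C.r e = C.z ^ (((-e).2 * e.1 : Fin 3) : ℕ) := C.inj (by
      rw [map_mul, C.z_pow, C.hr, C.hr, rm_mul C.om, neg_add_cancel, rm_zero])
    -- conjugate by the inverse of `g`, then by the involution, then back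
    have e5 : g * C.r f * g⁻¹ = (C.z ^ (c2 : ℕ))⁻¹ * C.r (-e) := by
      have : g⁻¹ * C.r (-e) * g = C.z ^ (c2 : ℕ) * C.r f := hf
      rw [eq_inv_mul_iff_mul_eq, ← mul_assoc, ← mul_assoc, ← hz, mul_assoc g, ← this]
      group
    have e6 : v * C.t 0 * C.r e * (v * C.t 0)⁻¹ =
        C.z ^ (c1 : ℕ) * C.z ^ (c2 : ℕ) * C.z ^ (c3 : ℕ) * (g * C.r (-f) * g⁻¹) := by
      rw [hv]
      calc g * C.t 0 * g⁻¹ * C.t 0 * C.r e * (g * C.t 0 * g⁻¹ * C.t 0)⁻¹
          = g * C.t 0 * (g⁻¹ * (C.t 0 * C.r e * (C.t 0)⁻¹) * g) * (C.t 0)⁻¹ * g⁻¹ := by group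
        _ = g * C.t 0 * (g⁻¹ * C.z ^ (c1 : ℕ) * C.r (-e) * g) * (C.t 0)⁻¹ * g⁻¹ := by rw [h1]; group
        _ = C.z ^ (c1 : ℕ) * (g * C.t 0 * (g⁻¹ * C.r (-e) * g) * (C.t 0)⁻¹ * g⁻¹) := by
          simp only [mul_assoc, hzg, hzgi, hzt, hzti]
        _ = C.z ^ (c1 : ℕ) * (C.z ^ (c2 : ℕ) * (g * (C.t 0 * C.r f * (C.t 0)⁻¹) * g⁻¹)) := by
          rw [hf]
          simp only [mul_assoc, hzg, hzgi, hzt, hzti]
        _ = _ := by
          rw [h2]
          simp only [mul_assoc, hzg, hzgi, hzt, hzti]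
    have e7 : (g * C.r (-f) * g⁻¹) * (g * C.r f * g⁻¹) = C.z ^ (((-f).2 * f.1 : Fin 3) : ℕ) := by
      rw [show g * C.r (-f) * g⁻¹ * (g * C.r f * g⁻¹) = g * (C.r (-f) * C.r f) * g⁻¹ by group, h3, hz']
    rw [e5] at e7
    obtain ⟨A, hA, hAd⟩ : ∃ A : G, g * C.r (-f) * g⁻¹ = A * C.r e ∧ ∃ s : F, C.σ A = s • (1 : Matrix (Fin 3) (Fin 3) F) := by
      refine ⟨C.z ^ (((-f).2 * f.1 : Fin 3) : ℕ) * C.z ^ (c2 : ℕ) * (C.z ^ (((-e).2 * e.1 : Fin 3) : ℕ))⁻¹, ?_, ?_⟩
      · have e9 := eq_mul_inv_of_mul_eq e7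
        rw [mul_inv_rev, inv_inv] at e9
        rw [e9, show (C.r (-e))⁻¹ = C.r e * (C.z ^ (((-e).2 * e.1 : Fin 3) : ℕ))⁻¹ by
          rw [← h4, mul_inv_rev, mul_inv_cancel_left]]
        have hc' : ∀ n : ℕ, Commute (C.r e) (C.z ^ n) := fun n => hz n _
        have key : ∀ Zf Zc Ze : G, Commute (C.r e) Zc → Commute (C.r e) Ze → Commute Ze⁻¹ Zc →
            Zf * (C.r e * Ze⁻¹ * Zc) = Zf * Zc * Ze⁻¹ * C.r e := fun Zf Zc Ze a b c => by
          rw [b.inv_right.eq, mul_assoc Ze⁻¹, a.eq, ← mul_assoc Ze⁻¹, c.eq]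
          simp only [mul_assoc]
        first
          | exact key _ _ _ (hc' _) (hc' _) (hz _ _)
          | (rw [← key _ _ _ (hc' _) (hc' _) (hz _ _)]; simp only [mul_assoc]; done)
          | (rw [← key _ _ _ (hc' _) (hc' _) (hz _ _)])
      · rw [← inv_pow]
        refine ⟨pw ω ((-f).2 * f.1) * pw ω c2 * pw ω (-((-e).2 * e.1)), ?_⟩
        rw [show (C.z⁻¹) ^ (((-e).2 * e.1 : Fin 3) : ℕ) = C.z ^ ((-((-e).2 * e.1) : Fin 3) : ℕ) from ?_]
        · simp only [map_mul, C.z_pow, Matrix.smul_mul, Matrix.one_mul, smul_smul]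
        · rw [inv_pow, inv_eq_iff_mul_eq_one]
          exact C.inj (by rw [map_mul, C.z_pow, C.z_pow, map_one, Matrix.smul_mul, Matrix.one_mul, smul_smul,
            ← pw_add C.om, add_neg_cancel, pw_zero, one_smul])
    obtain ⟨s, hs⟩ := hAd
    obtain ⟨c4, hc4⟩ := C.eq_z_of_scalar (g := C.z ^ (c1 : ℕ) * C.z ^ (c2 : ℕ) * C.z ^ (c3 : ℕ) * A)
      (s := pw ω c1 * pw ω c2 * pw ω c3 * s) (by
        simp only [map_mul, C.z_pow, hs, Matrix.smul_mul, Matrix.one_mul, smul_smul])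
    refine ⟨c4, ?_⟩
    rw [e6, hA, ← mul_assoc, hc4]
  obtain ⟨x, hx⟩ := C.eq_t_of_mem hy (by
    rw [mul_assoc v, C.t_sq, mul_one, hv,
      show g * C.t 0 * g⁻¹ * (g * C.t 0 * g⁻¹) = g * (C.t 0 * C.t 0) * g⁻¹ by group, C.t_sq, mul_one, mul_inv_cancel])
  exact ⟨x, by rwa [mul_assoc v, C.t_sq, mul_one, hv] at hx⟩

theorem mem_normalizer_of_forall [Finite G] {H : Subgroup G} {g : G} (h : ∀ x ∈ H, g * x * g⁻¹ ∈ H) :
    g ∈ Subgroup.normalizer (H : Set G) := by
  refine Subgroup.mem_normalizer_iff.mpr fun x => ⟨h x, fun hx => ?_⟩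
  obtain ⟨y, hy⟩ := (Finite.injective_iff_surjective (f := fun y : H => (⟨g * y * g⁻¹, h y y.2⟩ : H))).mp
    (fun a b e => Subtype.ext (mul_left_cancel (mul_right_cancel (congrArg Subtype.val e)))) ⟨g * x * g⁻¹, hx⟩
  have : (y : G) = x := mul_left_cancel (mul_right_cancel (congrArg Subtype.val hy))
  exact this ▸ y.2

include C in
theorem exists_rep [Finite G] [Fintype F] {p : ℕ} (hp : p.Prime) [CharP F p]
    (hG : ¬ p ∣ Nat.card G) :
    ∃ ρ : Representation ℂ G (Fin 3 → ℂ), Function.Injective ρ := by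
  have hspan : Submodule.span F (Set.range C.σ) = ⊤ := eq_top_iff.mpr ((span_rm C.om).symm.le.trans
    (Submodule.span_mono (by rintro _ ⟨e, rfl⟩; exact ⟨C.r e, C.hr e⟩)))
  obtain ⟨V, f, R, U, U', hUU', hU'U, hred, -, -⟩ :=
    exists_lift hp (by norm_num : 0 < 3) hG C.σ hspan
  let ρ : Representation ℂ G (Fin 3 → ℂ) := (Matrix.toLinAlgEquiv' : Matrix (Fin 3) (Fin 3) ℂ ≃ₐ[ℂ] _).toMonoidHom.comp
    ((V.subtype.mapMatrix : Matrix (Fin 3) (Fin 3) V →+* _).toMonoidHom.comp R)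
  refine ⟨ρ, fun a b h => C.inj ?_⟩
  have h1 : R a = R b := Matrix.map_injective V.subtype_injective (Matrix.toLinAlgEquiv'.injective h)
  have h2 := congrArg (fun X => U' * X.map (IsLocalRing.residue V) * U) h1
  simp only [hred, Matrix.mul_assoc, hU'U, Matrix.mul_one] at h2
  simp only [← Matrix.mul_assoc, hU'U, Matrix.one_mul] at h2
  exact Matrix.map_injective f.injective h2

/-- The index plane as a list. -/
def plane : List (Fin 3 × Fin 3) :=
  [(0, 0), (0, 1), (0, 2), (1, 0), (1, 1), (1, 2), (2, 0), (2, 1), (2, 2)]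

theorem mem_plane : ∀ e : Fin 3 × Fin 3, e ∈ plane := by decide +kernel

/-- The product with the turned conjugate. -/
def turned (k : Fin 3) (a b e : Fin 3 × Fin 3) : Fin 3 × Fin 3 := lin a b (act k (lin a b (-act k e)))

/-- The test for odd maps. -/
def oddTest (a b : Fin 3 × Fin 3) : Bool :=
  (plane.any fun e => decide (lin a b e = 0 ∧ e ≠ 0)) ||
  (plane.all fun e => decide (lin a b (lin a b (lin a b e)) = e)) ||
  ([0, 1, 2, 3] : List ℕ).any fun j =>
    (plane.all fun e => decide ((lin a b)^[2 * j + 2] e = e)) &&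
      (plane.any fun e => decide ((lin a b)^[j + 1] e ≠ e))

theorem odd_test : (plane.all fun a => plane.all fun b => oddTest a b) = true := by decide +kernel

/-- The test for maps of order three. -/
def cubeTest (a b : Fin 3 × Fin 3) : Bool :=
  (plane.any fun e => decide (lin a b (lin a b (lin a b e)) ≠ e)) ||
  (plane.all fun e => decide (lin a b e = e)) ||
  ([0, 1, 2] : List (Fin 3)).any fun k => plane.any fun e =>
    decide (turned k a b (turned k a b (turned k a b e)) ≠ e)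

theorem cube_test : (plane.all fun a => plane.all fun b => cubeTest a b) = true := by decide +kernel

theorem odd_lin (a b : Fin 3 × Fin 3) (hinj : ∀ e, lin a b e = 0 → e = 0) :
    (∀ e, lin a b (lin a b (lin a b e)) = e) ∨
      ∃ j : ℕ, (∀ e, (lin a b)^[2 * j + 2] e = e) ∧ ∃ e, (lin a b)^[j + 1] e ≠ e := by
  have h := List.all_eq_true.mp (List.all_eq_true.mp odd_test a (mem_plane a)) b (mem_plane b)
  simp only [oddTest, Bool.or_eq_true, List.any_eq_true, List.all_eq_true, Bool.and_eq_true,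
    decide_eq_true_eq] at h
  rcases h with (⟨e, -, h1, h2⟩ | h) | ⟨j, -, h1, e, -, h2⟩
  · exact absurd (hinj e h1) h2
  · exact Or.inl fun e => h e (mem_plane e)
  · exact Or.inr ⟨j, fun e => h1 e (mem_plane e), e, h2⟩

theorem cube_lin (a b : Fin 3 × Fin 3) (h3 : ∀ e, lin a b (lin a b (lin a b e)) = e) :
    (∀ e, lin a b e = e) ∨ ∃ k e, turned k a b (turned k a b (turned k a b e)) ≠ e := by
  have h := List.all_eq_true.mp (List.all_eq_true.mp cube_test a (mem_plane a)) b (mem_plane b)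
  simp only [cubeTest, Bool.or_eq_true, List.any_eq_true, List.all_eq_true, decide_eq_true_eq] at h
  rcases h with (⟨e, -, h1⟩ | h) | ⟨k, -, e, -, h1⟩
  · exact absurd (h3 e) h1
  · exact Or.inl fun e => h e (mem_plane e)
  · exact Or.inr ⟨k, e, h1⟩

variable [Finite G]

/-- An odd subgroup normalising the standard group, fixed by the quarter turns, lies in it. -/
theorem odd_le_R0 (W : Subgroup G) (hW : Odd (Nat.card W)) (hn : ∀ w ∈ W, ∀ e, w * C.r e * w⁻¹ ∈ C.R0)
    (hq : ∀ k, ∀ w ∈ W, C.q k * w * (C.q k)⁻¹ ∈ W) : W ≤ C.R0 := by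
  classical
  have hz : ∀ (n : ℕ) (a : G), a * C.z ^ n = C.z ^ n * a := fun n a =>
    ((Commute.pow_left (C.z_comm a) n).eq).symm
  have huniq : ∀ {c c' : Fin 3} {e f : Fin 3 × Fin 3},
      C.z ^ (c : ℕ) * C.r e = C.z ^ (c' : ℕ) * C.r f → e = f := fun {c c' e f} h => by
    have := congrArg C.σ h
    rw [map_mul, map_mul, C.z_pow, C.z_pow, C.hr, C.hr, Matrix.smul_mul, Matrix.smul_mul, Matrix.one_mul,
      Matrix.one_mul] at this
    exact smul_rm_eq C.om this
  let Acts : G → (Fin 3 × Fin 3 → Fin 3 × Fin 3) → Prop := fun g f =>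
    ∀ e, ∃ c : Fin 3, g * C.r e * g⁻¹ = C.z ^ (c : ℕ) * C.r (f e)
  have hmul : ∀ g g' f f', Acts g f → Acts g' f' → Acts (g * g') (fun e => f (f' e)) := by
    intro g g' f f' hg hg' e
    obtain ⟨c, hc⟩ := hg' e
    obtain ⟨c', hc'⟩ := hg (f' e)
    refine ⟨c + c', C.inj ?_⟩
    rw [show g * g' * C.r e * (g * g')⁻¹ = g * (g' * C.r e * g'⁻¹) * g⁻¹ by group, hc, ← mul_assoc g, hz,
      mul_assoc (C.z ^ (c : ℕ)) g, mul_assoc (C.z ^ (c : ℕ)), hc']
    simp only [map_mul, C.z_pow, C.hr, Matrix.smul_mul, Matrix.one_mul, smul_smul, pw_add C.om]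
  have hone : Acts 1 id := fun e => ⟨0, by simp⟩
  have hq' : ∀ k, Acts (C.q k) (act k) := fun k e => by
    obtain ⟨c, hc⟩ := qm_rm C.om k e
    refine ⟨c, ?_⟩
    rw [mul_inv_eq_iff_eq_mul]
    exact C.inj (by rw [map_mul, map_mul, map_mul, C.z_pow, C.hq, C.hr, C.hr, hc, Matrix.smul_mul,
      Matrix.one_mul, Matrix.smul_mul])
  have heq : ∀ g f f', Acts g f → Acts g f' → f = f' := fun g f f' h h' => funext fun e => by
    obtain ⟨c, hc⟩ := h e
    obtain ⟨c', hc'⟩ := h' e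
    exact huniq (hc.symm.trans hc')
  have hqinv : ∀ k, Acts (C.q k)⁻¹ (fun e => -act k e) := fun k e => by
    obtain ⟨c, hc⟩ := hq' k (-act k e)
    rw [show act k (-act k e) = e from (show ∀ k e, act k (-act k e) = e by decide +kernel) k e] at hc
    refine ⟨-c, ?_⟩
    have : (C.q k)⁻¹ * C.r e * C.q k = (C.z ^ (c : ℕ))⁻¹ * C.r (-act k e) := by
      rw [eq_inv_mul_iff_mul_eq, ← mul_assoc, ← mul_assoc, ← hz, mul_assoc (C.q k)⁻¹ _ (C.r e), ← hc]
      group
    rw [inv_inv, this]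
    congr 1
    rw [inv_eq_iff_mul_eq_one]
    exact C.inj (by rw [map_mul, C.z_pow, C.z_pow, map_one, Matrix.smul_mul, Matrix.one_mul, smul_smul,
      ← pw_add C.om, add_neg_cancel, pw_zero, one_smul])
  have hlin : ∀ w ∈ W, ∃ a b, Acts w (lin a b) := by
    intro w hw
    have h : ∀ e, ∃ c f, w * C.r e * w⁻¹ = C.z ^ ((c : Fin 3) : ℕ) * C.r f := fun e => C.mem_R0.mp (hn w hw e)
    choose c f hcf using h
    have hadd : ∀ e e', f (e + e') = f e + f e' := by
      intro e e'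
      have e1 : C.z ^ ((e.2 * e'.1 : Fin 3) : ℕ) * C.r (e + e') = C.r e * C.r e' := C.inj (by
        rw [map_mul, map_mul, C.z_pow, C.hr, C.hr, C.hr, rm_mul C.om, Matrix.smul_mul, Matrix.one_mul])
      have e2 : C.z ^ ((e.2 * e'.1 : Fin 3) : ℕ) * (w * C.r (e + e') * w⁻¹) =
          (w * C.r e * w⁻¹) * (w * C.r e' * w⁻¹) := by
        rw [show (w * C.r e * w⁻¹) * (w * C.r e' * w⁻¹) = w * (C.r e * C.r e') * w⁻¹ by group, ← e1]
        simp only [← mul_assoc]
        rw [hz _ w]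
      rw [hcf, hcf, hcf] at e2
      have e3 := congrArg C.σ e2
      simp only [map_mul, C.z_pow, C.hr, Matrix.smul_mul, Matrix.mul_smul, Matrix.one_mul, smul_smul,
        rm_mul C.om, ← pw_add C.om] at e3
      exact smul_rm_eq C.om e3
    refine ⟨f (1, 0), f (0, 1), fun e => ⟨c e, ?_⟩⟩
    rw [hcf e]
    congr 2
    have h0 : f 0 = 0 := by simpa using hadd 0 0
    have hexp : ∀ e : Fin 3 × Fin 3, e = (e.1, 0) + (0, e.2) := by decide +kernel
    conv_lhs => rw [hexp e, hadd]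
    have h20 : f (2, 0) = f (1, 0) + f (1, 0) := hadd (1, 0) (1, 0)
    have h02 : f (0, 2) = f (0, 1) + f (0, 1) := hadd (0, 1) (0, 1)
    have h00 : f (0, 0) = 0 := h0
    have hf1 : f (e.1, 0) + f (0, e.2) =
        (if e.1 = 0 then 0 else if e.1 = 1 then f (1, 0) else f (1, 0) + f (1, 0)) +
        (if e.2 = 0 then 0 else if e.2 = 1 then f (0, 1) else f (0, 1) + f (0, 1)) := by
      obtain ⟨i, j⟩ := e
      fin_cases i <;> fin_cases j <;> simp [h00, h20, h02]
    rw [hf1]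
    exact (show ∀ e A B : Fin 3 × Fin 3,
      (if e.1 = 0 then 0 else if e.1 = 1 then A else A + A) +
        (if e.2 = 0 then 0 else if e.2 = 1 then B else B + B) = lin A B e by decide +kernel) e _ _
  have hpow : ∀ g f, Acts g f → ∀ n : ℕ, Acts (g ^ n) (f^[n]) := by
    intro g f hg n
    induction n with
    | zero => simpa using hone
    | succ n ih => rw [pow_succ, Function.iterate_succ]; exact hmul (g ^ n) g f^[n] f ih hg
  have hcube : ∀ w ∈ W, ∀ f, Acts w f → (∀ a b, f = lin a b → ∀ e, f (f (f e)) = e) := by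
    intro w hw f hf a b hab e
    subst hab
    obtain ⟨n, hn'⟩ : ∃ n, n = Nat.card W := ⟨_, rfl⟩
    have hwn : w ^ n = 1 := hn' ▸ congrArg Subtype.val (pow_card_eq_one' (x := (⟨w, hw⟩ : W)))
    have hid : (lin a b)^[n] = id := heq 1 _ _ (hwn ▸ hpow w _ hf n) hone
    rcases odd_lin a b (fun e he => by
      have hn0 : n ≠ 0 := hn' ▸ Nat.card_pos.ne'
      obtain ⟨m, rfl⟩ := Nat.exists_eq_succ_of_ne_zero hn0
      have := congrFun hid e
      rw [Function.iterate_succ_apply, he] at this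
      rw [← show (lin a b)^[m] 0 = e from this]
      exact Function.iterate_fixed (by simp [lin]) m) with h | ⟨j, h1, e', h2⟩
    · exact h e
    · exfalso
      apply h2
      obtain ⟨m, hm⟩ := hn' ▸ hW
      set g := (lin a b)^[j + 1] with hg
      have hgg : ∀ e, g (g e) = e := fun e => by
        rw [hg, ← Function.iterate_add_apply, show j + 1 + (j + 1) = 2 * j + 2 by ring]; exact h1 e
      have hgn : g^[n] = id := by
        rw [hg, ← Function.iterate_mul, mul_comm, Function.iterate_mul, hid, Function.iterate_id]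
      have hg2 : ∀ m, g^[2 * m + 1] = g := fun m => by
        induction m with
        | zero => rfl
        | succ m ih => funext e; rw [show 2 * (m + 1) + 1 = (2 * m + 1) + 2 by ring, Function.iterate_add_apply, ih]
                       show g (g (g e)) = g e
                       rw [hgg]
      rw [hm, hg2] at hgn
      exact congrFun hgn e'
  intro w hw
  obtain ⟨a, b, hf⟩ := hlin w hw
  rcases cube_lin a b (hcube w hw _ hf a b rfl) with h | ⟨k, e, hk⟩
  · refine C.mem_R0_of_twist fun e => ?_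
    obtain ⟨c, hc⟩ := hf e
    exact ⟨c, by rw [hc, h e]⟩
  · exfalso
    have hw2 : w * (C.q k * w * (C.q k)⁻¹) ∈ W := W.mul_mem hw (hq k w hw)
    have hA := hmul _ _ _ _ hf (hmul _ _ _ _ (hmul _ _ _ _ (hq' k) hf) (hqinv k))
    obtain ⟨a', b', hf'⟩ := hlin _ hw2
    have hee := heq _ _ _ hA hf'
    exact hk (by
      have := hcube _ hw2 _ hf' a' b' rfl e
      rw [← hee] at this
      exact this)

/-- **The involutions are permuted.** -/
theorem permutes [Fintype F] {p : ℕ} (hp : p.Prime) [CharP F p] (h7 : 7 ≤ p)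
    (hG : ¬ p ∣ Nat.card G) (g : G) (e : Fin 3 × Fin 3) : ∃ f, g * C.t e * g⁻¹ = C.t f := by
  classical
  have h2 : (2 : F) ≠ 0 := by
    rw [show (2 : F) = ((2 : ℕ) : F) by norm_num, Ne, CharP.cast_eq_zero_iff F p]
    exact fun hd => by have := Nat.le_of_dvd two_pos hd; omega
  suffices hmain : ∀ g : G, ∃ f, g * C.t 0 * g⁻¹ = C.t f by
    obtain ⟨f, hf⟩ := hmain (g * C.r e)
    exact ⟨f, by rw [← C.r_conj e, ← hf]; group⟩
  have ht1 : ∀ g : G, g * C.t 0 * g⁻¹ * (g * C.t 0 * g⁻¹) = 1 := fun g => by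
    rw [show g * C.t 0 * g⁻¹ * (g * C.t 0 * g⁻¹) = g * (C.t 0 * C.t 0) * g⁻¹ by group, C.t_sq, mul_one,
      mul_inv_cancel]
  have hiso : IsIsolatedInvolution (C.t 0) := by
    refine ⟨orderOf_eq_prime (by rw [sq, C.t_sq]) (C.t_ne_one h2 0), fun g hg => ?_⟩
    exact C.eq_t_zero hp h7 hG (ht1 g)
      (fun e => C.t_ne_one h2 0 (by rwa [mul_inv_eq_one, mul_eq_left] at e)) hg.symm.eq
  obtain ⟨K, hKd⟩ : ∃ K, K = oddCore G := ⟨_, rfl⟩
  haveI hKn : K.Normal := hKd ▸ Solv.pPrimeCore_normal 2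
  have hKo : Odd (Nat.card K) := by
    rw [hKd, Nat.odd_iff]
    have h := Solv.pPrimeCore_coprime (G := G) 2
    rw [Nat.coprime_comm, Nat.Prime.coprime_iff_not_dvd Nat.prime_two] at h
    exact Nat.two_dvd_ne_zero.mp h
  have hKz : ∀ g : G, C.t 0 * g * (C.t 0)⁻¹ * g⁻¹ ∈ K := hKd ▸ Char.zStar_isolated hiso
  have hzK : C.z ∈ K := by
    haveI : (Subgroup.zpowers C.z).Normal := ⟨fun a ha g => by
      have hc : Commute g C.z := (C.z_comm g).symm
      obtain ⟨i, rfl⟩ := Subgroup.mem_zpowers_iff.mp ha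
      rw [(hc.zpow_right i).eq, mul_inv_cancel_right]
      exact Subgroup.zpow_mem_zpowers _ i⟩
    rw [hKd]
    refine Solv.normal_le_pPrimeCore ?_ (Subgroup.mem_zpowers C.z)
    rw [Nat.card_zpowers, orderOf_eq_prime (p := 3)]
    · decide
    · refine C.inj ?_
      rw [map_pow, map_one, C.hz, smul_pow, one_pow, pw_one_val]
      rw [show ω ^ 3 = 1 by linear_combination C.om.cube, one_smul]
    · intro e
      have := congrArg C.σ e
      rw [C.hz, map_one] at this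
      have := congrFun (congrFun this 0) 0
      simp [pw_one_val] at this
      exact C.om.ne_one this
  have hrK : ∀ e, C.r e ∈ K := by
    intro e
    obtain ⟨c, hc⟩ := Tm_zero_rm C.om e
    have h1 : C.t 0 * C.r e * (C.t 0)⁻¹ = C.z ^ (c : ℕ) * C.r (-e) := by
      rw [mul_inv_eq_iff_eq_mul]
      exact C.inj (by rw [map_mul, map_mul, map_mul, C.z_pow, C.ht, C.hr, C.hr, hc, Matrix.smul_mul,
        Matrix.one_mul, Matrix.smul_mul])
    have h := hKz (C.r (-e))
    obtain ⟨c', hc'⟩ := Tm_zero_rm C.om (-e)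
    have h3 : C.t 0 * C.r (-e) * (C.t 0)⁻¹ = C.z ^ (c' : ℕ) * C.r e := by
      rw [mul_inv_eq_iff_eq_mul]
      exact C.inj (by rw [map_mul, map_mul, map_mul, C.z_pow, C.ht, C.hr, C.hr, hc', neg_neg, Matrix.smul_mul,
        Matrix.one_mul, Matrix.smul_mul])
    rw [h3, mul_assoc] at h
    have h4 : C.r e * (C.r (-e))⁻¹ ∈ K := by
      have := K.mul_mem (K.inv_mem (K.pow_mem hzK (c' : ℕ))) h
      rwa [inv_mul_cancel_left] at this
    -- `r e * (r (-e))⁻¹` is a scalar times `r (-e)`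
    have hsc : ∀ e : Fin 3 × Fin 3, e + e = -e := by decide +kernel
    have h5 : C.r e * C.r e = C.z ^ ((e.2 * e.1 : Fin 3) : ℕ) * C.r (-e) := C.inj (by
      rw [map_mul, map_mul, C.z_pow, C.hr, C.hr, rm_mul C.om, hsc, Matrix.smul_mul, Matrix.one_mul])
    have h6 : C.r (-e) * C.r e = C.z ^ (((-e).2 * e.1 : Fin 3) : ℕ) := C.inj (by
      rw [map_mul, C.z_pow, C.hr, C.hr, rm_mul C.om, neg_add_cancel, rm_zero])
    have h7' : (C.r (-e))⁻¹ = C.r e * (C.z ^ (((-e).2 * e.1 : Fin 3) : ℕ))⁻¹ := by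
      rw [← h6, mul_inv_rev, mul_inv_cancel_left]
    rw [h7', ← mul_assoc] at h4
    have h8 : C.r e * C.r e ∈ K := by
      have := K.mul_mem h4 (K.pow_mem hzK (((-e).2 * e.1 : Fin 3) : ℕ))
      rwa [inv_mul_cancel_right] at this
    obtain ⟨i, hi⟩ : ∃ i : Fin 3, C.r e * C.r e * (C.r e * C.r e) = C.z ^ (i : ℕ) * C.r e := by
      refine ⟨e.2 * e.1 + e.2 * e.1 + (-e).2 * (-e).1, C.inj ?_⟩
      rw [h5]
      have hsc2 : ∀ e : Fin 3 × Fin 3, -e + -e = e := by decide +kernel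
      simp only [map_mul, C.z_pow, C.hr, Matrix.smul_mul, Matrix.mul_smul, Matrix.one_mul, smul_smul, rm_mul C.om,
        hsc2, pw_add C.om]
      congr 1
      ring
    have := K.mul_mem (K.inv_mem (K.pow_mem hzK (i : ℕ))) (hi ▸ K.mul_mem h8 h8)
    rwa [inv_mul_cancel_left] at this
  have hR0K : C.R0 ≤ K := fun g hg => by
    obtain ⟨c, e, rfl⟩ := C.mem_R0.mp hg
    exact K.mul_mem (K.pow_mem hzK _) (hrK e)
  have hR0card : Nat.card C.R0 = 3 ^ 3 := by
    have hbij : Function.Bijective (fun x : Fin 3 × (Fin 3 × Fin 3) =>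
        (⟨C.z ^ (x.1 : ℕ) * C.r x.2, C.mem_R0.mpr ⟨_, _, rfl⟩⟩ : C.R0)) := by
      refine ⟨fun x y h => ?_, fun g => ?_⟩
      · have h1 := congrArg (fun g : C.R0 => C.σ g) h
        simp only [map_mul, C.z_pow, C.hr, Matrix.smul_mul, Matrix.one_mul] at h1
        have e2 := smul_rm_eq C.om h1
        refine Prod.ext ?_ e2
        rw [e2] at h1
        have e3 := congrArg (fun X => (X * rm ω (-y.2)).trace) h1
        simp only [Matrix.smul_mul, rm_mul C.om, add_neg_cancel, rm_zero, smul_smul, Matrix.trace_smul,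
          Matrix.trace_one, Fintype.card_fin, smul_eq_mul] at e3
        exact pw_injective C.om (mul_right_cancel₀ (pw_ne_zero C.om _) (mul_right_cancel₀
          (by exact_mod_cast C.om.three) e3))
      · obtain ⟨c, e, h⟩ := C.mem_R0.mp g.2
        exact ⟨(c, e), Subtype.ext h.symm⟩
    rw [← Nat.card_eq_of_bijective _ hbij]
    simp
  -- the standard group is a Sylow `3`-subgroup of the odd core
  haveI : Fact (Nat.Prime 3) := ⟨Nat.prime_three⟩
  have hR3 : IsPGroup 3 C.R0 := IsPGroup.of_card hR0card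
  obtain ⟨P0, hP0⟩ := (hR3.of_equiv (Subgroup.subgroupOfEquivOfLe hR0K).symm).exists_le_sylow
  have hPeq : (P0 : Subgroup K).map K.subtype = C.R0 := by
    obtain ⟨P, hPd⟩ : ∃ P, P = (P0 : Subgroup K).map K.subtype := ⟨_, rfl⟩
    rw [← hPd]
    have hRP : C.R0 ≤ P := fun g hg => hPd ▸ ⟨⟨g, hR0K hg⟩, hP0 hg, rfl⟩
    have hPK : P ≤ K := hPd ▸ Subgroup.map_subtype_le _
    have hPp : IsPGroup 3 P := hPd ▸ P0.isPGroup'.map K.subtype
    by_contra hne
    have hlt : C.R0.subgroupOf P < ⊤ := lt_top_iff_ne_top.mpr fun h =>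
      hne (le_antisymm (Subgroup.subgroupOf_eq_top.mp h) hRP)
    haveI : Group.IsNilpotent P := hPp.isNilpotent
    obtain ⟨g, hgN, hgR⟩ := SetLike.exists_of_lt
      (Group.normalizerCondition_of_isNilpotent (G := P) (C.R0.subgroupOf P) hlt)
    refine hgR ?_
    let W : Subgroup G := K ⊓ Subgroup.normalizer (C.R0 : Set G)
    have hW : W ≤ C.R0 := C.odd_le_R0 W (hKo.of_dvd_nat (Subgroup.card_dvd_of_le inf_le_left))
      (fun w hw e => (Subgroup.mem_normalizer_iff.mp hw.2 _).mp (C.r_mem e)) fun k w hw => by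
        refine ⟨hKn.conj_mem _ hw.1 _, ?_⟩
        have hqN : C.q k ∈ Subgroup.normalizer (C.R0 : Set G) := by
          refine mem_normalizer_of_forall fun x hx => ?_
          obtain ⟨c, e, rfl⟩ := C.mem_R0.mp hx
          obtain ⟨d, hd⟩ := qm_rm C.om k e
          refine C.mem_R0.mpr ⟨c + d, act k e, ?_⟩
          rw [mul_inv_eq_iff_eq_mul]
          exact C.inj (by simp only [map_mul, C.z_pow, C.hq, C.hr, Matrix.smul_mul, Matrix.mul_smul,
            Matrix.one_mul, hd, smul_smul, pw_add C.om])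
        exact (Subgroup.normalizer (C.R0 : Set G)).mul_mem ((Subgroup.normalizer (C.R0 : Set G)).mul_mem hqN hw.2)
          ((Subgroup.normalizer (C.R0 : Set G)).inv_mem hqN)
    refine hW ⟨hPK g.2, mem_normalizer_of_forall fun x hx => ?_⟩
    exact (Subgroup.mem_normalizer_iff.mp hgN ⟨x, hRP hx⟩).mp hx
  have hv3 : (Nat.card K).factorization 3 = 3 := by
    have h := P0.card_eq_multiplicity
    rw [← Subgroup.card_map_of_injective K.subtype_injective (K := (P0 : Subgroup K)), hPeq, hR0card] at h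
    exact (Nat.pow_right_injective (le_refl 2 |>.trans (by norm_num)) h).symm
  -- the centraliser
  obtain ⟨C0, hC0⟩ : ∃ C0, C0 = Subgroup.centralizer {C.t 0} ⊓ K := ⟨_, rfl⟩
  have hcz : C.z ∈ C0 := hC0 ▸ ⟨Subgroup.mem_centralizer_singleton_iff.mpr (C.z_comm _), hzK⟩
  obtain ⟨ρ, hρ⟩ := C.exists_rep hp hG
  have hdiv : ∀ s, s.Prime → s ≠ 3 → s ^ (Nat.card K).factorization s ∣ Nat.card C0 := by
    intro s hs hs3
    rcases eq_or_ne ((Nat.card K).factorization s) 0 with h0 | h0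
    · rw [h0, pow_zero]; exact one_dvd _
    haveI := Fact.mk hs
    have hs5 : 3 < s := by
      have hd : s ∣ Nat.card K := Nat.dvd_of_factorization_pos h0
      have h1 := hs.two_le
      rcases Nat.lt_or_ge s 3 with h | h
      · rw [show s = 2 by omega] at hd
        exact absurd hd (Nat.two_dvd_ne_zero.mpr (Nat.odd_iff.mp hKo))
      · omega
    have hq4 : C.q 0 ^ (2 * 2) = 1 := by
      rw [pow_mul, sq (C.q 0), C.q_sq, sq, C.t_sq]
    obtain ⟨P, hP, hPn⟩ := Solv.exists_invariant_sylow (A := Subgroup.zpowers (C.q 0)) (K := K)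
      (by rw [Subgroup.normalizer_eq_top]; exact le_top)
      (by
        rw [Nat.card_zpowers]
        refine Nat.Coprime.coprime_dvd_left (orderOf_dvd_of_pow_eq_one hq4) ?_
        exact Nat.Coprime.mul_left (Nat.prime_two.coprime_iff_not_dvd.mpr (Nat.two_dvd_ne_zero.mpr
          (Nat.odd_iff.mp hKo))) (Nat.prime_two.coprime_iff_not_dvd.mpr (Nat.two_dvd_ne_zero.mpr
          (Nat.odd_iff.mp hKo))))
      (Or.inl inferInstance) s
    rw [← hP.2]
    refine Subgroup.card_dvd_of_le fun a ha => hC0 ▸ ⟨?_, hP.1 ha⟩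
    have hPc : ∀ {a b : G}, a ∈ P → b ∈ P → a * b = b * a := fun {a b} ha hb =>
      Char.Blichfeldt.commute_of_primes ρ (fun g hg => hρ (hg.trans (map_one ρ).symm)) P (fun r hr hrd => by
        rw [hP.2] at hrd
        rw [(Nat.prime_dvd_prime_iff_eq hr hs).mp (hr.dvd_of_dvd_pow hrd)]
        exact hs5) ha hb
    have hqP : ∀ b ∈ P, C.q 0 * b * (C.q 0)⁻¹ ∈ P := fun b hb =>
      (Subgroup.mem_normalizer_iff.mp (hPn (Subgroup.mem_zpowers _)) b).mp hb
    have hti : (C.t 0)⁻¹ = C.t 0 := inv_eq_of_mul_eq_one_right (C.t_sq 0)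
    have htP : C.t 0 * a * (C.t 0)⁻¹ ∈ P := by
      rw [← C.q_sq 0]
      convert hqP _ (hqP a ha) using 1
      group
    obtain ⟨x, hx⟩ : ∃ x, x = C.t 0 * a * (C.t 0)⁻¹ * a⁻¹ := ⟨_, rfl⟩
    have hxP : x ∈ P := hx ▸ P.mul_mem htP (P.inv_mem ha)
    have hinv : C.t 0 * x * (C.t 0)⁻¹ = x⁻¹ := by
      rw [hx, show C.t 0 * (C.t 0 * a * (C.t 0)⁻¹ * a⁻¹) * (C.t 0)⁻¹ =
        C.t 0 * C.t 0 * a * (C.t 0 * C.t 0)⁻¹ * (C.t 0 * a * (C.t 0)⁻¹)⁻¹ by group, C.t_sq]
      group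
    have hx1 : x = 1 := by
      refine quarter_turn_trivial ρ hρ (q := C.q 0) ?_ (hPc hxP (hqP x hxP)) ?_
      · have := Subgroup.orderOf_dvd_natCard K (hP.1 hxP)
        exact hKo.of_dvd_nat this
      · rw [← hinv, ← C.q_sq 0]; group
    refine Subgroup.mem_centralizer_singleton_iff.mpr ?_
    rw [hx1, eq_comm, mul_inv_eq_one, mul_inv_eq_iff_eq_mul] at hx
    exact hx.symm
  have hidx : (C0.subgroupOf K).index ≤ 9 := by
    have hdvd : Nat.card K ∣ Nat.card C0 * 9 := by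
      rw [← Nat.factorization_le_iff_dvd Nat.card_pos.ne' (mul_ne_zero Nat.card_pos.ne' (by norm_num))]
      intro s
      by_cases hs : s.Prime
      swap
      · rw [Nat.factorization_eq_zero_of_not_prime _ hs]; exact Nat.zero_le _
      rw [Nat.factorization_mul Nat.card_pos.ne' (by norm_num)]
      simp only [Finsupp.coe_add, Pi.add_apply]
      rcases eq_or_ne s 3 with rfl | hs3
      · rw [hv3, show (9 : ℕ) = 3 ^ 2 by norm_num, Nat.factorization_pow, Finsupp.smul_apply,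
          Nat.Prime.factorization_self Nat.prime_three, smul_eq_mul]
        have h3 : 3 ∣ Nat.card C0 := by
          have := Subgroup.orderOf_dvd_natCard C0 hcz
          rwa [orderOf_eq_prime (p := 3) (by
            refine C.inj ?_
            rw [map_pow, map_one, C.hz, smul_pow, one_pow, pw_one_val,
              show ω ^ 3 = 1 by linear_combination C.om.cube, one_smul]) (fun e => by
            have := congrArg C.σ e
            rw [C.hz, map_one] at this
            have := congrFun (congrFun this 0) 0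
            simp [pw_one_val] at this
            exact C.om.ne_one this)] at this
        have := (Nat.prime_three.dvd_iff_one_le_factorization Nat.card_pos.ne').mp h3
        omega
      · exact le_add_right ((hs.pow_dvd_iff_le_factorization Nat.card_pos.ne').mp (hdiv s hs hs3))
    rw [← (C0.subgroupOf K).card_mul_index, Nat.card_congr (Subgroup.subgroupOfEquivOfLe
      (hC0 ▸ inf_le_right : C0 ≤ K)).toEquiv] at hdvd
    exact Nat.le_of_dvd (by norm_num) (Nat.dvd_of_mul_dvd_mul_left Nat.card_pos hdvd)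
  intro g
  by_contra hno
  push Not at hno
  -- the conjugate is a conjugate under the odd core
  obtain ⟨k, hk⟩ : ∃ k, k = C.t 0 * g * (C.t 0)⁻¹ * g⁻¹ := ⟨_, rfl⟩
  have hkK : k ∈ K := hk ▸ hKz g
  obtain ⟨v, hv⟩ : ∃ v, v = g * C.t 0 * g⁻¹ := ⟨_, rfl⟩
  have hti : (C.t 0)⁻¹ = C.t 0 := inv_eq_of_mul_eq_one_right (C.t_sq 0)
  have hvk : v = C.t 0 * k := by
    rw [hk, hv, ← mul_assoc, ← mul_assoc, ← mul_assoc, C.t_sq, one_mul, hti]
  have hkinv : C.t 0 * k * C.t 0 = k⁻¹ := by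
    have h : (C.t 0 * k) * (C.t 0 * k) = 1 := by rw [← hvk, hv]; exact ht1 g
    exact eq_inv_of_mul_eq_one_left (by simpa only [mul_assoc] using h)
  obtain ⟨n, hn⟩ := hKo
  obtain ⟨m, hm⟩ : ∃ m, m = k ^ (n + 1) := ⟨_, rfl⟩
  have hkn : k ^ (2 * n + 1) = 1 := hn ▸ congrArg Subtype.val (pow_card_eq_one' (x := (⟨k, hkK⟩ : K)))
  have hmm : m * m = k := by rw [hm, ← pow_add, show n + 1 + (n + 1) = (2 * n + 1) + 1 by ring, pow_succ, hkn, one_mul]
  have hmi : C.t 0 * m * C.t 0 = m⁻¹ := by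
    have : ∀ j : ℕ, C.t 0 * k ^ j * C.t 0 = (k ^ j)⁻¹ := fun j => by
      have h := conj_pow (i := j) (a := C.t 0) (b := k)
      rw [hti] at h
      rw [← inv_pow, ← hkinv, h]
    rw [hm]; exact this _
  have hvm : v = m⁻¹ * C.t 0 * (m⁻¹)⁻¹ := by
    rw [inv_inv, hvk, ← hmm, ← mul_assoc, ← hmi, mul_assoc _ (C.t 0) (C.t 0), C.t_sq, mul_one]
  let f : Option (Fin 3 × Fin 3) → K ⧸ C0.subgroupOf K := fun o => match o with
    | none => QuotientGroup.mk (⟨m⁻¹, K.inv_mem (hm ▸ K.pow_mem hkK _)⟩ : K)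
    | some e => QuotientGroup.mk (⟨C.r e, hrK e⟩ : K)
  have hconj : ∀ a b : K, (QuotientGroup.mk a : K ⧸ C0.subgroupOf K) = QuotientGroup.mk b →
      (a : G) * C.t 0 * (a : G)⁻¹ = (b : G) * C.t 0 * (b : G)⁻¹ := fun a b h => by
    rw [QuotientGroup.eq, Subgroup.mem_subgroupOf, hC0] at h
    have h' := Subgroup.mem_centralizer_singleton_iff.mp h.1
    simp only [Subgroup.coe_mul, Subgroup.coe_inv] at h'
    calc (a : G) * C.t 0 * (a : G)⁻¹ = (a : G) * (C.t 0 * ((a : G)⁻¹ * b)) * (b : G)⁻¹ := by group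
      _ = _ := by rw [← h']; group
  have hf : Function.Injective f := by
    rintro (_ | e) (_ | e') h
    · rfl
    · have := hconj _ _ h
      rw [← hvm, C.r_conj] at this
      exact absurd (hv ▸ this) (hno e')
    · have := hconj _ _ h
      rw [← hvm, C.r_conj] at this
      exact absurd (hv ▸ this.symm) (hno e)
    · have := hconj _ _ h
      rw [C.r_conj, C.r_conj] at this
      rw [C.t_injective this]
  have := Nat.card_le_card_of_injective f hf
  rw [← Subgroup.index_eq_card] at this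
  simp at this
  omega

end Ctx

end Cfsg.Agent.Classical.LinThree.Hess
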