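/-
Overgroups of the monomial group in `SL_3`: an element fixing a coordinate line.
-/
import Cfsg.Agent.Lib.Classical.LMonFour.Over

set_option autoImplicit false
set_option linter.unusedSectionVars false

namespace Cfsg.Agent.Classical.LinThree

open Matrix Cfsg.Geo
open Cfsg.Agent.Classical
open Cfsg.Agent.Classical.LMonFour (IsMon isMon_mul isMon_inv)

variable {F : Type*} [Field F] [Fintype F] {G : Subgroup (GL (Fin 3) F)}

/-- The setting. -/
structure MData (G : Subgroup (GL (Fin 3) F)) : Prop where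
  sl : G ≤ specialLinear (Fin 3) F
  mon : ∀ g : GL (Fin 3) F, g ∈ specialLinear (Fin 3) F → IsMon (g : Matrix (Fin 3) (Fin 3) F) → g ∈ G
  field : 5 ≤ Fintype.card F

theorem exists_el (D : MData G) (M : Matrix (Fin 3) (Fin 3) F) (hd : M.det = 1) (hm : IsMon M) :
    ∃ g ∈ G, (g : Matrix (Fin 3) (Fin 3) F) = M :=
  ⟨GeneralLinearGroup.mkOfDetNeZero M (by rw [hd]; exact one_ne_zero), D.mon _ (mem_specialLinear_iff.mpr hd) hm, rfl⟩

theorem exists_tor (D : MData G) (a b c : F) (h : a * b * c = 1) :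
    ∃ g ∈ G, (g : Matrix (Fin 3) (Fin 3) F) = !![a, 0, 0; 0, b, 0; 0, 0, c] :=
  exists_el D _ (by rw [det_fin_three]; simpa using h) fun j => ⟨j, fun i hi => by fin_cases i <;> fin_cases j <;> simp_all⟩

theorem exists_cyc (D : MData G) : ∃ g ∈ G, (g : Matrix (Fin 3) (Fin 3) F) = !![0, 0, 1; 1, 0, 0; 0, 1, 0] :=
  exists_el D _ (by rw [det_fin_three]; simp) fun j =>
    ⟨![1, 2, 0] j, fun i hi => by fin_cases i <;> fin_cases j <;> simp_all⟩

theorem exists_swp (D : MData G) : ∃ g ∈ G, (g : Matrix (Fin 3) (Fin 3) F) = !![-1, 0, 0; 0, 0, 1; 0, 1, 0] :=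
  exists_el D _ (by rw [det_fin_three]; simp) fun j =>
    ⟨![0, 2, 1] j, fun i hi => by fin_cases i <;> fin_cases j <;> simp_all⟩

/-- Some transvection along coordinates lies in `G`. -/
def El (G : Subgroup (GL (Fin 3) F)) : Prop :=
  ∃ (i j : Fin 3) (hij : i ≠ j) (c : F), c ≠ 0 ∧ transGL hij c ∈ G

theorem sl_of_el (D : MData G) (h : El G) : specialLinear (Fin 3) F ≤ G := by
  classical
  let P : Fin 3 → Fin 3 → Prop := fun i j => ∃ (h : i ≠ j) (c : F), c ≠ 0 ∧ transGL h c ∈ G
  have step : ∀ (g : GL (Fin 3) F) (i j i' j' : Fin 3) (s : F), g ∈ G → i' ≠ j' → s ≠ 0 →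
      (∀ (h : i ≠ j) (h' : i' ≠ j') (c : F), g * transGL h c = transGL h' (s * c) * g) → P i j → P i' j' := by
    rintro g i j i' j' s hg hij' hs he ⟨h, c, hc, hm⟩
    refine ⟨hij', s * c, mul_ne_zero hs hc, ?_⟩
    rw [eq_mul_inv_of_mul_eq (he h hij' c).symm]
    exact mul_mem (mul_mem hg hm) (inv_mem hg)
  obtain ⟨σ, hσ, hσe⟩ := exists_cyc D
  obtain ⟨τ, hτ, hτe⟩ := exists_swp D
  have hcyc : ∀ i j, i ≠ j → P i j → P (i + 1) (j + 1) := fun i j hij hp =>
    step σ i j _ _ 1 hσ (fun e => hij (add_right_cancel e)) one_ne_zero (fun h h' c => gl_ext_mulVec fun v => by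
      rw [gl_mul_mulVec, gl_mul_mulVec, transGL_mulVec, transGL_mulVec, hσe]
      ext k; fin_cases i <;> fin_cases j <;> fin_cases k <;> simp_all [Matrix.mulVec, dotProduct, Fin.sum_univ_three]) hp
  have hswp : P 1 2 → P 2 1 :=
    step τ 1 2 2 1 1 hτ (by decide) one_ne_zero (fun h h' c => gl_ext_mulVec fun v => by
      rw [gl_mul_mulVec, gl_mul_mulVec, transGL_mulVec, transGL_mulVec, hτe]
      ext k; fin_cases k <;> simp [Matrix.mulVec, dotProduct, Fin.sum_univ_three])
  have hswp' : P 2 1 → P 1 2 :=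
    step τ 2 1 1 2 1 hτ (by decide) one_ne_zero (fun h h' c => gl_ext_mulVec fun v => by
      rw [gl_mul_mulVec, gl_mul_mulVec, transGL_mulVec, transGL_mulVec, hτe]
      ext k; fin_cases k <;> simp [Matrix.mulVec, dotProduct, Fin.sum_univ_three])
  obtain ⟨i, j, hij, c, hc, hm⟩ := h
  have h0 : P i j := ⟨hij, c, hc, hm⟩
  have h12 : P 1 2 := by
    rcases ((show ∀ i j : Fin 3, i ≠ j → j = i + 1 ∨ j = i + 2 by decide) i j hij) with rfl | rfl
    · have a := hcyc _ _ hij h0
      have b := hcyc _ _ (fun e => hij (add_right_cancel e)) a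
      fin_cases i <;> simp_all
    · have a := hcyc _ _ hij h0
      have b := hcyc _ _ (fun e => hij (add_right_cancel e)) a
      refine hswp' ?_
      fin_cases i <;> simp_all
  have h21 := hswp h12
  have hall : ∀ u v, u ≠ v → P u v := fun u v huv => by
    have a := hcyc _ _ (by decide) h12
    have b := hcyc _ _ (by decide) a
    have a' := hcyc _ _ (by decide) h21
    have b' := hcyc _ _ (by decide) a'
    fin_cases u <;> fin_cases v <;> first | exact absurd rfl huv | assumption
  refine (specialLinear_le_iff G).mpr fun u v huv d => ?_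
  obtain ⟨h', c, hc, hm⟩ := hall u v huv
  by_cases hd : d = 0
  · convert one_mem G
    exact gl_ext_mulVec fun w => by rw [transGL_mulVec, hd, zero_mul, Pi.single_zero, add_zero, Units.val_one, one_mulVec]
  obtain ⟨w, hwu, hwv⟩ : ∃ w : Fin 3, w ≠ u ∧ w ≠ v := (show ∀ u v : Fin 3, ∃ w, w ≠ u ∧ w ≠ v by decide) u v
  obtain ⟨t, ht, hte⟩ := exists_el D (diagonal fun k => if k = u then d / c else if k = v then 1 else c / d)
    (by
      rw [det_diagonal, Fin.prod_univ_three]
      fin_cases u <;> fin_cases v <;> fin_cases w <;> first | exact absurd rfl huv | simp_all | (simp; field_simp))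
    (LMonFour.isMon_diagonal _)
  rw [eq_mul_inv_of_mul_eq (show transGL huv d * t = t * transGL h' c from gl_ext_mulVec fun x => by
    rw [gl_mul_mulVec, gl_mul_mulVec, transGL_mulVec, transGL_mulVec, hte]
    funext p
    simp only [mulVec_diagonal, Pi.add_apply]
    by_cases hp : p = u
    · subst hp
      simp [huv.symm]
      field_simp
    · simp [hp])]
  exact mul_mem (mul_mem ht hm) (inv_mem ht)

/-- A block matrix fixing the first coordinate line, with a zero in the lower block. -/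
theorem el_of_zero (D : MData G) {y : GL (Fin 3) F} (hy : y ∈ G) {α a b c d : F}
    (he : (y : Matrix (Fin 3) (Fin 3) F) = !![α, 0, 0; 0, a, b; 0, c, d])
    (hz : a * b * c * d = 0) (hm : ¬ IsMon (y : Matrix (Fin 3) (Fin 3) F)) : El G := by
  have hd : α * (a * d - b * c) = 1 := by
    have := det_gl_of_mem_specialLinear (D.sl hy)
    rw [he, det_fin_three] at this
    simp at this; linear_combination this
  obtain ⟨s, hs, hse⟩ := exists_swp D
  have main : ∀ (g : GL (Fin 3) F) (α a b d : F), g ∈ G → (g : Matrix (Fin 3) (Fin 3) F) = !![α, 0, 0; 0, a, b; 0, 0, d] →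
      α * (a * d) = 1 → b ≠ 0 → El G := by
    intro g α a b d hg hge hd hb
    obtain ⟨t, ht, hte⟩ := exists_tor D α a d (by linear_combination hd)
    obtain ⟨ha, hd0⟩ : a ≠ 0 ∧ d ≠ 0 := by constructor <;> rintro rfl <;> simp at hd
    refine ⟨1, 2, by decide, b / a, div_ne_zero hb ha, ?_⟩
    convert mul_mem (inv_mem ht) hg
    rw [eq_inv_mul_iff_mul_eq]
    refine Units.ext ?_
    rw [Units.val_mul, hte, hge, transGL_coe]
    ext i j; fin_cases i <;> fin_cases j <;> simp [Matrix.mul_apply, Fin.sum_univ_three, transvection, Matrix.single]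
    field_simp
  by_cases hc : c = 0
  · subst hc
    refine main y α a b d hy he (by linear_combination hd) fun hb => hm ?_
    subst hb
    rw [he]
    exact fun j => ⟨j, fun i hi => by fin_cases i <;> fin_cases j <;> simp_all⟩
  by_cases ha : a = 0
  · subst ha
    refine main (s * y) (-α) c d b (mul_mem hs hy) ?_ (by linear_combination hd) fun hd0 => hm ?_
    · rw [Units.val_mul, hse, he]
      ext i j; fin_cases i <;> fin_cases j <;> simp [Matrix.mul_apply, Fin.sum_univ_three]
    · subst hd0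
      rw [he]
      exact fun j => ⟨![0, 2, 1] j, fun i hi => by fin_cases i <;> fin_cases j <;> simp_all⟩
  by_cases hd0 : d = 0
  · subst hd0
    refine main (y * s) (-α) b a c (mul_mem hy hs) ?_ (by linear_combination hd) ha
    rw [Units.val_mul, hse, he]
    ext i j; fin_cases i <;> fin_cases j <;> simp [Matrix.mul_apply, Fin.sum_univ_three]
  have hb : b = 0 := by simpa [ha, hc, hd0] using hz
  subst hb
  refine main (s * y * s) α d c a (mul_mem (mul_mem hs hy) hs) ?_ (by linear_combination hd) hc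
  rw [Units.val_mul, Units.val_mul, hse, he]
  ext i j; fin_cases i <;> fin_cases j <;> simp [Matrix.mul_apply, Fin.sum_univ_three]

/-- An element fixing the first coordinate line and moving the coordinate plane opposite to it. -/
theorem el_of_row (D : MData G) {y : GL (Fin 3) F} (hy : y ∈ G) {α r₁ r₂ a b c d : F}
    (he : (y : Matrix (Fin 3) (Fin 3) F) = !![α, r₁, r₂; 0, a, b; 0, c, d]) (hr : r₁ ≠ 0 ∨ r₂ ≠ 0) : El G := by
  obtain ⟨x, hx0, hx2, hx3, hx1⟩ := LMonFour.exists_scalar D.field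
  have hΔ : a * d - b * c ≠ 0 := fun e => by
    have := det_gl_of_mem_specialLinear (D.sl hy)
    rw [he, det_fin_three] at this
    simp at this
    exact one_ne_zero (α := F) (by linear_combination (-1 : F) * this + α * e)
  obtain ⟨t, ht, hte⟩ := exists_tor D (x⁻¹ * x⁻¹) x x (by field_simp)
  obtain ⟨τ, hτ, hτe⟩ := exists_tor D x (x⁻¹ * x⁻¹) x (by field_simp)
  obtain ⟨k, hk⟩ : ∃ k : F, k = 1 - x⁻¹ * x⁻¹ * x⁻¹ := ⟨_, rfl⟩
  have hk0 : k ≠ 0 := by
    rw [hk, sub_ne_zero]; intro e; apply hx3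
    field_simp at e ⊢
    linear_combination e
  obtain ⟨s₁, hs₁⟩ : ∃ s, s = k * (r₁ * d - r₂ * c) / (a * d - b * c) := ⟨_, rfl⟩
  obtain ⟨s₂, hs₂⟩ : ∃ s, s = k * (r₂ * a - r₁ * b) / (a * d - b * c) := ⟨_, rfl⟩
  have e1 : s₁ * a + s₂ * c = k * r₁ := by
    rw [hs₁, hs₂, div_mul_eq_mul_div, div_mul_eq_mul_div, ← add_div, div_eq_iff hΔ]
    ring
  have e2 : s₁ * b + s₂ * d = k * r₂ := by
    rw [hs₁, hs₂, div_mul_eq_mul_div, div_mul_eq_mul_div, ← add_div, div_eq_iff hΔ]
    ring
  have hxk : x * k = x - x⁻¹ * x⁻¹ := by rw [hk]; field_simp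
  let U : Matrix (Fin 3) (Fin 3) F := !![1, s₁, s₂; 0, 1, 0; 0, 0, 1]
  have hU : U.det ≠ 0 := by rw [det_fin_three]; simp [U]
  obtain ⟨u, hu⟩ : ∃ u : GL (Fin 3) F, (u : Matrix (Fin 3) (Fin 3) F) = U :=
    ⟨GeneralLinearGroup.mkOfDetNeZero U hU, rfl⟩
  have huG : u ∈ G := by
    rw [eq_mul_inv_of_mul_eq (show u * (t * y) = y * t from Units.ext (by
      rw [Units.val_mul, Units.val_mul, Units.val_mul, hte, hu, he]
      ext i j; fin_cases i <;> fin_cases j <;>
        simp [U, Matrix.mul_apply, Fin.sum_univ_three] <;> first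
          | linear_combination x * e1 + r₁ * hxk
          | linear_combination x * e2 + r₂ * hxk
          | ring))]
    exact mul_mem (mul_mem hy ht) (inv_mem (mul_mem ht hy))
  by_cases h1 : s₁ = 0
  · have h2 : s₂ ≠ 0 := fun h2 => by
      rw [hs₁, div_eq_zero_iff, or_iff_left hΔ, mul_eq_zero, or_iff_right hk0] at h1
      rw [hs₂, div_eq_zero_iff, or_iff_left hΔ, mul_eq_zero, or_iff_right hk0] at h2
      rcases hr with h | h
      · exact h (mul_right_cancel₀ hΔ (by linear_combination a * h1 + c * h2))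
      · exact h (mul_right_cancel₀ hΔ (by linear_combination d * h2 + b * h1))
    refine ⟨0, 2, by decide, s₂, h2, ?_⟩
    convert huG
    refine Units.ext ?_
    rw [hu, transGL_coe]
    ext i j; fin_cases i <;> fin_cases j <;> simp [U, h1, transvection, Matrix.single]
  · refine ⟨0, 1, by decide, s₁ * (1 - x * x * x), mul_ne_zero h1 (sub_ne_zero.mpr (Ne.symm hx3)), ?_⟩
    rw [eq_mul_inv_of_mul_eq (show transGL (show (0 : Fin 3) ≠ 1 by decide) (s₁ * (1 - x * x * x)) * (τ * u) = u * τ
      from Units.ext (by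
      rw [Units.val_mul, Units.val_mul, Units.val_mul, hτe, hu, transGL_coe]
      ext i j; fin_cases i <;> fin_cases j <;>
        simp [U, Matrix.mul_apply, Fin.sum_univ_three, transvection, Matrix.single] <;> field_simp <;> ring))]
    exact mul_mem (mul_mem huG hτ) (inv_mem (mul_mem hτ huG))

end Cfsg.Agent.Classical.LinThree
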