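/-
Overgroups of the monomial group in `SL_3`: elements fixing a coordinate line are monomial or give everything.
-/
import Cfsg.Agent.Lib.Classical.LinThree.MonBase

set_option autoImplicit false
set_option linter.unusedSectionVars false

namespace Cfsg.Agent.Classical.LinThree

open Matrix Cfsg.Geo
open Cfsg.Agent.Classical
open Cfsg.Agent.Classical.LMonFour (IsMon isMon_mul isMon_inv)

variable {F : Type*} [Field F] [Fintype F] {G : Subgroup (GL (Fin 3) F)}

/-- The field with five elements: the exceptional block. -/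
theorem el_of_five (D : MData G) (h5 : Fintype.card F = 5) {y : GL (Fin 3) F} (hy : y ∈ G) {α a b c d : F}
    (he : (y : Matrix (Fin 3) (Fin 3) F) = !![α, 0, 0; 0, a, b; 0, c, d]) (ha : a ≠ 0) (hb : b ≠ 0) (hc : c ≠ 0)
    (hsym : a * d + b * c = 0) (hd : α * (a * d - b * c) = 1) : El G := by
  have h5' : (5 : F) = 0 := by
    have := FiniteField.cast_card_eq_zero F
    rwa [h5] at this
  have hα : α * b * c = 2 := by linear_combination (-2 * α) * hsym + (2 : F) * hd + (α * b * c) * h5'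
  have h6 : (6 : F) = 1 := by linear_combination h5'
  obtain ⟨L, hL, hLe⟩ := exists_tor D (a * c) a⁻¹ c⁻¹ (by field_simp)
  obtain ⟨R, hR, hRe⟩ := exists_tor D (b / a) 1 (a / b) (by field_simp)
  obtain ⟨σ, hσ, hσe⟩ := exists_cyc D
  obtain ⟨t, ht, hte⟩ := exists_tor D 1 2 3 (by linear_combination h6)
  have he0 : ((L * y * R : GL (Fin 3) F) : Matrix (Fin 3) (Fin 3) F) = !![2, 0, 0; 0, 1, 1; 0, 1, -1] := by
    rw [Units.val_mul, Units.val_mul, hLe, hRe, he]
    ext i j; fin_cases i <;> fin_cases j <;> simp [Matrix.mul_apply, Fin.sum_univ_three] <;> field_simp <;> first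
      | linear_combination hα
      | linear_combination hsym
      | ring
  obtain ⟨y0, hy0, hy0e⟩ : ∃ g ∈ G, (g : Matrix (Fin 3) (Fin 3) F) = !![2, 0, 0; 0, 1, 1; 0, 1, -1] :=
    ⟨_, mul_mem (mul_mem hL hy) hR, he0⟩
  obtain ⟨y1, hy1, hy1e⟩ : ∃ g ∈ G, (g : Matrix (Fin 3) (Fin 3) F) = !![-1, 0, 1; 0, 2, 0; 1, 0, 1] :=
    ⟨σ * y0 * (σ * σ), mul_mem (mul_mem hσ hy0) (mul_mem hσ hσ), by
      rw [Units.val_mul, Units.val_mul, Units.val_mul, hσe, hy0e]
      ext i j; fin_cases i <;> fin_cases j <;> simp [Matrix.mul_apply, Fin.sum_univ_three]⟩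
  refine el_of_row D (y := σ * (y0 * y1 * y0 * t * y1) * (σ * σ)) (α := 7) (r₁ := 11) (r₂ := 4) (a := -2) (b := 8)
    (c := 1) (d := 12) ?_ ?_ (Or.inl fun e => one_ne_zero (α := F) (by linear_combination e - 2 * h5'))
  · exact mul_mem (mul_mem hσ (mul_mem (mul_mem (mul_mem (mul_mem hy0 hy1) hy0) ht) hy1)) (mul_mem hσ hσ)
  · simp only [Units.val_mul, hσe, hy0e, hy1e, hte]
    ext i j; fin_cases i <;> fin_cases j <;> simp [Matrix.mul_apply, Fin.sum_univ_three] <;> first
      | linear_combination (-2 : F) * h5'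
      | linear_combination h5'
      | ring

theorem el_of_fix0 (D : MData G) {y : GL (Fin 3) F} (hy : y ∈ G) (h1 : (y : Matrix (Fin 3) (Fin 3) F) 1 0 = 0)
    (h2 : (y : Matrix (Fin 3) (Fin 3) F) 2 0 = 0) (hm : ¬ IsMon (y : Matrix (Fin 3) (Fin 3) F)) : El G := by
  classical
  obtain ⟨α, r₁, r₂, a, b, c, d, he⟩ : ∃ α r₁ r₂ a b c d : F,
      (y : Matrix (Fin 3) (Fin 3) F) = !![α, r₁, r₂; 0, a, b; 0, c, d] :=
    ⟨_, _, _, _, _, _, _, by ext i j; fin_cases i <;> fin_cases j <;> first | exact h1 | exact h2 | rfl⟩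
  by_cases hr : r₁ ≠ 0 ∨ r₂ ≠ 0
  · exact el_of_row D hy he hr
  push Not at hr
  obtain ⟨rfl, rfl⟩ := hr
  by_cases hz : a * b * c * d = 0
  · exact el_of_zero D hy he hz hm
  simp only [mul_eq_zero, not_or] at hz
  obtain ⟨⟨⟨ha, hb⟩, hc⟩, hd0⟩ := hz
  have hd : α * (a * d - b * c) = 1 := by
    have := det_gl_of_mem_specialLinear (D.sl hy)
    rw [he, det_fin_three] at this
    simp at this; linear_combination this
  have hΔ : a * d - b * c ≠ 0 := fun e => one_ne_zero (α := F) (by linear_combination α * e - hd)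
  have hα0 : α ≠ 0 := fun e => one_ne_zero (α := F) (by linear_combination (a * d - b * c) * e - hd)
  have step : ∀ y' : GL (Fin 3) F, y' ∈ G → ∀ α a b c d : F,
      (y' : Matrix (Fin 3) (Fin 3) F) = !![α, 0, 0; 0, a, b; 0, c, d] → a ≠ 0 → b ≠ 0 → c ≠ 0 → d ≠ 0 →
      α * (a * d - b * c) = 1 → ∀ u w : F, u ≠ 0 → w ≠ 0 → ∃ W ∈ G, ∃ A B C E : F,
        (W : Matrix (Fin 3) (Fin 3) F) = !![(u * w)⁻¹, 0, 0; 0, A, B; 0, C, E] ∧
        A = α * (a * d * u - b * c * w) ∧ B = α * (a * b) * (w - u) ∧ C = α * (c * d) * (u - w) ∧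
        E = α * (a * d * w - b * c * u) := by
    intro y' hy' α a b c d he ha hb hc hd0 hd u w hu hw
    obtain ⟨T, hT, hTe⟩ := exists_tor D (u * w)⁻¹ u w (by field_simp)
    refine ⟨y' * T * y'⁻¹, mul_mem (mul_mem hy' hT) (inv_mem hy'), _, _, _, _, ?_, rfl, rfl, rfl, rfl⟩
    obtain ⟨Wm, hWm⟩ : ∃ M : Matrix (Fin 3) (Fin 3) F, M = !![(u * w)⁻¹, 0, 0; 0, α * (a * d * u - b * c * w), α * (a * b) * (w - u); 0, α * (c * d) * (u - w), α * (a * d * w - b * c * u)] := ⟨_, rfl⟩
    have hk : Wm * (y' : Matrix (Fin 3) (Fin 3) F) = ((y' * T : GL (Fin 3) F) : Matrix (Fin 3) (Fin 3) F) := by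
      rw [Units.val_mul, he, hTe, hWm]
      ext i j; fin_cases i <;> fin_cases j <;> simp [Matrix.mul_apply, Fin.sum_univ_three] <;> first
        | linear_combination a * u * hd
        | linear_combination b * w * hd
        | linear_combination c * u * hd
        | linear_combination d * w * hd
        | ring
    rw [← hWm, Units.val_mul, ← hk, Matrix.mul_assoc, ← Units.val_mul, mul_inv_cancel, Units.val_one, Matrix.mul_one]
  have asym : ∀ y' : GL (Fin 3) F, y' ∈ G → ∀ α a b c d : F,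
      (y' : Matrix (Fin 3) (Fin 3) F) = !![α, 0, 0; 0, a, b; 0, c, d] → a ≠ 0 → b ≠ 0 → c ≠ 0 → d ≠ 0 →
      α * (a * d - b * c) = 1 → a * d + b * c ≠ 0 → El G := by
    intro y' hy' α a b c d he ha hb hc hd0 hd hns
    have hα0 : α ≠ 0 := fun e => one_ne_zero (α := F) (by linear_combination (a * d - b * c) * e - hd)
    obtain ⟨W, hW, A, B, C, E, hWe, hA, hB, hC, hE⟩ :=
      step y' hy' α a b c d he ha hb hc hd0 hd (b * c) (a * d) (mul_ne_zero hb hc) (mul_ne_zero ha hd0)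
    have hA0 : A = 0 := by rw [hA]; ring
    refine el_of_zero D hW hWe (by rw [hA0]; ring) fun hmon => ?_
    have hB0 : B ≠ 0 := by
      rw [hB]
      exact mul_ne_zero (mul_ne_zero hα0 (mul_ne_zero ha hb))
        (fun e => one_ne_zero (α := F) (by linear_combination α * e - hd))
    have hE0 : E ≠ 0 := by
      rw [hE, show a * d * (a * d) - b * c * (b * c) = (a * d - b * c) * (a * d + b * c) by ring, ← mul_assoc, hd]
      simpa using hns
    obtain ⟨p, hp⟩ := hmon 2
    rw [hWe] at hp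
    have p1 : (1 : Fin 3) = p := by_contra fun h => hB0 (by simpa using hp 1 h)
    have p2 : (2 : Fin 3) = p := by_contra fun h => hE0 (by simpa using hp 2 h)
    exact absurd (p1.trans p2.symm) (by decide)
  by_cases hns : a * d + b * c = 0
  swap
  · exact asym y hy α a b c d he ha hb hc hd0 hd hns
  by_cases h5 : Fintype.card F = 5
  · exact el_of_five D h5 hy he ha hb hc hns hd
  obtain ⟨x, hx0, hx4⟩ : ∃ x : F, x ≠ 0 ∧ x ^ 4 ≠ 1 := by
    obtain ⟨z, hz⟩ := IsCyclic.exists_ofOrder_eq_natCard (α := Fˣ)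
    rw [Nat.card_units, Nat.card_eq_fintype_card] at hz
    refine ⟨(z : F), z.ne_zero, fun e => ?_⟩
    have h : orderOf z ∣ 4 := orderOf_dvd_of_pow_eq_one (Units.ext (by simpa using e))
    have := D.field
    have := Nat.le_of_dvd (by norm_num) h
    omega
  have h2 : (2 : F) ≠ 0 := fun e => hΔ (by linear_combination a * d * e - hns)
  obtain ⟨W, hW, A, B, C, E, hWe, hA, hB, hC, hE⟩ := step y hy α a b c d he ha hb hc hd0 hd x 1 hx0 one_ne_zero
  have hbc : b * c = -(a * d) := by linear_combination hns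
  have hx1 : x + 1 ≠ 0 := fun e => hx4 (by linear_combination (x - 1) * (x ^ 2 + 1) * e)
  have hx1' : x - 1 ≠ 0 := fun e => hx4 (by linear_combination (x + 1) * (x ^ 2 + 1) * e)
  have hx2 : x ^ 2 + 1 ≠ 0 := fun e => hx4 (by linear_combination (x ^ 2 - 1) * e)
  refine asym W hW _ A B C E hWe ?_ ?_ ?_ ?_ ?_ ?_
  · rw [hA, show a * d * x - b * c * 1 = a * d * (x + 1) by linear_combination -hns]
    exact mul_ne_zero hα0 (mul_ne_zero (mul_ne_zero ha hd0) hx1)
  · rw [hB]; exact mul_ne_zero (mul_ne_zero hα0 (mul_ne_zero ha hb)) (fun e => hx1' (by linear_combination -e))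
  · rw [hC]; simp [hα0, hc, hd0, hx1']
  · rw [hE, show a * d * 1 - b * c * x = a * d * (x + 1) by linear_combination (-x) * hns]
    exact mul_ne_zero hα0 (mul_ne_zero (mul_ne_zero ha hd0) hx1)
  · have := det_gl_of_mem_specialLinear (D.sl hW)
    rw [hWe, det_fin_three] at this
    simp at this ⊢; linear_combination this
  · rw [hA, hB, hC, hE, show α * (a * d * x - b * c * 1) * (α * (a * d * 1 - b * c * x)) +
        α * (a * b) * (1 - x) * (α * (c * d) * (x - 1)) = α * α * (a * d) * (a * d) * (2 * (x ^ 2 + 1)) by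
      rw [show α * (a * b) * (1 - x) * (α * (c * d) * (x - 1)) = α * α * (a * d) * (b * c) * (1 - x) * (x - 1) by ring,
        hbc]; ring]
    exact mul_ne_zero (mul_ne_zero (mul_ne_zero (mul_ne_zero hα0 hα0) (mul_ne_zero ha hd0)) (mul_ne_zero ha hd0))
      (mul_ne_zero h2 hx2)

theorem exists_move (D : MData G) (l : Fin 3) : ∃ p ∈ G, IsMon (p : Matrix (Fin 3) (Fin 3) F) ∧
    (p : Matrix (Fin 3) (Fin 3) F) *ᵥ Pi.single 0 1 = Pi.single l 1 := by
  obtain ⟨σ, hσ, hσe⟩ := exists_cyc D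
  have hσm : IsMon (σ : Matrix (Fin 3) (Fin 3) F) := by
    rw [hσe]; exact fun j => ⟨![1, 2, 0] j, fun i hi => by fin_cases i <;> fin_cases j <;> simp_all⟩
  fin_cases l
  · exact ⟨1, one_mem _, by simpa using LMonFour.isMon_diagonal (fun _ : Fin 3 => (1 : F)), by rw [Units.val_one, one_mulVec]; rfl⟩
  · exact ⟨σ, hσ, hσm, by rw [hσe]; ext i; fin_cases i <;> simp⟩
  · exact ⟨σ * σ, mul_mem hσ hσ, by rw [Units.val_mul]; exact isMon_mul hσm hσm,
      by rw [Units.val_mul, hσe]; ext i; fin_cases i <;> simp [Matrix.mul_apply, Fin.sum_univ_three]⟩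

/-- Moving one coordinate line to another forces an element to be monomial. -/
theorem mon_of_map (D : MData G) (hno : ¬ specialLinear (Fin 3) F ≤ G) {g : GL (Fin 3) F} (hg : g ∈ G) {l k : Fin 3}
    {c : F} (h : (g : Matrix (Fin 3) (Fin 3) F) *ᵥ Pi.single l 1 = c • Pi.single k 1) :
    IsMon (g : Matrix (Fin 3) (Fin 3) F) := by
  obtain ⟨p, hp, hpm, hpe⟩ := exists_move D l
  obtain ⟨r, hr, hrm, hre⟩ := exists_move D k
  have hgm : IsMon ((r⁻¹ * g * p : GL (Fin 3) F) : Matrix (Fin 3) (Fin 3) F) := by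
    by_contra hm
    have hc : ∀ i, ((r⁻¹ * g * p : GL (Fin 3) F) : Matrix (Fin 3) (Fin 3) F) i 0 =
        (c • (Pi.single 0 1 : Fin 3 → F)) i := fun i => by
      have e : ((r⁻¹ * g * p : GL (Fin 3) F) : Matrix (Fin 3) (Fin 3) F) *ᵥ Pi.single 0 1 = c • Pi.single 0 1 := by
        rw [gl_mul_mulVec, gl_mul_mulVec, hpe, h, mulVec_smul, ← hre, gl_inv_mulVec_cancel]
      rw [← e, mulVec_single_one, col_apply]
    exact hno (sl_of_el D (el_of_fix0 D (mul_mem (mul_mem (inv_mem hr) hg) hp) (by simp [hc]) (by simp [hc]) hm))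
  have e : g = r * (r⁻¹ * g * p) * p⁻¹ := by group
  rw [e, Units.val_mul, Units.val_mul]
  exact isMon_mul (isMon_mul hrm hgm) (isMon_inv hpm)

end Cfsg.Agent.Classical.LinThree
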