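/-
The monomial group is maximal in `SL_3(q)` for `q ≥ 5`.
-/
import Cfsg.Agent.Lib.Classical.LinThree.MonFix

set_option autoImplicit false
set_option linter.unusedSectionVars false

namespace Cfsg.Agent.Classical.LinThree

open Matrix Cfsg.Geo
open Cfsg.Agent.Classical
open Cfsg.Agent.Classical.LMonFour (IsMon isMon_mul isMon_inv mon_perm)

variable {F : Type*} [Field F] [Fintype F] {G : Subgroup (GL (Fin 3) F)}

/-- A column. -/
def cv (g : GL (Fin 3) F) (k : Fin 3) : Fin 3 → F := fun i => (g : Matrix (Fin 3) (Fin 3) F) i k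

theorem cv_eq (g : GL (Fin 3) F) (k : Fin 3) : cv g k = (g : Matrix (Fin 3) (Fin 3) F) *ᵥ Pi.single k 1 := by
  rw [mulVec_single_one]; rfl

theorem cv_indep (g : GL (Fin 3) F) {j k : Fin 3} (hjk : j ≠ k) {a b : F} (h : a • cv g j = b • cv g k) : a = 0 := by
  rw [cv_eq, cv_eq, ← mulVec_smul, ← mulVec_smul] at h
  simpa [hjk] using congrFun (gl_mulVec_injective g h) j

/-- An element fixing one column line permutes the others. -/
theorem perm_cols (D : MData G) (hno : ¬ specialLinear (Fin 3) F ≤ G) {g x : GL (Fin 3) F} (hg : g ∈ G) (hx : x ∈ G)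
    {i : Fin 3} {c : F} (h : (x : Matrix (Fin 3) (Fin 3) F) *ᵥ cv g i = c • cv g i) :
    ∃ (σ : Equiv.Perm (Fin 3)) (d : Fin 3 → F), σ i = i ∧
      ∀ j, d j ≠ 0 ∧ (x : Matrix (Fin 3) (Fin 3) F) *ᵥ cv g j = d j • cv g (σ j) := by
  have hmap : ((g⁻¹ * x * g : GL (Fin 3) F) : Matrix (Fin 3) (Fin 3) F) *ᵥ Pi.single i 1 = c • Pi.single i 1 := by
    rw [gl_mul_mulVec, gl_mul_mulVec, ← cv_eq, h, mulVec_smul, cv_eq, gl_inv_mulVec_cancel]
  have hm := mon_of_map D hno (mul_mem (mul_mem (inv_mem hg) hx) hg) hmap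
  obtain ⟨σ, hσ⟩ := mon_perm hm
  refine ⟨σ, fun j => ((g⁻¹ * x * g : GL (Fin 3) F) : Matrix (Fin 3) (Fin 3) F) (σ j) j, ?_, fun j => ⟨(hσ j).1, ?_⟩⟩
  · by_contra hne
    have := congrFun hmap (σ i)
    rw [mulVec_single_one, col_apply, Pi.smul_apply, Pi.single_eq_of_ne hne, smul_zero] at this
    exact (hσ i).1 this
  · apply gl_mulVec_injective g⁻¹
    dsimp only
    rw [mulVec_smul, cv_eq, cv_eq, gl_inv_mulVec_cancel, ← gl_mul_mulVec, ← gl_mul_mulVec]
    funext p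
    rw [mulVec_single_one, col_apply, Pi.smul_apply]
    by_cases hp : p = σ j
    · subst hp; simp [mul_assoc]
    · rw [Pi.single_eq_of_ne hp, smul_zero]
      simpa [mul_assoc] using ((hσ j).2 p hp).1

/-- Columns of a non-monomial element have two non-zero entries. -/
theorem cv_two (D : MData G) (hno : ¬ specialLinear (Fin 3) F ≤ G) {g : GL (Fin 3) F} (hg : g ∈ G)
    (hm : ¬ IsMon (g : Matrix (Fin 3) (Fin 3) F)) (j : Fin 3) {a b : Fin 3} (hab : a ≠ b) (ha : cv g j a = 0) :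
    cv g j b ≠ 0 := by
  intro hb
  obtain ⟨k, hka, hkb⟩ := (show ∀ a b : Fin 3, ∃ k, k ≠ a ∧ k ≠ b by decide) a b
  refine hm (mon_of_map D hno hg (l := j) (k := k) (c := cv g j k) ?_)
  rw [← cv_eq]
  funext p
  rcases (show ∀ a b k p : Fin 3, a ≠ b → k ≠ a → k ≠ b → p = a ∨ p = b ∨ p = k by decide) a b k p hab hka hkb with
    rfl | rfl | rfl
  · simp [ha, hka.symm]
  · simp [hb, hkb.symm]
  · simp

/-- The twist of a vector by the powers of a cube root of unity. -/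
def tw (w : F) (u : Fin 3 → F) : Fin 3 → F := ![u 0, w * u 1, w ^ 2 * u 2]

/-- The other columns of a column without zeros. -/
theorem full_cols (D : MData G) (hno : ¬ specialLinear (Fin 3) F ≤ G) {g : GL (Fin 3) F} (hg : g ∈ G) {i : Fin 3}
    (hu : ∀ p, cv g i p ≠ 0) {j : Fin 3} (hji : j ≠ i) :
    ∃ w c : F, w ^ 3 = 1 ∧ w ≠ 1 ∧ c ≠ 0 ∧ cv g j = c • tw w (cv g i) := by
  obtain ⟨u, hu'⟩ : ∃ u, u = cv g i := ⟨_, rfl⟩
  rw [← hu'] at hu ⊢
  obtain ⟨m, hm, hme⟩ := exists_el D !![0, 0, u 0 / u 2; u 1 / u 0, 0, 0; 0, u 2 / u 1, 0]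
    (by rw [det_fin_three]; simp; field_simp [hu 0, hu 1, hu 2])
    (fun l => ⟨![1, 2, 0] l, fun p hp => by fin_cases p <;> fin_cases l <;> simp_all⟩)
  have hmv : ∀ v : Fin 3 → F, (m : Matrix (Fin 3) (Fin 3) F) *ᵥ v = ![u 0 / u 2 * v 2, u 1 / u 0 * v 0, u 2 / u 1 * v 1] := by
    intro v
    rw [hme]; ext p; fin_cases p <;> simp [Matrix.mulVec, dotProduct, Fin.sum_univ_three]
  have hmu : (m : Matrix (Fin 3) (Fin 3) F) *ᵥ cv g i = (1 : F) • cv g i := by
    rw [← hu', hmv, one_smul]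
    ext p; fin_cases p <;> simp [hu 0, hu 1, hu 2]
  have hm3 : ∀ v : Fin 3 → F, (m : Matrix (Fin 3) (Fin 3) F) *ᵥ ((m : Matrix (Fin 3) (Fin 3) F) *ᵥ
      ((m : Matrix (Fin 3) (Fin 3) F) *ᵥ v)) = v := by
    intro v
    rw [hmv, hmv, hmv]
    ext p; fin_cases p <;> simp <;> field_simp [hu 0, hu 1, hu 2]
  obtain ⟨σ, d, hσi, hd⟩ := perm_cols D hno hg hm hmu
  have hσj : σ j = j := by
    by_contra hne
    obtain ⟨k, hk⟩ : ∃ k, k = σ j := ⟨_, rfl⟩
    have hkj : k ≠ j := by rw [hk]; exact hne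
    have hki : k ≠ i := by rw [hk, ← hσi]; exact σ.injective.ne hji
    have hσk : σ k = j := by
      have h1 : σ k ≠ i := by rw [← hσi]; exact σ.injective.ne hki
      have h2 : σ k ≠ k := fun e => hkj (σ.injective (e.trans hk))
      exact (show ∀ i j k l : Fin 3, j ≠ i → k ≠ i → k ≠ j → l ≠ i → l ≠ k → l = j by decide) i j k _ hji hki hkj h1 h2
    have := hm3 (cv g j)
    rw [(hd j).2, mulVec_smul, ← hk, (hd k).2, hσk, mulVec_smul, mulVec_smul, (hd j).2, ← hk, smul_smul, smul_smul] at this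
    exact one_ne_zero (α := F) (cv_indep g hkj.symm (a := 1) (by rw [one_smul]; exact this.symm))
  obtain ⟨l, hl⟩ : ∃ l, l = d j := ⟨_, rfl⟩
  have hl0 : l ≠ 0 := hl ▸ (hd j).1
  obtain ⟨v, hv⟩ : ∃ v, v = cv g j := ⟨_, rfl⟩
  have hev : (m : Matrix (Fin 3) (Fin 3) F) *ᵥ v = l • v := by rw [hv, (hd j).2, hσj, hl]
  have hv0 : v ≠ 0 := fun e => one_ne_zero (α := F) (cv_indep g hji (a := 1) (b := 0) (by rw [← hv, e]; simp))
  rw [hmv] at hev
  have q1 : u 1 / u 0 * v 0 = l * v 1 := by simpa using congrFun hev 1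
  have q2 : u 2 / u 1 * v 1 = l * v 2 := by simpa using congrFun hev 2
  have q0 : u 0 / u 2 * v 2 = l * v 0 := by simpa using congrFun hev 0
  have hu0 := hu 0
  have hu1 := hu 1
  have hu2 := hu 2
  field_simp at q0 q1 q2
  obtain ⟨c, hc⟩ : ∃ c, c = v 0 / u 0 := ⟨_, rfl⟩
  have e0 : v 0 = c * u 0 := by rw [hc]; field_simp
  have e1 : l * v 1 = c * u 1 := mul_left_cancel₀ hu0 (by linear_combination -q1 + u 1 * e0)
  have e2 : l ^ 2 * v 2 = c * u 2 := mul_left_cancel₀ hu1 (by linear_combination (-l) * q2 + u 2 * e1)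
  have hc0 : c ≠ 0 := fun e => hv0 (by
    have h0 : v 0 = 0 := by rw [e0, e, zero_mul]
    have h1 : v 1 = 0 := by simpa [e, hl0] using e1
    have h2 : v 2 = 0 := by simpa [e, hl0] using e2
    ext p; fin_cases p <;> assumption)
  have hl3 : l ^ 3 = 1 := by
    have : c * u 0 * u 2 * (l ^ 3 - 1) = 0 := by linear_combination -(l ^ 2) * q0 - l ^ 3 * u 2 * e0 + u 0 * e2
    have := (mul_eq_zero.mp this).resolve_left (mul_ne_zero (mul_ne_zero hc0 hu0) hu2)
    linear_combination this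
  refine ⟨l ^ 2, c, by linear_combination (l ^ 3 + 1) * hl3, fun e => ?_, hc0, ?_⟩
  · have hl1 : l = 1 := by linear_combination hl3 - l * e
    refine one_ne_zero (α := F) (cv_indep g hji (a := 1) (b := c) ?_)
    rw [one_smul, ← hv, ← hu']
    ext p; fin_cases p
    · simpa using e0
    · simpa [hl1] using e1
    · simpa [hl1] using e2
  · rw [← hv]
    ext p; fin_cases p
    · simpa [tw] using e0
    · simp only [tw]; simp; linear_combination l ^ 2 * e1 - v 1 * hl3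
    · simp only [tw]; simp; linear_combination l ^ 4 * e2 - v 2 * (l ^ 3 + 1) * hl3

/-- A non-monomial element has no column with a zero in the first place. -/
theorem no_zero_top (D : MData G) (hno : ¬ specialLinear (Fin 3) F ≤ G) {g : GL (Fin 3) F} (hg : g ∈ G)
    (hm : ¬ IsMon (g : Matrix (Fin 3) (Fin 3) F)) (i : Fin 3) : cv g i 0 ≠ 0 := by
  intro h0
  have hp1 := cv_two D hno hg hm i (show (0 : Fin 3) ≠ 1 by decide) h0
  have hp2 := cv_two D hno hg hm i (show (0 : Fin 3) ≠ 2 by decide) h0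
  have hzero : ∀ j, ∃ a, cv g j a = 0 := by
    intro j
    by_contra hf
    push Not at hf
    by_cases hij : i = j
    · exact hf 0 (hij ▸ h0)
    obtain ⟨w, c, hw3, -, hc, he⟩ := full_cols D hno hg hf hij
    rw [he] at h0
    simp [tw, hc, hf 0] at h0
  obtain ⟨j, hj⟩ : ∃ j, cv g j 0 ≠ 0 := by
    by_contra hall
    push Not at hall
    exact ((Matrix.isUnit_iff_isUnit_det _).mp g.isUnit).ne_zero (Matrix.det_eq_zero_of_row_eq_zero 0 hall)
  obtain ⟨a, ha⟩ := hzero j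
  have ha0 : a ≠ 0 := fun e => hj (e ▸ ha)
  obtain ⟨b, hba, hb0⟩ := (show ∀ a : Fin 3, ∃ b, b ≠ a ∧ b ≠ 0 by decide) a
  have hbv : cv g j b ≠ 0 := cv_two D hno hg hm j hba.symm ha
  obtain ⟨x, hx0, hx2, hx3, hx1⟩ := LMonFour.exists_scalar D.field
  obtain ⟨t, ht, hte⟩ := exists_tor D (x⁻¹ * x⁻¹) x x (by field_simp)
  have htv : ∀ v : Fin 3 → F, (t : Matrix (Fin 3) (Fin 3) F) *ᵥ v = ![x⁻¹ * x⁻¹ * v 0, x * v 1, x * v 2] := by
    intro v
    rw [hte]; ext p; fin_cases p <;> simp [Matrix.mulVec, dotProduct, Fin.sum_univ_three]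
  have htb : ∀ (v : Fin 3 → F) (p : Fin 3), p ≠ 0 → ((t : Matrix (Fin 3) (Fin 3) F) *ᵥ v) p = x * v p := by
    intro v p hp
    rw [htv]; fin_cases p <;> simp at hp ⊢
  have hti : (t : Matrix (Fin 3) (Fin 3) F) *ᵥ cv g i = x • cv g i := by
    rw [htv]; ext p; fin_cases p <;> simp [h0]
  obtain ⟨σ, d, hσi, hd⟩ := perm_cols D hno hg ht hti
  have hji : j ≠ i := fun e => hj (e ▸ h0)
  have hσj : σ j ≠ j := fun e => by
    have h := (hd j).2
    rw [e] at h
    have e0 := congrFun h 0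
    have eb := congrFun h b
    rw [htb _ _ hb0] at eb
    rw [htv, Pi.smul_apply, smul_eq_mul] at e0
    rw [Pi.smul_apply, smul_eq_mul] at eb
    simp only [Matrix.cons_val_zero] at e0
    have h1 : d j = x := mul_right_cancel₀ hbv eb.symm
    have h2 : x⁻¹ * x⁻¹ = x := mul_right_cancel₀ hj (by linear_combination e0 + cv g j 0 * h1)
    exact hx3 (by
      field_simp at h2
      linear_combination -h2)
  have hpat : cv g (σ j) a = 0 ∧ cv g (σ j) b ≠ 0 ∧ cv g (σ j) 0 ≠ 0 := by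
    have h := (hd j).2
    refine ⟨?_, fun e => ?_, fun e => ?_⟩
    · have := congrFun h a
      rw [htb _ _ ha0] at this
      simpa [ha, (hd j).1] using this.symm
    · have := congrFun h b
      rw [htb _ _ hb0] at this
      simp [e, hx0, hbv] at this
    · have := congrFun h 0
      rw [htv] at this
      simp [e, hx0, hj] at this
  obtain ⟨p, hp⟩ : ∃ p, p = cv g i := ⟨_, rfl⟩
  rw [← hp] at hp1 hp2
  obtain ⟨s, hs, hse⟩ := exists_el D !![-1, 0, 0; 0, 0, p 1 / p 2; 0, p 2 / p 1, 0]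
    (by rw [det_fin_three]; simp; field_simp)
    (fun l => ⟨![0, 2, 1] l, fun q hq => by fin_cases q <;> fin_cases l <;> simp_all⟩)
  have hsv : ∀ v : Fin 3 → F, (s : Matrix (Fin 3) (Fin 3) F) *ᵥ v = ![-v 0, p 1 / p 2 * v 2, p 2 / p 1 * v 1] := by
    intro v
    rw [hse]; ext q; fin_cases q <;> simp [Matrix.mulVec, dotProduct, Fin.sum_univ_three]
  have hsi : (s : Matrix (Fin 3) (Fin 3) F) *ᵥ cv g i = (1 : F) • cv g i := by
    rw [hsv, ← hp, one_smul]
    ext q; fin_cases q <;> simp [hp1, hp2]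
    rw [hp, h0, neg_zero]
  obtain ⟨π, e, hπi, he⟩ := perm_cols D hno hg hs hsi
  have hπj : π j ≠ i := by rw [← hπi]; exact π.injective.ne hji
  have hσji : σ j ≠ i := by rw [← hσi]; exact σ.injective.ne hji
  have hb' : ((s : Matrix (Fin 3) (Fin 3) F) *ᵥ cv g j) b = 0 := by
    rw [hsv]
    rcases (show ∀ a b : Fin 3, a ≠ 0 → b ≠ 0 → b ≠ a → (a = 1 ∧ b = 2) ∨ (a = 2 ∧ b = 1) by decide) a b ha0 hb0 hba with
      ⟨rfl, rfl⟩ | ⟨rfl, rfl⟩ <;> simp [ha]
  rw [(he j).2, Pi.smul_apply, smul_eq_mul, mul_eq_zero, or_iff_right (he j).1] at hb'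
  rcases (show ∀ i j k l : Fin 3, j ≠ i → k ≠ i → k ≠ j → l ≠ i → l = j ∨ l = k by decide) i j _ _ hji hσji hσj hπj with
    h | h <;> rw [h] at hb'
  · exact hbv hb'
  · exact hpat.2.1 hb'

theorem no_zero (D : MData G) (hno : ¬ specialLinear (Fin 3) F ≤ G) {g : GL (Fin 3) F} (hg : g ∈ G)
    (hm : ¬ IsMon (g : Matrix (Fin 3) (Fin 3) F)) (i k : Fin 3) : cv g i k ≠ 0 := by
  obtain ⟨σ, hσ, hσe⟩ := exists_cyc D
  have hσm : IsMon (σ : Matrix (Fin 3) (Fin 3) F) := by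
    rw [hσe]; exact fun j => ⟨![1, 2, 0] j, fun i hi => by fin_cases i <;> fin_cases j <;> simp_all⟩
  have hnm : ∀ p, p ∈ G → IsMon (p : Matrix (Fin 3) (Fin 3) F) → ¬ IsMon ((p * g : GL (Fin 3) F) : Matrix (Fin 3) (Fin 3) F) :=
    fun p _ hp h => hm (by
      rw [show g = p⁻¹ * (p * g) by group, Units.val_mul]
      exact isMon_mul (isMon_inv hp) h)
  fin_cases k
  · exact no_zero_top D hno hg hm i
  · have := no_zero_top D hno (mul_mem (mul_mem hσ hσ) hg)
      (hnm _ (mul_mem hσ hσ) (by rw [Units.val_mul]; exact isMon_mul hσm hσm)) i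
    simpa [cv, Units.val_mul, hσe, Matrix.mul_apply, Fin.sum_univ_three] using this
  · have := no_zero_top D hno (mul_mem hσ hg) (hnm _ hσ hσm) i
    simpa [cv, Units.val_mul, hσe, Matrix.mul_apply, Fin.sum_univ_three] using this

/-- A subgroup of `SL_3` containing the monomial elements and one more is the whole group. -/
theorem sl_le (D : MData G) {g : GL (Fin 3) F} (hg : g ∈ G) (hm : ¬ IsMon (g : Matrix (Fin 3) (Fin 3) F)) :
    specialLinear (Fin 3) F ≤ G := by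
  classical
  by_contra hno
  obtain ⟨u, hu'⟩ : ∃ u, u = cv g 0 := ⟨_, rfl⟩
  have hu : ∀ p, u p ≠ 0 := fun p => hu' ▸ no_zero D hno hg hm 0 p
  obtain ⟨w, c1, hw3, hw1, hc1, h1⟩ := full_cols D hno hg (hu' ▸ hu) (show (1 : Fin 3) ≠ 0 by decide)
  obtain ⟨w', c2, hw3', hw1', hc2, h2⟩ := full_cols D hno hg (hu' ▸ hu) (show (2 : Fin 3) ≠ 0 by decide)
  rw [← hu'] at h1 h2
  have hne : w' ≠ w := by
    rintro rfl
    refine hc2 (cv_indep g (show (1 : Fin 3) ≠ 2 by decide) (a := c2) (b := c1) ?_)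
    rw [h1, h2, smul_comm]
  have hsum : ∀ z : F, z ^ 3 = 1 → z ≠ 1 → z ^ 2 + z + 1 = 0 := fun z h h' =>
    (mul_eq_zero.mp (show (z - 1) * (z ^ 2 + z + 1) = 0 by linear_combination h)).resolve_left (sub_ne_zero.mpr h')
  have hw' : w' = w ^ 2 := by
    have := (mul_eq_zero.mp (show (w' - w) * (w' + w + 1) = 0 by
      linear_combination hsum w' hw3' hw1' - hsum w hw3 hw1)).resolve_left (sub_ne_zero.mpr hne)
    linear_combination this - hsum w hw3 hw1
  obtain ⟨d, hd, hde⟩ := exists_tor D 1 w (w ^ 2) (by linear_combination hw3)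
  have hdv : ∀ v : Fin 3 → F, (d : Matrix (Fin 3) (Fin 3) F) *ᵥ v = tw w v := by
    intro v
    rw [hde]; ext p; fin_cases p <;> simp [tw, Matrix.mulVec, dotProduct, Fin.sum_univ_three]
  obtain ⟨m, hm'⟩ : ∃ m, m = g⁻¹ * d * g := ⟨_, rfl⟩
  have hmG : m ∈ G := hm' ▸ mul_mem (mul_mem (inv_mem hg) hd) hg
  have hgm : ∀ v, (g : Matrix (Fin 3) (Fin 3) F) *ᵥ ((m : Matrix (Fin 3) (Fin 3) F) *ᵥ v) =
      tw w ((g : Matrix (Fin 3) (Fin 3) F) *ᵥ v) := fun v => by
    rw [hm', gl_mul_mulVec, gl_mul_mulVec, gl_mulVec_inv_cancel, hdv]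
  have htw : ∀ (z c : F) (v : Fin 3 → F), tw z (c • v) = c • tw z v := fun z c v => by
    ext p; fin_cases p <;> simp [tw] <;> ring
  have htt : ∀ (z z' : F) (v : Fin 3 → F), tw z (tw z' v) = tw (z * z') v := fun z z' v => by
    ext p; fin_cases p <;> simp [tw] <;> ring
  have htw1 : ∀ v : Fin 3 → F, tw 1 v = v := fun v => by
    ext p; fin_cases p <;> simp [tw]
  have m0 : (m : Matrix (Fin 3) (Fin 3) F) *ᵥ Pi.single 0 1 = c1⁻¹ • Pi.single 1 1 := by
    refine gl_mulVec_injective g ?_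
    dsimp only
    rw [hgm, mulVec_smul, ← cv_eq, ← cv_eq, ← hu', h1, inv_smul_smul₀ hc1]
  have m1 : (m : Matrix (Fin 3) (Fin 3) F) *ᵥ Pi.single 1 1 = (c1 * c2⁻¹) • Pi.single 2 1 := by
    refine gl_mulVec_injective g ?_
    dsimp only
    rw [hgm, mulVec_smul, ← cv_eq, ← cv_eq, h1, h2, htw, htt, hw', ← pow_two, smul_smul]
    congr 1; field_simp
  have m2 : (m : Matrix (Fin 3) (Fin 3) F) *ᵥ Pi.single 2 1 = c2 • Pi.single 0 1 := by
    refine gl_mulVec_injective g ?_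
    dsimp only
    rw [hgm, mulVec_smul, ← cv_eq, ← cv_eq, h2, htw, htt, hw', ← hu',
      show w * w ^ 2 = (1 : F) by linear_combination hw3, htw1]
  have hmv : ∀ v : Fin 3 → F, (m : Matrix (Fin 3) (Fin 3) F) *ᵥ v = ![c2 * v 2, c1⁻¹ * v 0, c1 * c2⁻¹ * v 1] := by
    intro v
    have e : v = v 0 • Pi.single 0 1 + v 1 • Pi.single 1 1 + v 2 • Pi.single 2 1 := by
      ext p; fin_cases p <;> simp
    conv_lhs => rw [e]
    rw [mulVec_add, mulVec_add, mulVec_smul, mulVec_smul, mulVec_smul, m0, m1, m2]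
    ext p; fin_cases p <;> simp <;> ring
  -- the map `m` twists every translate of `u`
  have claim : ∀ t, t ∈ G → ∃ c z : F, c ≠ 0 ∧ z ^ 3 = 1 ∧
      (m : Matrix (Fin 3) (Fin 3) F) *ᵥ ((t : Matrix (Fin 3) (Fin 3) F) *ᵥ u) =
        c • ((t : Matrix (Fin 3) (Fin 3) F) *ᵥ tw z u) := by
    intro t ht
    obtain ⟨z, hz⟩ : ∃ z, z = g * t * g := ⟨_, rfl⟩
    have hzG : z ∈ G := hz ▸ mul_mem (mul_mem hg ht) hg
    have hz0 : (g : Matrix (Fin 3) (Fin 3) F) *ᵥ ((t : Matrix (Fin 3) (Fin 3) F) *ᵥ u) = cv z 0 := by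
      rw [cv_eq, hz, gl_mul_mulVec, gl_mul_mulVec, ← cv_eq, hu']
    by_cases hzm : IsMon (z : Matrix (Fin 3) (Fin 3) F)
    · obtain ⟨p, hp⟩ := hzm 0
      obtain ⟨e, he⟩ : ∃ e : F, tw w (cv z 0) = e • cv z 0 ∧ e ≠ 0 := by
        have hpz : ∀ q, q ≠ p → cv z 0 q = 0 := hp
        refine ⟨![1, w, w ^ 2] p, ?_, ?_⟩
        · ext q
          by_cases hq : q = p
          · subst hq; fin_cases q <;> simp [tw]
          · fin_cases q <;> simp [tw, hpz _ hq] <;> simp_all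
        · have hw0 : w ≠ 0 := fun e => by simp [e] at hw3
          fin_cases p <;> simp [hw0]
      refine ⟨e, 1, he.2, one_pow _, gl_mulVec_injective g ?_⟩
      dsimp only
      rw [hgm, htw1, mulVec_smul, hz0, he.1]
    · obtain ⟨z1, d1, hz31, hz11, hd1, e1⟩ :=
        full_cols D hno hzG (no_zero D hno hzG hzm 0) (show (1 : Fin 3) ≠ 0 by decide)
      obtain ⟨z2, d2, hz32, hz12, hd2, e2⟩ :=
        full_cols D hno hzG (no_zero D hno hzG hzm 0) (show (2 : Fin 3) ≠ 0 by decide)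
      have hz12' : z2 ≠ z1 := by
        rintro rfl
        refine hd2 (cv_indep z (show (1 : Fin 3) ≠ 2 by decide) (a := d2) (b := d1) ?_)
        rw [e1, e2, smul_comm]
      have hor : w = z1 ∨ w = z2 := by
        by_contra h
        push Not at h
        have a := (mul_eq_zero.mp (show (w - z1) * (w + z1 + 1) = 0 by
          linear_combination hsum w hw3 hw1 - hsum z1 hz31 hz11)).resolve_left (sub_ne_zero.mpr h.1)
        have b := (mul_eq_zero.mp (show (w - z2) * (w + z2 + 1) = 0 by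
          linear_combination hsum w hw3 hw1 - hsum z2 hz32 hz12)).resolve_left (sub_ne_zero.mpr h.2)
        exact hz12' (by linear_combination b - a)
      obtain ⟨k, dk, hdk, ek⟩ : ∃ (k : Fin 3) (dk : F), dk ≠ 0 ∧ cv z k = dk • tw w (cv z 0) := by
        rcases hor with rfl | rfl
        · exact ⟨1, d1, hd1, e1⟩
        · exact ⟨2, d2, hd2, e2⟩
      have hk : ∃ c zk : F, c ≠ 0 ∧ zk ^ 3 = 1 ∧ cv g k = c • tw zk u := by
        fin_cases k
        · exact ⟨1, 1, one_ne_zero, one_pow _, by rw [one_smul, htw1]; exact hu'.symm⟩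
        · exact ⟨c1, w, hc1, hw3, h1⟩
        · exact ⟨c2, w', hc2, hw3', h2⟩
      obtain ⟨c, zk, hc, hzk, hgk⟩ := hk
      refine ⟨dk⁻¹ * c, zk, mul_ne_zero (inv_ne_zero hdk) hc, hzk, gl_mulVec_injective g ?_⟩
      dsimp only
      rw [hgm, hz0, show tw w (cv z 0) = dk⁻¹ • cv z k by rw [ek, inv_smul_smul₀ hdk], cv_eq, hz, gl_mul_mulVec,
        gl_mul_mulVec, ← cv_eq, hgk, mulVec_smul, mulVec_smul, mulVec_smul, smul_smul]
  obtain ⟨e, z, he, hz, h00⟩ := claim 1 (one_mem _)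
  have key : ∀ a : F, a ≠ 0 → a ^ 3 = 1 := by
    intro a ha
    obtain ⟨t, ht, hte⟩ := exists_tor D a a⁻¹ 1 (by field_simp)
    obtain ⟨e', z', he', hz', ht0⟩ := claim t ht
    simp only [Units.val_one, one_mulVec, hmv] at h00
    simp only [hte, hmv] at ht0
    have p0 : c2 * u 2 = e * u 0 := by simpa [tw] using congrFun h00 0
    have p1 : c1⁻¹ * u 0 = e * (z * u 1) := by simpa [tw] using congrFun h00 1
    have p2 : c1 * c2⁻¹ * u 1 = e * (z ^ 2 * u 2) := by simpa [tw] using congrFun h00 2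
    have r0 : c2 * u 2 = e' * (a * u 0) := by
      have h := congrFun ht0 0
      simp [tw, Matrix.mulVec, dotProduct, Fin.sum_univ_three] at h
      linear_combination h
    have r1 : c1⁻¹ * (a * u 0) = e' * (a⁻¹ * (z' * u 1)) := by
      have h := congrFun ht0 1
      simp [tw, Matrix.mulVec, dotProduct, Fin.sum_univ_three] at h
      linear_combination h
    have r2 : c1 * c2⁻¹ * (a⁻¹ * u 1) = e' * (z' ^ 2 * u 2) := by
      have h := congrFun ht0 2
      simp [tw, Matrix.mulVec, dotProduct, Fin.sum_univ_three] at h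
      linear_combination h
    have hea : e = e' * a := mul_right_cancel₀ (hu 0) (by linear_combination r0 - p0)
    subst hea
    have q1 : a ^ 3 * z = z' := by
      refine mul_left_cancel₀ (mul_ne_zero he' (hu 1)) ?_
      have : a * a * (c1⁻¹ * u 0) = e' * (z' * u 1) := by
        linear_combination a * r1 + (e' * z' * u 1) * (mul_inv_cancel₀ ha)
      linear_combination this - a * a * p1
    have q2 : z' ^ 2 = z ^ 2 := by
      refine mul_left_cancel₀ (mul_ne_zero he' (hu 2)) ?_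
      linear_combination -r2 + a⁻¹ * p2 + (e' * z ^ 2 * u 2) * (mul_inv_cancel₀ ha)
    have q3 : z' = z := by linear_combination (z' ^ 2 + z ^ 2) * q2 - z' * hz' + z * hz
    exact mul_right_cancel₀ (show z ≠ 0 from fun e => by simp [e] at hz) (by rw [q1, q3, one_mul])
  obtain ⟨x, hx0, -, hx3, -⟩ := LMonFour.exists_scalar D.field
  exact hx3 (by linear_combination key x hx0)

end Cfsg.Agent.Classical.LinThree
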