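/-
Overgroups of the orthogonal group in three dimensions, in adapted coordinates: fixing a point of the conic.
-/
import Cfsg.Agent.Lib.Classical.LinBasic

set_option autoImplicit false
set_option linter.unusedSectionVars false

namespace Cfsg.Agent.Classical.LinThree

open Matrix Cfsg.Geo
open Cfsg.Agent.Classical

variable {F : Type*} [Field F] [Fintype F]

/-- The quadratic form in coordinates. -/
def Qc (ρ : F) (x : Fin 3 → F) : F := x 0 * x 2 + ρ * x 1 ^ 2

/-- The setting. -/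
structure OData (ρ : F) (G : Subgroup (GL (Fin 3) F)) : Prop where
  two : (2 : F) ≠ 0
  rho : ρ ≠ 0
  sl : G ≤ specialLinear (Fin 3) F
  iso : ∀ g : GL (Fin 3) F, (g : Matrix (Fin 3) (Fin 3) F).det = 1 →
    (∀ x, Qc ρ ((g : Matrix (Fin 3) (Fin 3) F) *ᵥ x) = Qc ρ x) → g ∈ G

variable {ρ : F} {G : Subgroup (GL (Fin 3) F)}

theorem exists_oiso (D : OData ρ G) (M : Matrix (Fin 3) (Fin 3) F) (hd : M.det = 1)
    (h : ∀ x, Qc ρ (M *ᵥ x) = Qc ρ x) : ∃ g ∈ G, (g : Matrix (Fin 3) (Fin 3) F) = M :=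
  ⟨GeneralLinearGroup.mkOfDetNeZero M (by rw [hd]; exact one_ne_zero), D.iso _ hd h, rfl⟩

theorem exists_ou (D : OData ρ G) (a : F) :
    ∃ g ∈ G, (g : Matrix (Fin 3) (Fin 3) F) = !![1, -2 * ρ * a, -(ρ * a ^ 2); 0, 1, a; 0, 0, 1] := by
  refine exists_oiso D _ (by rw [det_fin_three]; simp) fun x => ?_
  simp [Qc, Matrix.mulVec, dotProduct, Fin.sum_univ_three]
  ring

theorem exists_ow (D : OData ρ G) :
    ∃ g ∈ G, (g : Matrix (Fin 3) (Fin 3) F) = !![0, 0, 1; 0, -1, 0; 1, 0, 0] := by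
  refine exists_oiso D _ (by rw [det_fin_three]; simp) fun x => ?_
  simp [Qc, Matrix.mulVec, dotProduct, Fin.sum_univ_three]
  ring

theorem exists_oh (D : OData ρ G) {l : F} (hl : l ≠ 0) :
    ∃ g ∈ G, (g : Matrix (Fin 3) (Fin 3) F) = !![l, 0, 0; 0, 1, 0; 0, 0, l⁻¹] := by
  refine exists_oiso D _ (by rw [det_fin_three]; simp; field_simp) fun x => ?_
  simp [Qc, Matrix.mulVec, dotProduct, Fin.sum_univ_three]
  field_simp

/-- Lifts of lower unipotent blocks. -/
def Low (G : Subgroup (GL (Fin 3) F)) (t : F) : Prop :=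
  ∃ g ∈ G, ∃ r s : F, (g : Matrix (Fin 3) (Fin 3) F) = !![1, r, s; 0, 1, 0; 0, t, 1]

/-- An element fixing the first line and moving its tangent gives all lower lifts. -/
theorem low_all (D : OData ρ G) {y : GL (Fin 3) F} (hy : y ∈ G) (h1 : (y : Matrix (Fin 3) (Fin 3) F) 1 0 = 0)
    (h2 : (y : Matrix (Fin 3) (Fin 3) F) 2 0 = 0) (h21 : (y : Matrix (Fin 3) (Fin 3) F) 2 1 ≠ 0) : ∀ t, Low G t := by
  obtain ⟨k, hk⟩ : ∃ k, k = -((y : Matrix (Fin 3) (Fin 3) F) 1 1 / (y : Matrix (Fin 3) (Fin 3) F) 2 1) := ⟨_, rfl⟩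
  obtain ⟨u, hu, hue⟩ := exists_ou D k
  obtain ⟨x, hx, hx1, hx2, hx11, hx21⟩ : ∃ x ∈ G, (x : Matrix (Fin 3) (Fin 3) F) 1 0 = 0 ∧
      (x : Matrix (Fin 3) (Fin 3) F) 2 0 = 0 ∧ (x : Matrix (Fin 3) (Fin 3) F) 1 1 = 0 ∧
      (x : Matrix (Fin 3) (Fin 3) F) 2 1 ≠ 0 := by
    refine ⟨u * y, mul_mem hu hy, ?_, ?_, ?_, ?_⟩ <;> simp [hue, Matrix.mul_apply, Fin.sum_univ_three, h1, h2, h21]
    rw [hk]; field_simp; ring
  obtain ⟨α, r₁, r₂, b, c, d, he⟩ : ∃ α r₁ r₂ b c d : F,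
      (x : Matrix (Fin 3) (Fin 3) F) = !![α, r₁, r₂; 0, 0, b; 0, c, d] :=
    ⟨_, _, _, _, _, _, by ext i j; fin_cases i <;> fin_cases j <;> first | exact hx1 | exact hx2 | exact hx11 | rfl⟩
  have hd : α * (-(b * c)) = 1 := by
    have := det_gl_of_mem_specialLinear (D.sl hx)
    rw [he, det_fin_three] at this
    simp at this; linear_combination this
  obtain ⟨hα, hb, hc⟩ : α ≠ 0 ∧ b ≠ 0 ∧ c ≠ 0 := by
    refine ⟨?_, ?_, ?_⟩ <;> rintro rfl <;> simp at hd
  intro t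
  obtain ⟨v, hv, hve⟩ := exists_ou D (t * b / c)
  refine ⟨x * v * x⁻¹, mul_mem (mul_mem hx hv) (inv_mem hx), ?_⟩
  obtain ⟨s, hs⟩ : ∃ s, s = α * (-2 * ρ * (t * b / c)) / c := ⟨_, rfl⟩
  obtain ⟨r, hr⟩ : ∃ r, r = (α * (-(ρ * (t * b / c) ^ 2)) + r₁ * (t * b / c) - s * d) / b := ⟨_, rfl⟩
  refine ⟨r, s, ?_⟩
  have hk : !![1, r, s; 0, 1, 0; 0, t, 1] * (x : Matrix (Fin 3) (Fin 3) F) =
      ((x * v : GL (Fin 3) F) : Matrix (Fin 3) (Fin 3) F) := by
    rw [Units.val_mul, he, hve]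
    ext i j; fin_cases i <;> fin_cases j <;> simp [Matrix.mul_apply, Fin.sum_univ_three, hr, hs] <;> field_simp <;> ring
  rw [Units.val_mul, ← hk, Matrix.mul_assoc, ← Units.val_mul, mul_inv_cancel, Units.val_one, Matrix.mul_one]

/-- Then the group is everything. -/
theorem sl_of_fix (D : OData ρ G) {y : GL (Fin 3) F} (hy : y ∈ G) (h1 : (y : Matrix (Fin 3) (Fin 3) F) 1 0 = 0)
    (h2 : (y : Matrix (Fin 3) (Fin 3) F) 2 0 = 0) (h21 : (y : Matrix (Fin 3) (Fin 3) F) 2 1 ≠ 0) :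
    specialLinear (Fin 3) F ≤ G := by
  have hlow := low_all D hy h1 h2 h21
  obtain ⟨u, hu, hue⟩ := exists_ou D 1
  obtain ⟨v, hv, r, s, hve⟩ := hlow (-1)
  obtain ⟨z, hz, a, b, hze⟩ : ∃ z ∈ G, ∃ a b : F, (z : Matrix (Fin 3) (Fin 3) F) = !![1, a, b; 0, -1, 0; 0, 0, -1] :=
    ⟨u * v * u * (u * v * u), mul_mem (mul_mem (mul_mem hu hv) hu) (mul_mem (mul_mem hu hv) hu),
      (((u * v * u * (u * v * u) : GL (Fin 3) F)) : Matrix (Fin 3) (Fin 3) F) 0 1,
      (((u * v * u * (u * v * u) : GL (Fin 3) F)) : Matrix (Fin 3) (Fin 3) F) 0 2, by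
      ext i j; fin_cases i <;> fin_cases j <;> simp [hue, hve, Matrix.mul_apply, Fin.sum_univ_three] <;> ring⟩
  -- a transvection with centre on the conic
  have hrow : ∀ (g : GL (Fin 3) F) (p q : F), g ∈ G → (g : Matrix (Fin 3) (Fin 3) F) = !![1, p, q; 0, 1, 0; 0, 0, 1] →
      transGL (show (0 : Fin 3) ≠ 1 by decide) (2 * p) ∈ G := by
    intro g p q hg hge
    obtain ⟨h, hh, hhe⟩ := exists_oh D (l := (-1 : F)) (by simp)
    obtain ⟨g', hg', hg'e⟩ : ∃ g' ∈ G, (g' : Matrix (Fin 3) (Fin 3) F) = !![1, -p, q; 0, 1, 0; 0, 0, 1] :=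
      ⟨h * g * h, mul_mem (mul_mem hh hg) hh, by
        rw [Units.val_mul, Units.val_mul, hhe, hge]
        ext i j; fin_cases i <;> fin_cases j <;> simp [Matrix.mul_apply, Fin.sum_univ_three]⟩
    rw [eq_mul_inv_of_mul_eq (show transGL (show (0 : Fin 3) ≠ 1 by decide) (2 * p) * g' = g from Units.ext (by
      rw [Units.val_mul, hge, hg'e, transGL_coe]
      ext i j; fin_cases i <;> fin_cases j <;> simp [Matrix.mul_apply, Fin.sum_univ_three, transvection, Matrix.single]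
      ring))]
    exact mul_mem hg (inv_mem hg')
  obtain ⟨p, hp0, hp⟩ : ∃ p : F, p ≠ 0 ∧ transGL (show (0 : Fin 3) ≠ 1 by decide) p ∈ G := by
    obtain ⟨g, hg, q', hge⟩ : ∃ g ∈ G, ∃ q' : F,
        (g : Matrix (Fin 3) (Fin 3) F) = !![1, 2 * 2 * ρ, q'; 0, 1, 0; 0, 0, 1] := by
      refine ⟨z * u * (u * z)⁻¹, mul_mem (mul_mem hz hu) (inv_mem (mul_mem hu hz)), -2 * ρ - a, ?_⟩
      have hk : !![1, 2 * 2 * ρ, -2 * ρ - a; 0, 1, 0; 0, 0, 1] *
          ((u * z : GL (Fin 3) F) : Matrix (Fin 3) (Fin 3) F) = ((z * u : GL (Fin 3) F) : Matrix (Fin 3) (Fin 3) F) := by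
        rw [Units.val_mul, Units.val_mul, hue, hze]
        ext i j; fin_cases i <;> fin_cases j <;> simp [Matrix.mul_apply, Fin.sum_univ_three] <;> ring
      rw [Units.val_mul, ← hk, Matrix.mul_assoc, ← Units.val_mul, mul_inv_cancel, Units.val_one, Matrix.mul_one]
    exact ⟨_, mul_ne_zero D.two (mul_ne_zero (mul_ne_zero D.two D.two) D.rho), hrow g _ _ hg hge⟩
  have h01 : ∀ c, transGL (show (0 : Fin 3) ≠ 1 by decide) c ∈ G := by
    intro c
    by_cases hc : c = 0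
    · convert one_mem G
      exact gl_ext_mulVec fun w => by rw [transGL_mulVec, hc, zero_mul, Pi.single_zero, add_zero, Units.val_one, one_mulVec]
    obtain ⟨h, hh, hhe⟩ := exists_oh D (l := c / p) (div_ne_zero hc hp0)
    rw [eq_mul_inv_of_mul_eq (show transGL (show (0 : Fin 3) ≠ 1 by decide) c * h =
      h * transGL (show (0 : Fin 3) ≠ 1 by decide) p from Units.ext (by
      rw [Units.val_mul, Units.val_mul, hhe, transGL_coe, transGL_coe]
      ext i j; fin_cases i <;> fin_cases j <;>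
        simp [Matrix.mul_apply, Matrix.vecMul, dotProduct, Fin.sum_univ_three, transvection, Matrix.single] <;> field_simp))]
    exact mul_mem (mul_mem hh hp) (inv_mem hh)
  have h02 : ∀ c, transGL (show (0 : Fin 3) ≠ 2 by decide) c ∈ G := by
    intro c
    obtain ⟨w, hw, hwe⟩ := exists_ou D c
    rw [eq_mul_inv_of_mul_eq (show transGL (show (0 : Fin 3) ≠ 2 by decide) c *
        (w * transGL (show (0 : Fin 3) ≠ 1 by decide) 1) = transGL (show (0 : Fin 3) ≠ 1 by decide) 1 * w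
      from Units.ext (by
      rw [Units.val_mul, Units.val_mul, Units.val_mul, hwe, transGL_coe, transGL_coe]
      ext i j; fin_cases i <;> fin_cases j <;>
        simp [Matrix.mul_apply, Matrix.vecMul, dotProduct, Fin.sum_univ_three, transvection, Matrix.single] <;> ring))]
    exact mul_mem (mul_mem (h01 1) hw) (inv_mem (mul_mem hw (h01 1)))
  have h12 : ∀ c, transGL (show (1 : Fin 3) ≠ 2 by decide) c ∈ G := by
    intro c
    obtain ⟨w, hw, hwe⟩ := exists_ou D c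
    convert mul_mem (mul_mem hw (h01 (2 * ρ * c))) (h02 (ρ * c ^ 2))
    refine Units.ext ?_
    rw [Units.val_mul, Units.val_mul, hwe, transGL_coe, transGL_coe, transGL_coe]
    ext i j; fin_cases i <;> fin_cases j <;>
      simp [Matrix.mul_apply, Matrix.vecMul, dotProduct, Fin.sum_univ_three, transvection, Matrix.single] <;> ring
  have h21' : ∀ c, transGL (show (2 : Fin 3) ≠ 1 by decide) c ∈ G := by
    intro c
    obtain ⟨g, hg, r, s, hge⟩ := hlow c
    convert mul_mem (mul_mem hg (h02 (-s))) (h01 (-r))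
    refine Units.ext ?_
    rw [Units.val_mul, Units.val_mul, hge, transGL_coe, transGL_coe, transGL_coe]
    ext i j; fin_cases i <;> fin_cases j <;>
      simp [Matrix.mul_apply, Matrix.vecMul, dotProduct, Fin.sum_univ_three, transvection, Matrix.single] <;> ring
  obtain ⟨w, hw, hwe⟩ := exists_ow D
  refine (specialLinear_le_iff G).mpr fun i j hij b => ?_
  have conj : ∀ {i j i' j' : Fin 3} (h : i ≠ j) (h' : i' ≠ j') (b' : F),
      (w * transGL h b' * w = transGL h' b) → transGL h b' ∈ G → transGL h' b ∈ G :=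
    fun h h' b' e hm => e ▸ mul_mem (mul_mem hw hm) hw
  fin_cases i <;> fin_cases j <;> first
    | exact absurd rfl hij
    | exact h01 b
    | exact h02 b
    | exact h12 b
    | exact h21' b
    | (refine conj (show (1 : Fin 3) ≠ 2 by decide) hij (-b) (Units.ext ?_) (h12 _)
       rw [Units.val_mul, Units.val_mul, hwe, transGL_coe, transGL_coe]
       ext p q; fin_cases p <;> fin_cases q <;> simp [Matrix.mul_apply, Matrix.vecMul, dotProduct, Fin.sum_univ_three, transvection, Matrix.single]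
       done)
    | (refine conj (show (0 : Fin 3) ≠ 2 by decide) hij b (Units.ext ?_) (h02 _)
       rw [Units.val_mul, Units.val_mul, hwe, transGL_coe, transGL_coe]
       ext p q; fin_cases p <;> fin_cases q <;> simp [Matrix.mul_apply, Matrix.vecMul, dotProduct, Fin.sum_univ_three, transvection, Matrix.single]
       done)

end Cfsg.Agent.Classical.LinThree
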