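/-
Overgroups of the orthogonal group in three dimensions: the conic is preserved or the group is everything.
-/
import Cfsg.Agent.Lib.Classical.LinThree.OrthCoord

set_option autoImplicit false
set_option linter.unusedSectionVars false

namespace Cfsg.Agent.Classical.LinThree

open Matrix Cfsg.Geo
open Cfsg.Agent.Classical

variable {F : Type*} [Field F] [Fintype F]

/-- The polar form in coordinates. -/
def Bc (ρ : F) (x y : Fin 3 → F) : F := x 2 * y 0 + 2 * ρ * (x 1 * y 1) + x 0 * y 2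

variable {ρ : F} {G : Subgroup (GL (Fin 3) F)}

theorem Bc_self (x : Fin 3 → F) : Bc ρ x x = 2 * Qc ρ x := by simp [Bc, Qc]; ring

theorem Qc_add (x y : Fin 3 → F) : Qc ρ (x + y) = Qc ρ x + Qc ρ y + Bc ρ x y := by simp [Bc, Qc]; ring

theorem Qc_smul (c : F) (x : Fin 3 → F) : Qc ρ (c • x) = c ^ 2 * Qc ρ x := by simp [Qc]; ring

theorem exists_refl (D : OData ρ G) {w : Fin 3 → F} (hw : Qc ρ w ≠ 0) :
    ∃ g ∈ G, ∀ z, (g : Matrix (Fin 3) (Fin 3) F) *ᵥ z = -z + (Bc ρ w z / Qc ρ w) • w := by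
  obtain ⟨k, hk⟩ : ∃ k, k = (Qc ρ w)⁻¹ := ⟨_, rfl⟩
  have hk1 : (w 0 * w 2 + ρ * w 1 ^ 2) * k = 1 := by rw [hk]; exact mul_inv_cancel₀ hw
  obtain ⟨M, hM⟩ : ∃ M : Matrix (Fin 3) (Fin 3) F,
      M = !![-1 + k * w 0 * w 2, k * w 0 * (2 * ρ * w 1), k * w 0 * w 0;
        k * w 1 * w 2, -1 + k * w 1 * (2 * ρ * w 1), k * w 1 * w 0;
        k * w 2 * w 2, k * w 2 * (2 * ρ * w 1), -1 + k * w 2 * w 0] := ⟨_, rfl⟩
  have hz : ∀ z, M *ᵥ z = -z + (Bc ρ w z / Qc ρ w) • w := fun z => by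
    rw [div_eq_mul_inv, ← hk, hM]
    ext i; fin_cases i <;> simp [Bc, Matrix.mulVec, dotProduct, Fin.sum_univ_three] <;> ring
  obtain ⟨g, hg, hge⟩ := exists_oiso D M (by rw [hM, det_fin_three]; simp; linear_combination (2 : F) * hk1) (fun x => by
    rw [hz, Qc_add, Qc_smul, show -x = (-1 : F) • x by simp, Qc_smul]
    have : Bc ρ ((-1 : F) • x) ((Bc ρ w x / Qc ρ w) • w) = -(Bc ρ w x / Qc ρ w) * Bc ρ w x := by simp [Bc]; ring
    rw [this]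
    field_simp
    ring)
  exact ⟨g, hg, fun z => by rw [hge]; exact hz z⟩

theorem tangent (D : OData ρ G) (hno : ¬ specialLinear (Fin 3) F ≤ G) {y : GL (Fin 3) F} (hy : y ∈ G)
    (h1 : (y : Matrix (Fin 3) (Fin 3) F) 1 0 = 0) (h2 : (y : Matrix (Fin 3) (Fin 3) F) 2 0 = 0) :
    (y : Matrix (Fin 3) (Fin 3) F) 2 1 = 0 :=
  by_contra fun h => hno (sl_of_fix D hy h1 h2 h)

/-- The image of the first point is singular, up to one exception. -/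
theorem sing_or (D : OData ρ G) (hno : ¬ specialLinear (Fin 3) F ≤ G) {g : GL (Fin 3) F} (hg : g ∈ G) :
    Qc ρ ((g : Matrix (Fin 3) (Fin 3) F) *ᵥ Pi.single 0 1) = 0 ∨
      (Fintype.card F = 3 ∧ Qc ρ ((g : Matrix (Fin 3) (Fin 3) F) *ᵥ Pi.single 0 1) = ρ) := by
  classical
  obtain ⟨v, hv⟩ : ∃ v, v = (g : Matrix (Fin 3) (Fin 3) F) *ᵥ Pi.single 0 1 := ⟨_, rfl⟩
  rw [← hv]
  by_cases hvv : Qc ρ v = 0
  · exact Or.inl hvv
  obtain ⟨ψ, hψ⟩ : ∃ ψ : Fin 3 → F, ψ = fun j => ((g⁻¹ : GL (Fin 3) F) : Matrix (Fin 3) (Fin 3) F) 2 j := ⟨_, rfl⟩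
  have h2r : 2 * ρ ≠ 0 := mul_ne_zero D.two D.rho
  obtain ⟨n, hn⟩ : ∃ n : Fin 3 → F, n = ![ψ 2, ψ 1 / (2 * ρ), ψ 0] := ⟨_, rfl⟩
  have hB : ∀ z, Bc ρ n z = (((g⁻¹ : GL (Fin 3) F) : Matrix (Fin 3) (Fin 3) F) *ᵥ z) 2 := fun z => by
    have h1 : 2 * ρ * (ψ 1 / (2 * ρ) * z 1) = ψ 1 * z 1 := by rw [← mul_assoc, mul_div_cancel₀ _ h2r]
    rw [hn, Bc]
    simp only [Matrix.cons_val_zero, Matrix.cons_val_one, Matrix.cons_val]
    rw [h1, hψ]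
    simp [Matrix.mulVec, dotProduct, Fin.sum_univ_three]
  have hnv : Bc ρ n v = 0 := by rw [hB, hv, gl_inv_mulVec_cancel]; simp
  -- reflections fixing `v` fix `n`
  have key : ∀ w z, Qc ρ w ≠ 0 → Bc ρ w v = 0 → Bc ρ n z = 0 → Bc ρ w z * Bc ρ n w = 0 := by
    intro w z hw hwv hnz
    obtain ⟨x, hx, hxe⟩ := exists_refl D hw
    obtain ⟨y, hy⟩ : ∃ y, y = g⁻¹ * x * g := ⟨_, rfl⟩
    have hyG : y ∈ G := hy ▸ mul_mem (mul_mem (inv_mem hg) hx) hg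
    have hy0 : (y : Matrix (Fin 3) (Fin 3) F) *ᵥ Pi.single 0 1 = (-1 : F) • Pi.single 0 1 := by
      rw [hy, gl_mul_mulVec, gl_mul_mulVec, ← hv, hxe, hwv, zero_div, zero_smul, add_zero, Matrix.mulVec_neg, hv,
        gl_inv_mulVec_cancel, neg_one_smul]
    have h1 : (y : Matrix (Fin 3) (Fin 3) F) 1 0 = 0 := by
      have := congrFun hy0 1
      rw [mulVec_single_one, col_apply] at this
      simpa using this
    have h2 : (y : Matrix (Fin 3) (Fin 3) F) 2 0 = 0 := by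
      have := congrFun hy0 2
      rw [mulVec_single_one, col_apply] at this
      simpa using this
    have h21 := tangent D hno hyG h1 h2
    obtain ⟨t, ht⟩ : ∃ t, t = ((g⁻¹ : GL (Fin 3) F) : Matrix (Fin 3) (Fin 3) F) *ᵥ z := ⟨_, rfl⟩
    have e1 : ((y : Matrix (Fin 3) (Fin 3) F) *ᵥ t) 2 = 0 := by
      have ht2 : t 2 = 0 := by rw [ht, ← hB, hnz]
      simp [Matrix.mulVec, dotProduct, Fin.sum_univ_three, h2, h21, ht2]
    rw [hy, gl_mul_mulVec, gl_mul_mulVec, ht, gl_mulVec_inv_cancel, ← hB, hxe] at e1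
    have : Bc ρ n (-z + (Bc ρ w z / Qc ρ w) • w) = -Bc ρ n z + Bc ρ w z / Qc ρ w * Bc ρ n w := by simp [Bc]; ring
    rw [this, hnz, neg_zero, zero_add, div_mul_eq_mul_div, div_eq_zero_iff, or_iff_left hw] at e1
    exact e1
  have hn0 : n ≠ 0 := fun e => by
    have := hB ((g : Matrix (Fin 3) (Fin 3) F) *ᵥ Pi.single 2 1)
    rw [gl_inv_mulVec_cancel, e] at this
    simp [Bc] at this
  by_cases hnn : Qc ρ n = 0
  · exfalso
    obtain ⟨z₀, hz₀⟩ : ∃ z₀, Bc ρ n z₀ = 1 := ⟨(g : Matrix (Fin 3) (Fin 3) F) *ᵥ Pi.single 2 1, by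
      rw [hB, gl_inv_mulVec_cancel]; simp⟩
    obtain ⟨c, hc⟩ : ∃ c, c = Bc ρ z₀ v / (2 * Qc ρ v) := ⟨_, rfl⟩
    obtain ⟨w₀, hw₀⟩ : ∃ w₀, w₀ = z₀ + (-c) • v := ⟨_, rfl⟩
    have hw0n : Bc ρ n w₀ = 1 := by
      rw [hw₀, show Bc ρ n (z₀ + (-c) • v) = Bc ρ n z₀ - c * Bc ρ n v by simp [Bc]; ring, hz₀, hnv]; ring
    have hw0v : Bc ρ w₀ v = 0 := by
      rw [hw₀, show Bc ρ (z₀ + (-c) • v) v = Bc ρ z₀ v - c * Bc ρ v v by simp [Bc]; ring, Bc_self, hc,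
        div_mul_cancel₀ _ (mul_ne_zero D.two hvv), sub_self]
    obtain ⟨s, hs⟩ : ∃ s : F, Qc ρ w₀ + s ≠ 0 := ⟨1 - Qc ρ w₀, by simp⟩
    have hw : Qc ρ (w₀ + s • n) = Qc ρ w₀ + s := by
      rw [Qc_add, Qc_smul, hnn, show Bc ρ w₀ (s • n) = s * Bc ρ n w₀ by simp [Bc]; ring, hw0n]; ring
    have := key (w₀ + s • n) n (by rw [hw]; exact hs)
      (by rw [show Bc ρ (w₀ + s • n) v = Bc ρ w₀ v + s * Bc ρ n v by simp [Bc]; ring, hw0v, hnv]; ring)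
      (by rw [Bc_self, hnn, mul_zero])
    rw [show Bc ρ (w₀ + s • n) n = Bc ρ n w₀ + s * Bc ρ n n by simp [Bc]; ring,
      show Bc ρ n (w₀ + s • n) = Bc ρ n w₀ + s * Bc ρ n n by simp [Bc]; ring, Bc_self, hnn, hw0n] at this
    simp at this
  obtain ⟨m, hm⟩ : ∃ m : Fin 3 → F, m = ![2 * ρ * v 1 * n 0 - v 0 * (2 * ρ * n 1), v 0 * n 2 - v 2 * n 0,
      v 2 * (2 * ρ * n 1) - 2 * ρ * v 1 * n 2] := ⟨_, rfl⟩
  have hnm : Bc ρ n m = 0 := by simp [hm, Bc]; ring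
  have hvm : Bc ρ v m = 0 := by simp [hm, Bc]; ring
  have hQm : Qc ρ m = -(4 * ρ * Qc ρ v * Qc ρ n) + ρ * Bc ρ n v ^ 2 := by simp [hm, Bc, Qc]; ring
  rw [hnv] at hQm
  by_cases hk : ∃ k : F, k ≠ 0 ∧ Qc ρ n + k ^ 2 * Qc ρ m ≠ 0
  · exfalso
    obtain ⟨k, hk0, hk⟩ := hk
    have hw : Qc ρ (n + k • m) = Qc ρ n + k ^ 2 * Qc ρ m := by
      rw [Qc_add, Qc_smul, show Bc ρ n (k • m) = k * Bc ρ n m by simp [Bc]; ring, hnm]; ring
    have := key (n + k • m) m (by rw [hw]; exact hk)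
      (by rw [show Bc ρ (n + k • m) v = Bc ρ n v + k * Bc ρ v m by simp [Bc]; ring, hnv, hvm]; ring) hnm
    rw [show Bc ρ (n + k • m) m = Bc ρ n m + k * Bc ρ m m by simp [Bc]; ring,
      show Bc ρ n (n + k • m) = Bc ρ n n + k * Bc ρ n m by simp [Bc]; ring, hnm, Bc_self, Bc_self, hQm] at this
    simp [hk0, hnn, hvv, D.two, D.rho] at this
    exact D.two (mul_self_eq_zero.mp (by linear_combination this))
  push Not at hk
  have h1 := hk 1 one_ne_zero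
  have hsq : ∀ k : F, k ≠ 0 → k ^ 2 = 1 := fun k hk0 => by
    have h := hk k hk0
    have hm0 : Qc ρ m ≠ 0 := fun e => hnn (by rw [e] at h1; linear_combination h1)
    exact mul_right_cancel₀ hm0 (by linear_combination h - h1)
  have h3 : Fintype.card F = 3 := by
    have hcard : Fintype.card F ≤ 3 := by
      have hsub : (Finset.univ : Finset F) ⊆ {0, 1, -1} := fun k _ => by
        by_cases hk0 : k = 0
        · simp [hk0]
        · rcases sq_eq_one_iff.mp (hsq k hk0) with h | h <;> simp [h]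
      exact (Finset.card_le_card hsub).trans Finset.card_le_three
    have h1lt : 1 < Fintype.card F := Fintype.one_lt_card
    have : Fintype.card F ≠ 2 := fun e => D.two (by
      have := FiniteField.cast_card_eq_zero F
      rwa [e] at this)
    omega
  have h3' : (3 : F) = 0 := by
    have := FiniteField.cast_card_eq_zero F
    rwa [h3] at this
  refine Or.inr ⟨h3, ?_⟩
  rw [hQm] at h1
  have e : Qc ρ n * (1 - ρ * Qc ρ v) = 0 := by linear_combination h1 + ρ * Qc ρ v * Qc ρ n * h3'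
  have e' := (mul_eq_zero.mp e).resolve_left hnn
  linear_combination (-ρ) * e' - Qc ρ v * hsq ρ D.rho

/-- Either every element is a similarity or the group is everything. -/
theorem similar_of_sing (D : OData ρ G) (hno : ¬ specialLinear (Fin 3) F ≤ G)
    (hs : ∀ g ∈ G, Qc ρ ((g : Matrix (Fin 3) (Fin 3) F) *ᵥ Pi.single 0 1) = 0) {g : GL (Fin 3) F} (hg : g ∈ G) :
    ∃ c : F, c ≠ 0 ∧ ∀ x, Qc ρ ((g : Matrix (Fin 3) (Fin 3) F) *ᵥ x) = c * Qc ρ x := by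
  obtain ⟨w, hw, hwe⟩ := exists_ow D
  have hQ : ∀ a x, a ∈ G → (∀ y, Qc ρ ((a : Matrix (Fin 3) (Fin 3) F) *ᵥ y) = Qc ρ y) →
      Qc ρ (((a⁻¹ : GL (Fin 3) F) : Matrix (Fin 3) (Fin 3) F) *ᵥ x) = Qc ρ x := fun a x _ h => by
    rw [← h, gl_mulVec_inv_cancel]
  have hu : ∀ a : F, ∃ u ∈ G, (u : Matrix (Fin 3) (Fin 3) F) = !![1, -2 * ρ * a, -(ρ * a ^ 2); 0, 1, a; 0, 0, 1] ∧
      ∀ y, Qc ρ ((u : Matrix (Fin 3) (Fin 3) F) *ᵥ y) = Qc ρ y := fun a => by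
    obtain ⟨u, hu, hue⟩ := exists_ou D a
    exact ⟨u, hu, hue, fun y => by rw [hue]; simp [Qc, Matrix.mulVec, dotProduct, Fin.sum_univ_three]; ring⟩
  have hwQ : ∀ y, Qc ρ ((w : Matrix (Fin 3) (Fin 3) F) *ᵥ y) = Qc ρ y := fun y => by
    rw [hwe]; simp [Qc, Matrix.mulVec, dotProduct, Fin.sum_univ_three]; ring
  -- bring the first point home
  obtain ⟨s, hsG, hsQ, hs0⟩ : ∃ s ∈ G, (∀ y, Qc ρ ((s : Matrix (Fin 3) (Fin 3) F) *ᵥ y) = Qc ρ y) ∧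
      (((s * g : GL (Fin 3) F) : Matrix (Fin 3) (Fin 3) F) 1 0 = 0 ∧
        ((s * g : GL (Fin 3) F) : Matrix (Fin 3) (Fin 3) F) 2 0 = 0) := by
    have h := hs g hg
    rw [mulVec_single_one, Qc] at h
    simp only [col_apply] at h
    by_cases h2 : (g : Matrix (Fin 3) (Fin 3) F) 2 0 = 0
    · rw [h2, mul_zero, zero_add, mul_eq_zero, or_iff_right D.rho] at h
      exact ⟨1, one_mem _, fun y => by simp, by rw [one_mul]; exact pow_eq_zero_iff two_ne_zero |>.mp h,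
        by rw [one_mul]; exact h2⟩
    · obtain ⟨a, ha⟩ : ∃ a, a = -((g : Matrix (Fin 3) (Fin 3) F) 1 0 / (g : Matrix (Fin 3) (Fin 3) F) 2 0) := ⟨_, rfl⟩
      obtain ⟨u, huG, hue, huQ⟩ := hu a
      refine ⟨w * u, mul_mem hw huG, fun y => by rw [gl_mul_mulVec, hwQ, huQ], ?_, ?_⟩ <;>
        simp [hwe, hue, Matrix.mul_apply, Fin.sum_univ_three, ha]
      · field_simp; ring
      · field_simp
        linear_combination h
  obtain ⟨g₁, hg₁⟩ : ∃ g₁, g₁ = s * g := ⟨_, rfl⟩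
  rw [← hg₁] at hs0
  have hg₁G : g₁ ∈ G := hg₁ ▸ mul_mem hsG hg
  have h121 := tangent D hno hg₁G hs0.1 hs0.2
  have hdet := det_gl_of_mem_specialLinear (D.sl hg₁G)
  have h22 : (g₁ : Matrix (Fin 3) (Fin 3) F) 2 2 ≠ 0 := fun e => by
    rw [det_fin_three, hs0.1, hs0.2, h121, e] at hdet
    simp at hdet
  -- and the last one
  obtain ⟨a, ha⟩ : ∃ a, a = -((g₁ : Matrix (Fin 3) (Fin 3) F) 1 2 / (g₁ : Matrix (Fin 3) (Fin 3) F) 2 2) := ⟨_, rfl⟩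
  obtain ⟨u, huG, hue, huQ⟩ := hu a
  obtain ⟨g₂, hg₂⟩ : ∃ g₂, g₂ = u * g₁ := ⟨_, rfl⟩
  have hg₂G : g₂ ∈ G := hg₂ ▸ mul_mem huG hg₁G
  obtain ⟨A, B, E, C, hg₂e, hC⟩ : ∃ A B E C : F,
      (g₂ : Matrix (Fin 3) (Fin 3) F) = !![A, B, E; 0, (g₁ : Matrix (Fin 3) (Fin 3) F) 1 1, 0; 0, 0, C] ∧ C ≠ 0 := by
    refine ⟨(g₂ : Matrix (Fin 3) (Fin 3) F) 0 0, (g₂ : Matrix (Fin 3) (Fin 3) F) 0 1,
      (g₂ : Matrix (Fin 3) (Fin 3) F) 0 2, (g₁ : Matrix (Fin 3) (Fin 3) F) 2 2, ?_, h22⟩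
    ext i j; fin_cases i <;> fin_cases j <;> simp [hg₂, hue, Matrix.mul_apply, Fin.sum_univ_three, hs0, h121, ha]
    field_simp; ring
  have hE : E = 0 := by
    have h := hs (g₂ * w) (mul_mem hg₂G hw)
    rw [gl_mul_mulVec, hwe, hg₂e] at h
    simpa [Qc, Matrix.mulVec, dotProduct, Fin.sum_univ_three, hC] using h
  subst hE
  have hB : B = 0 := by
    have h := tangent D hno (mul_mem (mul_mem hw hg₂G) hw)
      (by simp [hwe, hg₂e, Matrix.mul_apply, Fin.sum_univ_three])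
      (by simp [hwe, hg₂e, Matrix.mul_apply, Fin.sum_univ_three])
    simpa [hwe, hg₂e, Matrix.mul_apply, Fin.sum_univ_three] using h
  subst hB
  obtain ⟨M, hM⟩ : ∃ M, M = (g₁ : Matrix (Fin 3) (Fin 3) F) 1 1 := ⟨_, rfl⟩
  rw [← hM] at hg₂e
  have hdet₂ := det_gl_of_mem_specialLinear (D.sl hg₂G)
  rw [hg₂e, det_fin_three] at hdet₂
  simp at hdet₂
  obtain ⟨u1, hu1G, hu1e, -⟩ := hu 1
  have hrel : ρ * (M ^ 2 - A * C) = 0 := by
    have h := hs (g₂ * u1 * w) (mul_mem (mul_mem hg₂G hu1G) hw)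
    rw [gl_mul_mulVec, gl_mul_mulVec, hwe, hu1e, hg₂e] at h
    simp [Qc, Matrix.mulVec, dotProduct, Fin.sum_univ_three] at h
    linear_combination h
  have hrel' := (mul_eq_zero.mp hrel).resolve_left D.rho
  refine ⟨M ^ 2, fun e => ?_, fun x => ?_⟩
  · rw [pow_eq_zero_iff two_ne_zero] at e
    simp [e] at hdet₂
  · have h : Qc ρ ((g₂ : Matrix (Fin 3) (Fin 3) F) *ᵥ x) = M ^ 2 * Qc ρ x := by
      rw [hg₂e]
      simp [Qc, Matrix.mulVec, dotProduct, Fin.sum_univ_three]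
      linear_combination (-(x 0 * x 2)) * hrel'
    rw [← h, hg₂, hg₁, gl_mul_mulVec, gl_mul_mulVec, huQ, hsQ]

end Cfsg.Agent.Classical.LinThree
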