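/-
Overgroups of the orthogonal group in three dimensions: the exception in the field with three elements is empty.
-/
import Cfsg.Agent.Lib.Classical.LinThree.OrthTrans

set_option autoImplicit false
set_option linter.unusedSectionVars false

namespace Cfsg.Agent.Classical.LinThree

open Matrix Cfsg.Geo
open Cfsg.Agent.Classical

variable {F : Type*} [Field F] [Fintype F] {ρ : F} {G : Subgroup (GL (Fin 3) F)}

/-- The orthogonal orbit of the middle point. -/
theorem reach_mid (D : OData ρ G) {x : Fin 3 → F} (hx : Qc ρ x = ρ) :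
    ∃ s ∈ G, (s : Matrix (Fin 3) (Fin 3) F) *ᵥ Pi.single 1 1 = x := by
  have h2r : 2 * ρ ≠ 0 := mul_ne_zero D.two D.rho
  obtain ⟨w, hw, hwe⟩ := exists_ow D
  rw [Qc] at hx
  by_cases h2 : x 2 = 0
  · have h1 : x 1 ^ 2 = 1 := mul_left_cancel₀ D.rho (by linear_combination hx - x 0 * h2)
    obtain ⟨u, hu, hue⟩ := exists_ou D (-(x 0 * x 1) / (2 * ρ))
    have hk : -(x 0 * x 1) / (2 * ρ) * (2 * ρ) = -(x 0 * x 1) := div_mul_cancel₀ _ h2r
    rcases sq_eq_one_iff.mp h1 with h | h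
    · refine ⟨u, hu, ?_⟩
      rw [h] at hk
      rw [hue]; ext i; fin_cases i <;> simp [h, h2]
      linear_combination -hk
    · refine ⟨u * w, mul_mem hu hw, ?_⟩
      rw [h] at hk
      rw [gl_mul_mulVec, hwe, hue]
      ext i; fin_cases i <;> simp [Matrix.mulVec, dotProduct, Fin.sum_univ_three, h, h2]
      linear_combination hk
  · obtain ⟨u, hu, hue⟩ := exists_ou D (-1)
    obtain ⟨u', hu', hu'e⟩ := exists_ou D (1 / (2 * ρ))
    obtain ⟨h, hh, hhe⟩ := exists_oh D (l := (x 2)⁻¹) (inv_ne_zero h2)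
    obtain ⟨v, hv, hve⟩ := exists_ou D (x 1 / x 2)
    refine ⟨v * h * (u * w * u' * w), mul_mem (mul_mem hv hh) (mul_mem (mul_mem (mul_mem hu hw) hu') hw), ?_⟩
    have hk : 2 * ρ * (1 / (2 * ρ)) = 1 := mul_div_cancel₀ _ h2r
    have e0 : ((u * w * u' * w : GL (Fin 3) F) : Matrix (Fin 3) (Fin 3) F) *ᵥ Pi.single 1 1 = ![ρ, 0, 1] := by
      rw [gl_mul_mulVec, gl_mul_mulVec, gl_mul_mulVec, hwe, hue, hu'e]
      ext i; fin_cases i <;> simp [Matrix.mulVec, dotProduct, Fin.sum_univ_three]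
      · linear_combination (-ρ) * hk
      · linear_combination -hk
      · linear_combination hk
    rw [gl_mul_mulVec, gl_mul_mulVec, e0, hhe, hve]
    ext i; fin_cases i <;> simp [Matrix.mulVec, dotProduct, Fin.sum_univ_three, h2]
    field_simp
    linear_combination -hx

/-- The orthogonal orbit of the first point. -/
theorem reach_first (D : OData ρ G) {x : Fin 3 → F} (hx : Qc ρ x = 0) (hx0 : x ≠ 0) :
    ∃ s ∈ G, (s : Matrix (Fin 3) (Fin 3) F) *ᵥ Pi.single 0 1 = x := by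
  rw [Qc] at hx
  by_cases h2 : x 2 = 0
  · have h1 : x 1 = 0 := pow_eq_zero_iff two_ne_zero |>.mp (mul_left_cancel₀ D.rho (by linear_combination hx - x 0 * h2))
    have h0 : x 0 ≠ 0 := fun e => hx0 (by ext i; fin_cases i <;> assumption)
    obtain ⟨h, hh, hhe⟩ := exists_oh D h0
    refine ⟨h, hh, ?_⟩
    rw [hhe]; ext i; fin_cases i <;> simp [h1, h2]
  · obtain ⟨w, hw, hwe⟩ := exists_ow D
    obtain ⟨h, hh, hhe⟩ := exists_oh D h2
    obtain ⟨v, hv, hve⟩ := exists_ou D (x 1 / x 2)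
    refine ⟨v * w * h, mul_mem (mul_mem hv hw) hh, ?_⟩
    rw [gl_mul_mulVec, gl_mul_mulVec, hhe, hwe, hve]
    ext i; fin_cases i <;> simp [Matrix.mulVec, dotProduct, Fin.sum_univ_three, h2]
    field_simp
    linear_combination -hx

theorem count_three : ∀ r : ZMod 3, r ≠ 0 → (Finset.univ.filter fun x : Fin 3 → ZMod 3 =>
    x ≠ 0 ∧ (x 0 * x 2 + r * x 1 ^ 2 = 0 ∨ x 0 * x 2 + r * x 1 ^ 2 = r)).card = 20 := by decide

/-- In a proper overgroup every image of the first point is singular. -/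
theorem all_sing (D : OData ρ G) (hno : ¬ specialLinear (Fin 3) F ≤ G) :
    ∀ g ∈ G, Qc ρ ((g : Matrix (Fin 3) (Fin 3) F) *ᵥ Pi.single 0 1) = 0 := by
  classical
  intro g hg
  rcases sing_or D hno hg with h | ⟨h3, hgρ⟩
  · exact h
  exfalso
  letI : MulAction G (Fin 3 → F) :=
    { smul := fun a v => ((a : GL (Fin 3) F) : Matrix (Fin 3) (Fin 3) F) *ᵥ v
      one_smul := fun v => Matrix.one_mulVec v
      mul_smul := fun a b v => gl_mul_mulVec (a : GL (Fin 3) F) b v }
  obtain ⟨t, ht, hte⟩ := reach_mid D hgρ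
  have horb : ∀ x : Fin 3 → F,
      x ∈ MulAction.orbit G (Pi.single 0 1 : Fin 3 → F) ↔ (x ≠ 0 ∧ (Qc ρ x = 0 ∨ Qc ρ x = ρ)) := by
    intro x
    constructor
    · rintro ⟨a, rfl⟩
      refine ⟨fun e => ?_, ?_⟩
      · exact one_ne_zero (α := F) (by
          simpa using congrFun (gl_mulVec_injective (a : GL (Fin 3) F) (a₁ := Pi.single 0 1) (a₂ := 0)
            (e.trans (Matrix.mulVec_zero _).symm)) 0)
      · rcases sing_or D hno a.2 with h | ⟨-, h⟩
        · exact Or.inl h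
        · exact Or.inr h
    · rintro ⟨hx0, hx | hx⟩
      · obtain ⟨s, hs, hse⟩ := reach_first D hx hx0
        exact ⟨⟨s, hs⟩, hse⟩
      · obtain ⟨s, hs, hse⟩ := reach_mid D hx
        refine ⟨⟨s * t⁻¹ * g, mul_mem (mul_mem hs (inv_mem ht)) hg⟩, ?_⟩
        show ((s * t⁻¹ * g : GL (Fin 3) F) : Matrix (Fin 3) (Fin 3) F) *ᵥ Pi.single 0 1 = x
        rw [gl_mul_mulVec, gl_mul_mulVec, ← hte, gl_inv_mulVec_cancel, hse]
  haveI hp3 : Fact (Nat.Prime 3) := ⟨Nat.prime_three⟩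
  have e : F ≃+* ZMod 3 := (ZMod.ringEquivOfPrime F Nat.prime_three h3).symm
  have hcard : Nat.card (MulAction.orbit G (Pi.single 0 1 : Fin 3 → F)) = 20 := by
    rw [← count_three (e ρ) (by simpa using D.rho), ← Nat.card_eq_finsetCard]
    refine Nat.card_congr (Equiv.subtypeEquiv (Equiv.arrowCongr (Equiv.refl _) e.toEquiv) fun x => ?_)
    rw [Finset.mem_filter, horb]
    have hq : ∀ z : F, e (Qc ρ x) = e z ↔ Qc ρ x = z := fun z => e.injective.eq_iff
    rw [← hq 0, ← hq ρ, map_zero]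
    simp [Qc, Equiv.arrowCongr, funext_iff, e.injective.eq_iff]
  have hdvd : 20 ∣ Nat.card (GL (Fin 3) F) := by
    refine dvd_trans ?_ (Subgroup.card_subgroup_dvd_card G)
    rw [← hcard, Nat.card_congr (MulAction.orbitEquivQuotientStabilizer G (Pi.single 0 1 : Fin 3 → F))]
    exact (MulAction.stabilizer G (Pi.single 0 1 : Fin 3 → F)).index_dvd_card
  rw [Matrix.card_GL_field, h3] at hdvd
  simp [Fin.prod_univ_three] at hdvd

end Cfsg.Agent.Classical.LinThree
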