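/-
Three-dimensional quadratic spaces in odd characteristic: adapted bases.
-/
import Cfsg.Agent.Lib.Classical.OrthogonalGroup
import Cfsg.Agent.Lib.Classical.LinMaximal

set_option autoImplicit false
set_option linter.unusedSectionVars false
set_option linter.style.haveILetI false

namespace Cfsg.Agent.Classical.OSimThree

open Matrix Cfsg.Geo
open Cfsg.Agent.Classical

universe u

variable {ι : Type} [Fintype ι] [DecidableEq ι] {F : Type u} [Field F] {Q : (ι → F) → F}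

/-- The polar form. -/
local notation "⟪" x ", " y "⟫" => QuadraticMap.polar Q x y

/-- A non-degenerate quadratic form in odd characteristic and dimension three. -/
structure Data (Q : (ι → F) → F) : Prop where
  hQ : IsNondegenerateQuadraticForm Q
  h2 : (2 : F) ≠ 0
  hn : Fintype.card ι = 3

variable (Δ : Data Q)

include Δ

theorem symm (x y : ι → F) : ⟪x, y⟫ = ⟪y, x⟫ := QuadraticMap.polar_comm _ _ _

theorem add_left (x y z : ι → F) : ⟪x + y, z⟫ = ⟪x, z⟫ + ⟪y, z⟫ := Δ.hQ.polar_bilinear.add_left x y z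

theorem smul_left (c : F) (x z : ι → F) : ⟪c • x, z⟫ = c * ⟪x, z⟫ := Δ.hQ.polar_bilinear.smul_left c x z

theorem add_right (x y z : ι → F) : ⟪x, y + z⟫ = ⟪x, y⟫ + ⟪x, z⟫ := Δ.hQ.polar_bilinear.add_right x y z

theorem smul_right (c : F) (x z : ι → F) : ⟪x, c • z⟫ = c * ⟪x, z⟫ := Δ.hQ.polar_bilinear.smul_right c x z

theorem zero_left (z : ι → F) : ⟪0, z⟫ = 0 := by rw [← zero_smul F (0 : ι → F), smul_left Δ, zero_mul]

theorem zero_right (z : ι → F) : ⟪z, 0⟫ = 0 := by rw [← zero_smul F (0 : ι → F), smul_right Δ, zero_mul]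

theorem neg_left (x z : ι → F) : ⟪-x, z⟫ = -⟪x, z⟫ := by rw [← neg_one_smul F x, smul_left Δ, neg_one_mul]

theorem neg_right (x z : ι → F) : ⟪x, -z⟫ = -⟪x, z⟫ := by rw [← neg_one_smul F z, smul_right Δ, neg_one_mul]

theorem sub_left (x y z : ι → F) : ⟪x - y, z⟫ = ⟪x, z⟫ - ⟪y, z⟫ := by
  rw [sub_eq_add_neg, add_left Δ, neg_left Δ, sub_eq_add_neg]

theorem sub_right (x y z : ι → F) : ⟪x, y - z⟫ = ⟪x, y⟫ - ⟪x, z⟫ := by
  rw [sub_eq_add_neg, add_right Δ, neg_right Δ, sub_eq_add_neg]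

theorem quad_sum (x y : ι → F) : Q (x + y) = Q x + Q y + ⟪x, y⟫ := quad_add x y

theorem quad_smul (c : F) (x : ι → F) : Q (c • x) = c ^ 2 * Q x := Δ.hQ.smul c x

theorem self_eq (x : ι → F) : ⟪x, x⟫ = 2 * Q x := polar_self_eq Δ.hQ x

theorem self_zero {x : ι → F} (h : Q x = 0) : ⟪x, x⟫ = 0 := by rw [self_eq Δ, h, mul_zero]

theorem quad_zero' : Q 0 = 0 := quad_zero Δ.hQ

theorem finrank_space : Module.finrank F (ι → F) = Fintype.card ι := Module.finrank_fintype_fun_eq_card F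

/-- The form as a linear equivalence with the dual. -/
theorem exists_toDual : ∃ L : (ι → F) →ₗ[F] Module.Dual F (ι → F),
    (∀ x y, L x y = ⟪x, y⟫) ∧ Function.Bijective L := by
  refine ⟨LinearMap.mk₂ F (QuadraticMap.polar Q) (add_left Δ) (smul_left Δ) (add_right Δ) (smul_right Δ),
    fun x y => rfl, ?_⟩
  have hinj : Function.Injective
      (LinearMap.mk₂ F (QuadraticMap.polar Q) (add_left Δ) (smul_left Δ) (add_right Δ) (smul_right Δ)) := by
    rw [← LinearMap.ker_eq_bot, LinearMap.ker_eq_bot']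
    intro v hv
    by_contra hv0
    obtain ⟨x, hx⟩ := (Δ.hQ.nondegenerate v hv0).1
    apply hx
    have h := LinearMap.congr_fun hv x
    rw [symm Δ]
    exact h
  exact ⟨hinj, (LinearMap.injective_iff_surjective_of_finrank_eq_finrank
    (Subspace.dual_finrank_eq).symm).mp hinj⟩

theorem eq_zero_of_perp {v : ι → F} (h : ∀ x, ⟪x, v⟫ = 0) : v = 0 := by
  by_contra hv
  obtain ⟨x, hx⟩ := (Δ.hQ.nondegenerate v hv).1
  exact hx (h x)

theorem eq_of_pairing {v w : ι → F} (h : ∀ x, ⟪x, v⟫ = ⟪x, w⟫) : v = w := by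
  refine sub_eq_zero.mp (eq_zero_of_perp Δ fun x => ?_)
  rw [sub_right Δ, h, sub_self]

/-- Every functional is given by a vector. -/
theorem exists_rep (φ : (ι → F) →ₗ[F] F) : ∃ a, ∀ x, ⟪x, a⟫ = φ x := by
  obtain ⟨L, hL, hb⟩ := exists_toDual Δ
  obtain ⟨a, ha⟩ := hb.2 φ
  exact ⟨a, fun x => by rw [symm Δ, ← hL, ha]⟩

/-- A vector outside a span is separated from it. -/
theorem exists_sep {k : ℕ} {s : Fin k → ι → F} {a : ι → F} (ha : a ∉ Submodule.span F (Set.range s)) :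
    ∃ x, (∀ i, ⟪x, s i⟫ = 0) ∧ ⟪x, a⟫ = 1 := by
  obtain ⟨L, hL, hb⟩ := exists_toDual Δ
  obtain ⟨φ, hφ, hH⟩ := Submodule.exists_dual_map_eq_bot_of_notMem ha inferInstance
  obtain ⟨x, hx⟩ := hb.2 ((φ a)⁻¹ • φ)
  refine ⟨x, fun i => ?_, ?_⟩
  · have h : φ (s i) ∈ (Submodule.span F (Set.range s)).map φ :=
      Submodule.mem_map_of_mem (Submodule.subset_span ⟨i, rfl⟩)
    rw [hH, Submodule.mem_bot] at h
    rw [← hL, hx, LinearMap.smul_apply, h, smul_zero]
  · rw [← hL, hx, LinearMap.smul_apply, smul_eq_mul, inv_mul_cancel₀ hφ]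

/-- The subspace orthogonal to a few vectors is large. -/
theorem exists_perpSpace {k : ℕ} (s : Fin k → ι → F) :
    ∃ U : Submodule F (ι → F), (∀ x ∈ U, ∀ i, ⟪x, s i⟫ = 0) ∧ Fintype.card ι ≤ Module.finrank F U + k := by
  let M : (ι → F) →ₗ[F] (Fin k → F) :=
    { toFun := fun x i => ⟪x, s i⟫
      map_add' := fun x y => funext fun i => add_left Δ x y (s i)
      map_smul' := fun c x => funext fun i => smul_left Δ c x (s i) }
  refine ⟨LinearMap.ker M, fun x hx i => ?_, ?_⟩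
  · exact congrFun (LinearMap.mem_ker.mp hx) i
  · have h := LinearMap.finrank_range_add_finrank_ker M
    have h' := Submodule.finrank_le (LinearMap.range M)
    rw [Module.finrank_fin_fun] at h'
    rw [finrank_space Δ] at h
    omega

/-- A vector orthogonal to a few vectors, outside the span of a few others. -/
theorem exists_perp {k l : ℕ} (s : Fin k → ι → F) (t : Fin l → ι → F) (h : k + l < Fintype.card ι) :
    ∃ a, (∀ i, ⟪a, s i⟫ = 0) ∧ a ∉ Submodule.span F (Set.range t) := by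
  obtain ⟨U, hU, hd⟩ := exists_perpSpace Δ s
  by_contra hc
  push Not at hc
  have hle : U ≤ Submodule.span F (Set.range t) := fun a ha => hc a (hU a ha)
  have h1 := Submodule.finrank_mono hle
  have h2 : Module.finrank F (Submodule.span F (Set.range t)) ≤ Fintype.card (Fin l) := finrank_range_le_card t
  rw [Fintype.card_fin] at h2
  omega

/-- An anisotropic vector orthogonal to a few vectors. -/
theorem exists_aniso {k : ℕ} (s : Fin k → ι → F) (h : 2 * k < Fintype.card ι) :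
    ∃ d, Q d ≠ 0 ∧ ∀ i, ⟪d, s i⟫ = 0 := by
  obtain ⟨U, hU, hd⟩ := exists_perpSpace Δ s
  obtain ⟨L, hL, hb⟩ := exists_toDual Δ
  by_contra hc
  have hQ0 : ∀ x ∈ U, Q x = 0 := fun x hx => by
    by_contra hne
    exact hc ⟨x, hne, hU x hx⟩
  have hle : U.map L ≤ U.dualAnnihilator := by
    rintro _ ⟨x, hx, rfl⟩
    rw [Submodule.mem_dualAnnihilator]
    intro y hy
    have := quad_sum Δ x y
    rw [hQ0 x hx, hQ0 y hy, hQ0 _ (add_mem hx hy), zero_add, zero_add] at this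
    rw [hL, this.symm]
  have h1 := Submodule.finrank_mono hle
  rw [← (Submodule.equivMapOfInjective L hb.1 U).finrank_eq] at h1
  have h2 := Subspace.finrank_add_finrank_dualAnnihilator_eq U
  rw [finrank_space Δ] at h2
  omega


theorem not_mem_span {a : ι → F} (h : a ≠ 0) : a ∉ Submodule.span F (Set.range (![] : Fin 0 → ι → F)) := by
  simpa [Matrix.range_empty] using h

theorem exists_partner {z : ι → F} (hz : Q z = 0) (hz0 : z ≠ 0) : ∃ z', Q z' = 0 ∧ ⟪z, z'⟫ = 1 := by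
  obtain ⟨y, -, hy⟩ := exists_sep Δ (not_mem_span Δ hz0)
  refine ⟨y + (-Q y) • z, ?_, ?_⟩
  · rw [quad_sum Δ, quad_smul Δ, hz, smul_right Δ, hy]; ring
  · rw [add_right Δ, smul_right Δ, self_zero Δ hz, symm Δ z y, hy]; ring


variable [Fintype F]

theorem exists_singular : ∃ z, Q z = 0 ∧ z ≠ 0 := by
  obtain ⟨a, ha, -⟩ := exists_aniso Δ (![] : Fin 0 → ι → F) (by rw [Δ.hn]; norm_num)
  obtain ⟨b, hb, hab⟩ := exists_aniso Δ ![a] (by rw [Δ.hn]; norm_num)
  obtain ⟨d, hd, hd0'⟩ := exists_perp Δ ![a, b] (![] : Fin 0 → ι → F) (by rw [Δ.hn]; norm_num)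
  have hd0 : d ≠ 0 := fun e => hd0' (e ▸ zero_mem _)
  have hda : ⟪d, a⟫ = 0 := hd 0
  have hdb : ⟪d, b⟫ = 0 := hd 1
  have hba : ⟪b, a⟫ = 0 := hab 0
  by_cases hQd : Q d = 0
  · exact ⟨d, hQd, hd0⟩
  obtain ⟨s, r, hsr⟩ := FiniteField.exists_root_sum_quadratic (R := F)
    (f := Polynomial.C (Q a) * Polynomial.X ^ 2)
    (g := Polynomial.C (Q b) * Polynomial.X ^ 2 + Polynomial.C (Q d))
    (Polynomial.degree_C_mul_X_pow 2 ha)
    (by rw [Polynomial.degree_add_C (by rw [Polynomial.degree_C_mul_X_pow 2 hb]; norm_num),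
      Polynomial.degree_C_mul_X_pow 2 hb]; rfl)
    (FiniteField.odd_card_of_char_ne_two fun hc => Δ.h2 (by
      haveI := ringChar.of_eq hc
      exact CharTwo.two_eq_zero))
  simp only [Polynomial.eval_mul, Polynomial.eval_C, Polynomial.eval_pow, Polynomial.eval_X,
    Polynomial.eval_add] at hsr
  refine ⟨s • a + r • b + d, ?_, fun e => hQd ?_⟩
  · simp only [quad_sum Δ, quad_smul Δ, add_left Δ, smul_left Δ, smul_right Δ, symm Δ a b, hba, symm Δ a d, hda,
      symm Δ b d, hdb]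
    linear_combination hsr
  · have := congrArg (fun w => ⟪w, d⟫) e
    simp only [add_left Δ, smul_left Δ, symm Δ a d, hda, symm Δ b d, hdb, self_eq Δ, zero_left Δ] at this
    exact (mul_eq_zero.mp (by linear_combination this : (2 : F) * Q d = 0)).resolve_left Δ.h2

/-- An adapted basis. -/
theorem exists_coords : ∃ (ρ : F) (P : GL ι F) (e : ι ≃ Fin 3), ρ ≠ 0 ∧
    ∀ x, Q ((P : Matrix ι ι F) *ᵥ x) = x (e.symm 0) * x (e.symm 2) + ρ * x (e.symm 1) ^ 2 := by
  classical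
  obtain ⟨z, hz, hz0⟩ := exists_singular Δ
  obtain ⟨z', hz', hzz⟩ := exists_partner Δ hz hz0
  obtain ⟨m, hm, hm0'⟩ := exists_perp Δ ![z, z'] (![] : Fin 0 → ι → F) (by rw [Δ.hn]; norm_num)
  have hm0 : m ≠ 0 := fun e => hm0' (e ▸ zero_mem _)
  have hmz : ⟪m, z⟫ = 0 := hm 0
  have hmz' : ⟪m, z'⟫ = 0 := hm 1
  obtain ⟨e⟩ : Nonempty (ι ≃ Fin 3) := ⟨Fintype.equivFinOfCardEq Δ.hn⟩
  let M : Matrix ι ι F := Matrix.of fun i j => ![z i, m i, z' i] (e j)
  have hM : ∀ x : ι → F, M *ᵥ x = x (e.symm 0) • z + x (e.symm 1) • m + x (e.symm 2) • z' := fun x => by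
    funext i
    rw [Matrix.mulVec, dotProduct, ← e.symm.sum_comp, Fin.sum_univ_three]
    simp [M]
    ring
  have hz'm : ⟪z', m⟫ = 0 := by rw [symm Δ, hmz']
  have hzm : ⟪z, m⟫ = 0 := by rw [symm Δ, hmz]
  have hpair : ∀ x : ι → F, ⟪M *ᵥ x, z'⟫ = x (e.symm 0) ∧ ⟪M *ᵥ x, z⟫ = x (e.symm 2) ∧
      ⟪M *ᵥ x, m⟫ = x (e.symm 1) * ⟪m, m⟫ := fun x => by
    rw [hM]
    simp only [add_left Δ, smul_left Δ, hzz, hmz, hmz', hzm, hz'm, self_zero Δ hz, self_zero Δ hz',
      show ⟪z', z⟫ = 1 by rw [symm Δ, hzz]]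
    refine ⟨?_, ?_, ?_⟩ <;> ring
  have hsurj : ∀ y : ι → F, ∃ x, M *ᵥ x = y := by
    -- the three vectors span
    have hind : LinearIndependent F ![z, m, z'] := by
      rw [Fintype.linearIndependent_iff]
      intro g hg
      simp only [Fin.sum_univ_three, Matrix.cons_val_zero, Matrix.cons_val_one, Matrix.cons_val] at hg
      have h : ∀ w, g 0 * ⟪z, w⟫ + g 1 * ⟪m, w⟫ + g 2 * ⟪z', w⟫ = 0 := fun w => by
        rw [← smul_left Δ, ← smul_left Δ, ← smul_left Δ, ← add_left Δ, ← add_left Δ, hg, zero_left Δ]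
      have h0 : g 0 = 0 := by simpa [hzz, hmz', self_zero Δ hz'] using h z'
      have h2 : g 2 = 0 := by simpa [self_zero Δ hz, hmz, show ⟪z', z⟫ = 1 by rw [symm Δ, hzz]] using h z
      have h1 : g 1 = 0 := by
        rw [h0, h2, zero_smul, zero_smul, zero_add, add_zero, smul_eq_zero] at hg
        exact hg.resolve_right hm0
      intro i; fin_cases i <;> assumption
    have hsp := hind.span_eq_top_of_card_eq_finrank (by rw [finrank_space Δ, Δ.hn, Fintype.card_fin])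
    intro y
    have hy : y ∈ Submodule.span F (Set.range ![z, m, z']) := by rw [hsp]; exact Submodule.mem_top
    obtain ⟨g, rfl⟩ := (Submodule.mem_span_range_iff_exists_fun F).mp hy
    refine ⟨fun i => g (e i), ?_⟩
    rw [hM]
    simp [Fin.sum_univ_three]
  have hmm : Q m ≠ 0 := fun h => hm0 (eq_zero_of_perp Δ fun y => by
    obtain ⟨x, rfl⟩ := hsurj y
    rw [(hpair x).2.2, self_zero Δ h, mul_zero])
  have hd : M.det ≠ 0 := fun h => by
    obtain ⟨v, hv0, hv⟩ := Matrix.exists_mulVec_eq_zero_iff.mpr h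
    obtain ⟨a, b, c⟩ := hpair v
    rw [hv, zero_left Δ] at a b c
    refine hv0 (funext fun i => ?_)
    rw [← e.symm_apply_apply i]
    generalize e i = k
    fin_cases k
    · exact a.symm
    · exact (mul_eq_zero.mp c.symm).resolve_right (by rw [self_eq Δ]; exact mul_ne_zero Δ.h2 hmm)
    · exact b.symm
  refine ⟨Q m, Matrix.GeneralLinearGroup.mkOfDetNeZero M hd, e, hmm, fun x => ?_⟩
  rw [Matrix.GeneralLinearGroup.val_mkOfDetNeZero, hM]
  simp only [quad_sum Δ, quad_smul Δ, add_left Δ, smul_left Δ, smul_right Δ, hz, hz', hzz, hzm, hmz']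
  ring

end Cfsg.Agent.Classical.OSimThree
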