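/-
The orthogonal similitudes are maximal in `SL_3` in odd characteristic.
-/
import Cfsg.Agent.Lib.Classical.LinThree.OrthExc
import Cfsg.Agent.Lib.Classical.LinThree.OrthForm

set_option autoImplicit false
set_option linter.unusedSectionVars false

namespace Cfsg.Agent.Classical.LinThree

open Matrix Cfsg.Geo
open Cfsg.Agent.Classical

variable {F : Type*} [Field F] [Fintype F]

/-- The similitudes are maximal. -/
theorem o_isMaximal {Q : (Fin 3 → F) → F} (hQ : IsNondegenerateQuadraticForm Q) (h2 : (2 : F) ≠ 0) :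
    IsMaximalIn (specialLinear (Fin 3) F) (quadSimilarityGroup Q ⊓ specialLinear (Fin 3) F) := by
  classical
  refine ⟨lt_of_le_of_ne inf_le_right fun e => not_specialLinear_le_quadSimilarityGroup (by simp) hQ
    (inf_eq_right.mp e), fun K hK hKS => or_iff_not_imp_left.mpr fun hne => le_antisymm hKS ?_⟩
  obtain ⟨ρ, P₀, e, hρ, hP₀⟩ := OSimThree.exists_coords (Q := Q) ⟨hQ, h2, by simp⟩
  obtain ⟨P, hP⟩ : ∃ P : GL (Fin 3) F, ∀ x, Q ((P : Matrix (Fin 3) (Fin 3) F) *ᵥ x) = Qc ρ x := by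
    obtain ⟨S, hS⟩ : ∃ S : GL (Fin 3) F, ∀ y, (S : Matrix (Fin 3) (Fin 3) F) *ᵥ y = y ∘ e := by
      let M : Matrix (Fin 3) (Fin 3) F := Matrix.of fun i j => if e i = j then 1 else 0
      have hM : ∀ y, M *ᵥ y = y ∘ e := fun y => by
        ext i; simp [M, Matrix.mulVec, dotProduct]
      refine ⟨GeneralLinearGroup.mkOfDetNeZero M (fun h => ?_), fun y => by
        rw [GeneralLinearGroup.val_mkOfDetNeZero]; exact hM y⟩
      obtain ⟨v, hv0, hv⟩ := Matrix.exists_mulVec_eq_zero_iff.mpr h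
      rw [hM] at hv
      exact hv0 (funext fun i => by simpa using congrFun hv (e.symm i))
    exact ⟨P₀ * S, fun x => by rw [gl_mul_mulVec, hS, hP₀]; simp [Qc]⟩
  have D : OData ρ (K.comap (MulAut.conj P).toMonoidHom) := by
    refine ⟨h2, hρ, fun x hx => ?_, fun g hd hg => hK ⟨⟨1, fun v => ?_⟩, ?_⟩⟩
    · have := specialLinear_normal.conj_mem _ (hKS hx) P⁻¹
      rw [inv_inv] at this
      rwa [show P⁻¹ * (MulAut.conj P).toMonoidHom x * P = x by simp [MulAut.conj_apply, mul_assoc]] at this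
    · rw [Units.val_one, one_mul]
      show Q (((P * g * P⁻¹ : GL (Fin 3) F) : Matrix (Fin 3) (Fin 3) F) *ᵥ v) = Q v
      rw [gl_mul_mulVec, gl_mul_mulVec, hP, hg, ← hP, gl_mulVec_inv_cancel]
    · exact specialLinear_normal.conj_mem _ (mem_specialLinear_iff.mpr hd) P
  intro x hx
  have hfull : specialLinear (Fin 3) F ≤ K.comap (MulAut.conj P).toMonoidHom := by
    by_contra hno
    apply hne
    refine le_antisymm (le_inf (fun g hg => ?_) hKS) hK
    have hg' : P⁻¹ * g * P ∈ K.comap (MulAut.conj P).toMonoidHom := by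
      show P * (P⁻¹ * g * P) * P⁻¹ ∈ K
      rwa [show P * (P⁻¹ * g * P) * P⁻¹ = g by group]
    obtain ⟨c, hc, hcQ⟩ := similar_of_sing D hno (all_sing D hno) hg'
    refine ⟨Units.mk0 c hc, fun v => ?_⟩
    have := hcQ (((P⁻¹ : GL (Fin 3) F) : Matrix (Fin 3) (Fin 3) F) *ᵥ v)
    rw [← hP, ← hP, gl_mul_mulVec, gl_mul_mulVec, gl_mulVec_inv_cancel, gl_mulVec_inv_cancel] at this
    exact this
  have hx' := hfull (specialLinear_normal.conj_mem _ hx P⁻¹)
  rw [inv_inv] at hx'
  have h' : P * (P⁻¹ * x * P) * P⁻¹ ∈ K := hx'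
  rwa [show P * (P⁻¹ * x * P) * P⁻¹ = x by group] at h'

end Cfsg.Agent.Classical.LinThree
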