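/-
The possible orders of overgroups of a Singer normaliser in `SL_3`.
-/
import Mathlib

set_option autoImplicit false

namespace Cfsg.Agent.Classical.LinThree

theorem singer_check : ((List.range 18).all fun t => (List.range 18).all fun i => decide (18 ≤ t * i) ||
    (List.range 170).all fun q => decide (q % 3 ≠ 1) || decide (t = 0) || decide (i = 0) || decide (q ≤ 4) ||
      decide (q = 10) ||
      !(t * i * (q * q) + (t * i + 12 * t + 27) * q + t * i + 3 * i == 9 * (q * q) + 15 * t + 3 * (t * t) + 18)) = true := by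
  decide +kernel

theorem singer_small (t : ℕ) (ht : t < 18) (i : ℕ) (hi : i < 18) (hti : t * i < 18) (q : ℕ) (hq : q < 170)
    (hm : q % 3 = 1)
    (h : t * i * (q * q) + (t * i + 12 * t + 27) * q + t * i + 3 * i = 9 * (q * q) + 15 * t + 3 * (t * t) + 18) :
    t = 0 ∨ i = 0 ∨ q ≤ 4 ∨ q = 10 := by
  have h1 := List.all_eq_true.mp singer_check t (List.mem_range.mpr ht)
  have h2 := List.all_eq_true.mp h1 i (List.mem_range.mpr hi)
  rw [Bool.or_eq_true, decide_eq_true_eq, or_iff_right (by omega)] at h2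
  have h3 := List.all_eq_true.mp h2 q (List.mem_range.mpr hq)
  simp only [Bool.or_eq_true, decide_eq_true_eq, Bool.not_eq_true', beq_eq_false_iff_ne] at h3
  tauto

/-- The coprime case. -/
theorem singer_arith_one {q s t : ℤ} (hq : 2 ≤ q) (hs : 1 ≤ s) (ht : 1 ≤ t)
    (h : 3 * (s * t) * (q ^ 2 + q + 1) + 3 * (s + t) = (q ^ 2 - 3 * q + 2) * (q ^ 2 + q + 1) + 4 * q - 5) :
    s = q - 1 ∨ t = q - 1 := by
  have hS : s + t ≤ s * t + 1 := by nlinarith
  obtain ⟨k, hk⟩ : ∃ k, k = q ^ 2 - 3 * q + 2 - 3 * (s * t) := ⟨_, rfl⟩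
  have hk' : 3 * (s + t) = 4 * q - 5 + k * (q ^ 2 + q + 1) := by rw [hk]; linear_combination h
  have hk0 : k = 0 := by
    rcases lt_trichotomy k 0 with hneg | hz | hpos
    · nlinarith
    · exact hz
    · nlinarith
  rw [hk0] at hk hk'
  have e : (3 * s - 3 * (q - 1)) * (3 * t - 3 * (q - 1)) = 0 := by linear_combination (-3 * (q - 1)) * hk' + 3 * hk
  rcases mul_eq_zero.mp e with h' | h'
  · exact Or.inl (by linarith)
  · exact Or.inr (by linarith)

/-- The other case. -/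
theorem singer_arith_three {q Q' s t : ℤ} (hQ : 3 * Q' = q ^ 2 + q + 1) (hq : 7 ≤ q) (hm : q % 3 = 1) (h10 : q ≠ 10)
    (hs : 1 ≤ s) (ht : 1 ≤ t) (h : s * t * Q' + (s + t) = 3 * (q ^ 2 - 3 * q + 2) * Q' + 4 * q - 5) :
    s = 3 * (q - 1) ∨ t = 3 * (q - 1) := by
  have hS : s + t ≤ s * t + 1 := by nlinarith
  obtain ⟨i, hi⟩ : ∃ i, i = 3 * (q ^ 2 - 3 * q + 2) - s * t := ⟨_, rfl⟩
  have hi' : s + t = 4 * q - 5 + i * Q' := by rw [hi]; linear_combination h
  rcases lt_trichotomy i 0 with hneg | hz | hpos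
  · exfalso
    have h1 : i * Q' ≤ -Q' := by nlinarith
    have h4 : 4 * (s * t) ≤ (s + t) ^ 2 := by nlinarith [sq_nonneg (s - t)]
    have h3 : 3 * (s + t) ≤ -q ^ 2 + 11 * q - 16 := by nlinarith
    have h9 : q ≤ 9 := by nlinarith
    have h5 : 3 * (s + t) ≤ 12 := by nlinarith
    have h6 : (s + t) ^ 2 ≤ 16 := by nlinarith
    nlinarith
  · rw [hz] at hi hi'
    have e : (s - 3 * (q - 1)) * (t - 3 * (q - 1)) = 0 := by linear_combination (-3 * (q - 1)) * hi' + hi
    rcases mul_eq_zero.mp e with h' | h'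
    · exact Or.inl (by linarith)
    · exact Or.inr (by linarith)
  · exfalso
    wlog hts : t ≤ s generalizing s t
    · exact this (s := t) (t := s) ht hs (by linear_combination h) (by linarith) (by rw [hi]; ring) (by linear_combination hi') (by linarith)
    have hb : t * (s + t) ≤ 2 * (s * t) := by nlinarith
    have e : t * i * (q * q) + (t * i + 12 * t + 27) * q + t * i + 3 * i =
        9 * (q * q) + 15 * t + 3 * (t * t) + 18 := by
      linear_combination (-3 : ℤ) * t * hi' + 3 * hi - t * i * hQ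
    have hti0 : 1 ≤ t * i := by nlinarith
    have hti : t * i < 18 := by nlinarith
    have ht' : t ≤ t * i := le_mul_of_one_le_right (by linarith) (by linarith)
    have hi'' : i ≤ t * i := le_mul_of_one_le_left (by linarith) (by linarith)
    have hq170 : q < 170 := by
      by_contra hq'
      push Not at hq'
      rcases lt_trichotomy (t * i) 9 with h9 | h9 | h9
      · nlinarith
      · rw [h9] at e; nlinarith
      · nlinarith
    lift t to ℕ using (by linarith)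
    lift i to ℕ using (by linarith)
    lift q to ℕ using (by linarith)
    have := singer_small t (by omega) i (by omega) (by exact_mod_cast hti) q (by omega) (by omega) (by exact_mod_cast e)
    omega

/-- The possible indices. -/
theorem singer_arith {q j e Q' : ℕ} (hq : 2 ≤ q) (h4 : q ≠ 4) (h10 : q ≠ 10)
    (hQ : (q % 3 ≠ 1 ∧ Q' = q ^ 2 + q + 1) ∨ (q % 3 = 1 ∧ 3 * Q' = q ^ 2 + q + 1))
    (hM : (3 : ℤ) * j * e = (q : ℤ) ^ 3 * ((q : ℤ) - 1) ^ 2 * ((q : ℤ) + 1)) (hj : j ≡ 1 [MOD Q']) :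
    j = 1 ∨ e = 1 ∨ j = q ^ 3 ∨ (3 : ℤ) * j = ((q : ℤ) - 1) ^ 2 * ((q : ℤ) + 1) := by
  have hqz : (2 : ℤ) ≤ q := by exact_mod_cast hq
  have hpos : (0 : ℤ) < (q : ℤ) ^ 3 * ((q : ℤ) - 1) ^ 2 * ((q : ℤ) + 1) := by
    have : (0 : ℤ) < (q : ℤ) - 1 := by linarith
    positivity
  have hj1 : (1 : ℤ) ≤ j := by
    rcases Nat.eq_zero_or_pos j with h | h
    · subst h; simp only [Nat.cast_zero, mul_zero, zero_mul] at hM; linarith
    · exact_mod_cast h
  have he1 : (1 : ℤ) ≤ e := by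
    rcases Nat.eq_zero_or_pos e with h | h
    · subst h; simp only [Nat.cast_zero, mul_zero, zero_mul] at hM; linarith
    · exact_mod_cast h
  have hQ'pos : (0 : ℤ) < Q' := by
    rcases hQ with ⟨-, h⟩ | ⟨-, h⟩ <;> rcases Nat.eq_zero_or_pos Q' with h' | h' <;>
      first | exact_mod_cast h' | (subst h'; nlinarith)
  obtain ⟨s, hs⟩ : ((Q' : ℤ)) ∣ (j : ℤ) - 1 := by
    have := (Nat.modEq_iff_dvd.mp hj.symm)
    simpa using this
  have hje : ((Q' : ℤ)) ∣ (e : ℤ) - 1 := by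
    obtain ⟨R, hR⟩ : ∃ R : ℤ, R = (q : ℤ) ^ 4 - 2 * (q : ℤ) ^ 3 + 3 * q - 3 := ⟨_, rfl⟩
    have hMR : (3 : ℤ) * j * e - 3 = ((q : ℤ) ^ 2 + q + 1) * R := by rw [hR, hM]; ring
    rcases hQ with ⟨hm, h⟩ | ⟨hm, h⟩
    · have hQz : (Q' : ℤ) = (q : ℤ) ^ 2 + q + 1 := by exact_mod_cast h
      have h3 : (Q' : ℤ) ∣ 3 * ((e : ℤ) - 1) := ⟨R - 3 * e * s, by linear_combination hMR - (3 : ℤ) * e * hs - R * hQz⟩
      refine (IsCoprime.dvd_of_dvd_mul_left ?_ h3)
      rw [Int.isCoprime_iff_gcd_eq_one]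
      have h' : Nat.gcd Q' 3 = 1 := by
        refine (Nat.prime_three.coprime_iff_not_dvd.mpr fun hd => ?_).symm
        rw [h] at hd
        have : q % 3 = 0 ∨ q % 3 = 2 := by omega
        rcases this with h' | h' <;> (rw [Nat.dvd_iff_mod_eq_zero, Nat.add_mod, Nat.add_mod (q ^ 2), Nat.pow_mod, h'] at hd; norm_num at hd)
      simpa [Int.gcd] using h'
    · have hQz : 3 * (Q' : ℤ) = (q : ℤ) ^ 2 + q + 1 := by exact_mod_cast h
      refine ⟨R - e * s, ?_⟩
      refine mul_left_cancel₀ (show (3 : ℤ) ≠ 0 by norm_num) ?_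
      linear_combination hMR - (3 : ℤ) * e * hs - R * hQz
  obtain ⟨t, ht⟩ := hje
  have hs0 : 0 ≤ s := by nlinarith
  have ht0 : 0 ≤ t := by nlinarith
  rcases eq_or_lt_of_le hs0 with h | hs1
  · left
    subst h
    omega
  rcases eq_or_lt_of_le ht0 with h | ht1
  · right; left
    subst h
    omega
  right; right
  have hje' : (3 : ℤ) * j * e = 3 * (1 + Q' * s) * (1 + Q' * t) := by
    rw [show (j : ℤ) = 1 + Q' * s by linarith, show (e : ℤ) = 1 + Q' * t by linarith]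
  have hfin : ∀ x y : ℤ, (j : ℤ) * 1 = x → (x = (q : ℤ) ^ 3 ∨ y = (q : ℤ) ^ 3) → (e : ℤ) = y →
      j = q ^ 3 ∨ (3 : ℤ) * j = ((q : ℤ) - 1) ^ 2 * ((q : ℤ) + 1) := by
    intro x y hx hor hy
    rcases hor with h | h
    · left
      have : (j : ℤ) = (q : ℤ) ^ 3 := by linarith
      exact_mod_cast this
    · right
      refine mul_left_cancel₀ (show (q : ℤ) ^ 3 ≠ 0 by positivity) ?_
      linear_combination hM - 3 * (j : ℤ) * hy - 3 * (j : ℤ) * h
  rcases hQ with ⟨hm, h⟩ | ⟨hm, h⟩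
  · have hQz : (Q' : ℤ) = (q : ℤ) ^ 2 + q + 1 := by exact_mod_cast h
    have h1 : 3 * (s * t) * ((q : ℤ) ^ 2 + q + 1) + 3 * (s + t) =
        ((q : ℤ) ^ 2 - 3 * q + 2) * ((q : ℤ) ^ 2 + q + 1) + 4 * q - 5 := by
      refine mul_left_cancel₀ hQ'pos.ne' ?_
      rw [hM, hQz] at hje'
      rw [hQz]
      linear_combination -hje'
    refine hfin _ (1 + Q' * t) (mul_one _) ?_ (by linarith)
    rcases singer_arith_one hqz hs1 ht1 h1 with h' | h'
    · left; rw [show (j : ℤ) = 1 + Q' * s by linarith, h', hQz]; ring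
    · right; rw [h', hQz]; ring
  · have hQz : 3 * (Q' : ℤ) = (q : ℤ) ^ 2 + q + 1 := by exact_mod_cast h
    have h1 : s * t * (Q' : ℤ) + (s + t) = 3 * ((q : ℤ) ^ 2 - 3 * q + 2) * Q' + 4 * q - 5 := by
      refine mul_left_cancel₀ (show 3 * (Q' : ℤ) ≠ 0 by positivity) ?_
      rw [hM] at hje'
      linear_combination -hje' + (-((q : ℤ) ^ 4 - 2 * (q : ℤ) ^ 3 + 3 * q - 3) - 3 * (Q' : ℤ) * ((q : ℤ) ^ 2 - 3 * q + 2)) * hQz
    refine hfin _ (1 + Q' * t) (mul_one _) ?_ (by linarith)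
    rcases singer_arith_three hQz (by omega) (by omega) (by omega) hs1 ht1 h1 with h' | h'
    · left
      rw [show (j : ℤ) = 1 + Q' * s by linarith, h']
      linear_combination ((q : ℤ) - 1) * hQz
    · right
      rw [h']
      linear_combination ((q : ℤ) - 1) * hQz

end Cfsg.Agent.Classical.LinThree
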