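/-
The norm-one torus of a cubic field subalgebra and its normaliser in `SL_3`.
-/
import Cfsg.Agent.Lib.Classical.FieldSubalgebra
import Cfsg.Agent.Lib.Classical.FieldExt.Gal

set_option autoImplicit false
set_option linter.unusedSectionVars false
set_option linter.style.haveILetI false

namespace Cfsg.Agent.Classical.LinThree

open Matrix Cfsg.Geo
open Cfsg.Agent.Classical

variable {F : Type*} [Field F] [Fintype F] {K : Subalgebra F (Matrix (Fin 3) (Fin 3) F)}

/-- `g` is a scalar matrix. -/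
def IsSc (g : GL (Fin 3) F) : Prop := ∃ c : F, (g : Matrix (Fin 3) (Fin 3) F) = c • 1

theorem val_inv_mem (hK : IsFieldSubalgebra 3 K) {g : GL (Fin 3) F} (hg : (g : Matrix (Fin 3) (Fin 3) F) ∈ K) :
    ((g⁻¹ : GL (Fin 3) F) : Matrix (Fin 3) (Fin 3) F) ∈ K := by
  obtain ⟨y, hy, hxy⟩ := hK.inv _ hg g.ne_zero
  have e : ((g⁻¹ : GL (Fin 3) F) : Matrix (Fin 3) (Fin 3) F) = y := by
    rw [← Matrix.mul_one ((g⁻¹ : GL (Fin 3) F) : Matrix (Fin 3) (Fin 3) F), ← hxy, ← Matrix.mul_assoc,
      ← Units.val_mul, inv_mul_cancel, Units.val_one, Matrix.one_mul]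
  rwa [e]

/-- The norm-one torus. -/
def Tor (hK : IsFieldSubalgebra 3 K) : Subgroup (GL (Fin 3) F) where
  carrier := {g | (g : Matrix (Fin 3) (Fin 3) F) ∈ K ∧ g ∈ specialLinear (Fin 3) F}
  one_mem' := ⟨by rw [Units.val_one]; exact one_mem K, one_mem _⟩
  mul_mem' ha hb := ⟨by rw [Units.val_mul]; exact mul_mem ha.1 hb.1, mul_mem ha.2 hb.2⟩
  inv_mem' ha := ⟨val_inv_mem hK ha.1, inv_mem ha.2⟩

/-- The normaliser in the special linear group. -/
def NS (K : Subalgebra F (Matrix (Fin 3) (Fin 3) F)) : Subgroup (GL (Fin 3) F) :=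
  subalgebraNormalizer K ⊓ specialLinear (Fin 3) F

variable (hK : IsFieldSubalgebra 3 K)

include hK

theorem conj_fix {g : GL (Fin 3) F} (hg : (g : Matrix (Fin 3) (Fin 3) F) ∈ K) {k : Matrix (Fin 3) (Fin 3) F}
    (hk : k ∈ K) : (g : Matrix (Fin 3) (Fin 3) F) * k * ((g⁻¹ : GL (Fin 3) F) : Matrix (Fin 3) (Fin 3) F) = k := by
  rw [hK.comm _ hg _ hk, Matrix.mul_assoc, ← Units.val_mul, mul_inv_cancel, Units.val_one, Matrix.mul_one]

theorem tor_le_NS : Tor hK ≤ NS K := fun g hg => ⟨fun k => by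
    constructor
    · intro hk; rwa [conj_fix hK hg.1 hk]
    · intro hk
      have := conj_fix hK (val_inv_mem hK hg.1) hk
      rw [inv_inv, Matrix.mul_assoc, Matrix.mul_assoc, ← Units.val_mul, inv_mul_cancel, Units.val_one, Matrix.mul_one,
        ← Matrix.mul_assoc, ← Units.val_mul, inv_mul_cancel, Units.val_one, Matrix.one_mul] at this
      rwa [this], hg.2⟩

/-- An element of the field fixing a line is scalar. -/
theorem eig_scalar {x : Matrix (Fin 3) (Fin 3) F} (hx : x ∈ K) {v : Fin 3 → F} (hv : v ≠ 0) {c : F}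
    (h : x *ᵥ v = c • v) : x = c • 1 := by
  by_contra hne
  have hm : x - c • 1 ∈ K := sub_mem hx (K.smul_mem (one_mem K) c)
  obtain ⟨y, -, hy⟩ := hK.inv _ hm (sub_ne_zero.mpr hne)
  have hy' : y * (x - c • 1) = 1 := mul_eq_one_comm.mp hy
  refine hv ?_
  rw [← Matrix.one_mulVec v, ← hy', ← Matrix.mulVec_mulVec, Matrix.sub_mulVec, h, Matrix.smul_mulVec,
    Matrix.one_mulVec, sub_self, Matrix.mulVec_zero]

/-- Everything in the field comes from one non-scalar element. -/
theorem mem_of_gen {S : Subalgebra F (Matrix (Fin 3) (Fin 3) F)} {x : Matrix (Fin 3) (Fin 3) F} (hx : x ∈ K)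
    (hns : ∀ c : F, x ≠ c • 1) (hxS : x ∈ S) {k : Matrix (Fin 3) (Fin 3) F} (hk : k ∈ K) : k ∈ S := by
  haveI : Finite K := Finite.of_injective _ Subtype.val_injective
  letI : CommRing K := { K.toRing with mul_comm := fun a b => Subtype.ext (hK.comm a a.2 b b.2) }
  haveI : Nontrivial K := ⟨⟨0, 1, fun e => zero_ne_one (congrArg Subtype.val e)⟩⟩
  haveI : NoZeroDivisors K := ⟨fun {a b} hab =>
    (fieldSubalgebra_mul_eq_zero hK a.2 (congrArg Subtype.val hab)).imp (fun h => Subtype.ext h) fun h => Subtype.ext h⟩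
  haveI : IsDomain K := NoZeroDivisors.to_isDomain _
  haveI hso : IsSimpleOrder (Subalgebra F K) :=
    Subalgebra.isSimpleOrder_of_finrank_prime F K (by rw [hK.finrank_eq]; exact Nat.prime_three)
  rcases eq_bot_or_eq_top (S.comap K.val) with h | h
  · exfalso
    have hm : (⟨x, hx⟩ : K) ∈ (⊥ : Subalgebra F K) := h ▸ hxS
    obtain ⟨c, hc⟩ := Algebra.mem_bot.mp hm
    refine hns c ?_
    have := congrArg Subtype.val hc
    simpa [Algebra.algebraMap_eq_smul_one] using this.symm
  · have : (⟨k, hk⟩ : K) ∈ S.comap K.val := h ▸ Algebra.mem_top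
    exact this

/-- A non-scalar element of the field has no invariant proper subspace. -/
theorem inv_top {x : Matrix (Fin 3) (Fin 3) F} (hx : x ∈ K) (hns : ∀ c : F, x ≠ c • 1) {W : Submodule F (Fin 3 → F)}
    (hW : ∀ w ∈ W, x *ᵥ w ∈ W) {v : Fin 3 → F} (hv : v ∈ W) (hv0 : v ≠ 0) : W = ⊤ := by
  let S : Subalgebra F (Matrix (Fin 3) (Fin 3) F) :=
    { carrier := {m | ∀ w ∈ W, m *ᵥ w ∈ W}
      one_mem' := fun w hw => by rwa [Matrix.one_mulVec]
      mul_mem' := fun {a b} ha hb w hw => by rw [← Matrix.mulVec_mulVec]; exact ha _ (hb w hw)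
      zero_mem' := fun w _ => by rw [Matrix.zero_mulVec]; exact W.zero_mem
      add_mem' := fun {a b} ha hb w hw => by rw [Matrix.add_mulVec]; exact W.add_mem (ha w hw) (hb w hw)
      algebraMap_mem' := fun c w hw => by
        rw [Algebra.algebraMap_eq_smul_one, Matrix.smul_mulVec, Matrix.one_mulVec]; exact W.smul_mem c hw }
  let φ : K →ₗ[F] (Fin 3 → F) :=
    { toFun := fun k => (k : Matrix (Fin 3) (Fin 3) F) *ᵥ v
      map_add' := fun a b => Matrix.add_mulVec _ _ v
      map_smul' := fun c a => Matrix.smul_mulVec c _ v }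
  have hinj : Function.Injective φ := (injective_iff_map_eq_zero φ).mpr fun k hk => by
    refine Subtype.ext ?_
    have := eig_scalar hK k.2 hv0 (c := 0) (by rw [zero_smul]; exact hk)
    simpa using this
  have hsur : Function.Surjective φ := (LinearMap.injective_iff_surjective_of_finrank_eq_finrank
    (by rw [hK.finrank_eq, Module.finrank_fin_fun])).mp hinj
  refine eq_top_iff.mpr fun y _ => ?_
  obtain ⟨k, rfl⟩ := hsur y
  exact mem_of_gen hK (S := S) hx hns hW k.2 v hv

/-- A conjugate meeting the field in a non-scalar element comes from the normaliser. -/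
theorem norm_of_conj {g : GL (Fin 3) F} {x : Matrix (Fin 3) (Fin 3) F} (hx : x ∈ K) (hns : ∀ c : F, x ≠ c • 1)
    (h : (g : Matrix (Fin 3) (Fin 3) F) * x * ((g⁻¹ : GL (Fin 3) F) : Matrix (Fin 3) (Fin 3) F) ∈ K) :
    g ∈ subalgebraNormalizer K := by
  let S : Subalgebra F (Matrix (Fin 3) (Fin 3) F) :=
    { carrier := {m | (g : Matrix (Fin 3) (Fin 3) F) * m * ((g⁻¹ : GL (Fin 3) F) : Matrix (Fin 3) (Fin 3) F) ∈ K}
      one_mem' := by
        show _ ∈ K
        rw [Matrix.mul_one, ← Units.val_mul, mul_inv_cancel, Units.val_one]; exact one_mem K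
      mul_mem' := fun {a b} ha hb => by
        show _ ∈ K
        have := K.mul_mem ha hb
        simp only [Matrix.mul_assoc] at this
        rw [← Matrix.mul_assoc ((g⁻¹ : GL (Fin 3) F) : Matrix (Fin 3) (Fin 3) F) (g : Matrix (Fin 3) (Fin 3) F),
          ← Units.val_mul, inv_mul_cancel, Units.val_one, Matrix.one_mul] at this
        simpa only [Matrix.mul_assoc] using this
      zero_mem' := by show _ ∈ K; rw [Matrix.mul_zero, Matrix.zero_mul]; exact zero_mem K
      add_mem' := fun {a b} ha hb => by show _ ∈ K; rw [Matrix.mul_add, Matrix.add_mul]; exact add_mem ha hb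
      algebraMap_mem' := fun c => by
        show _ ∈ K
        rw [Algebra.algebraMap_eq_smul_one, Matrix.mul_smul, Matrix.smul_mul, Matrix.mul_one, ← Units.val_mul,
          mul_inv_cancel, Units.val_one]
        exact K.smul_mem (one_mem K) c }
  have hS : ∀ k ∈ K, (g : Matrix (Fin 3) (Fin 3) F) * k * ((g⁻¹ : GL (Fin 3) F) : Matrix (Fin 3) (Fin 3) F) ∈ K :=
    fun k hk => mem_of_gen hK (S := S) hx hns h hk
  haveI : Finite K := Finite.of_injective _ Subtype.val_injective
  let f : K → K := fun k => ⟨_, hS k k.2⟩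
  have hf : Function.Injective f := fun a b hab => Subtype.ext (by
    have e := congrArg Subtype.val hab
    have := congrArg (fun z => ((g⁻¹ : GL (Fin 3) F) : Matrix (Fin 3) (Fin 3) F) * z * (g : Matrix (Fin 3) (Fin 3) F)) e
    simp only [f, Matrix.mul_assoc] at this
    simp only [← Units.val_mul, inv_mul_cancel, Units.val_one, Matrix.mul_one] at this
    simpa only [← Matrix.mul_assoc, ← Units.val_mul, inv_mul_cancel, Units.val_one, Matrix.one_mul] using this)
  intro k
  refine ⟨hS k, fun hk => ?_⟩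
  obtain ⟨a, ha⟩ := Finite.surjective_of_injective hf ⟨_, hk⟩
  have e := congrArg Subtype.val ha
  have := congrArg (fun z => ((g⁻¹ : GL (Fin 3) F) : Matrix (Fin 3) (Fin 3) F) * z * (g : Matrix (Fin 3) (Fin 3) F)) e
  simp only [f, Matrix.mul_assoc] at this
  simp only [← Units.val_mul, inv_mul_cancel, Units.val_one, Matrix.mul_one] at this
  simp only [← Matrix.mul_assoc, ← Units.val_mul, inv_mul_cancel, Units.val_one, Matrix.one_mul] at this
  rw [← this]; exact a.2

/-- The field is its own centraliser. -/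
theorem cent (h : GL (Fin 3) F)
    (hh : ∀ k ∈ K, (h : Matrix (Fin 3) (Fin 3) F) * k = k * (h : Matrix (Fin 3) (Fin 3) F)) :
    (h : Matrix (Fin 3) (Fin 3) F) ∈ K := by
  let φ : K →ₗ[F] (Fin 3 → F) :=
    { toFun := fun k => (k : Matrix (Fin 3) (Fin 3) F) *ᵥ Pi.single 0 1
      map_add' := fun a b => Matrix.add_mulVec _ _ _
      map_smul' := fun c a => Matrix.smul_mulVec c _ _ }
  have hinj : Function.Injective φ := (injective_iff_map_eq_zero φ).mpr fun k hk => by
    refine Subtype.ext ?_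
    have := eig_scalar hK k.2 (v := Pi.single 0 1) (by simp) (c := 0) (by rw [zero_smul]; exact hk)
    simpa using this
  have hsur : Function.Surjective φ := (LinearMap.injective_iff_surjective_of_finrank_eq_finrank
    (by rw [hK.finrank_eq, Module.finrank_fin_fun])).mp hinj
  obtain ⟨k, hk⟩ := hsur ((h : Matrix (Fin 3) (Fin 3) F) *ᵥ Pi.single 0 1)
  have : (h : Matrix (Fin 3) (Fin 3) F) = k := Matrix.ext_of_mulVec_single fun i => by
    obtain ⟨a, ha⟩ := hsur (Pi.single i 1)
    rw [← ha]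
    show (h : Matrix (Fin 3) (Fin 3) F) *ᵥ ((a : Matrix (Fin 3) (Fin 3) F) *ᵥ Pi.single 0 1) = _
    rw [Matrix.mulVec_mulVec, hh a a.2, ← Matrix.mulVec_mulVec, ← hk]
    show (a : Matrix (Fin 3) (Fin 3) F) *ᵥ ((k : Matrix (Fin 3) (Fin 3) F) *ᵥ _) = _ *ᵥ ((a : Matrix (Fin 3) (Fin 3) F) *ᵥ _)
    rw [Matrix.mulVec_mulVec, Matrix.mulVec_mulVec, hK.comm _ a.2 _ k.2]
  rw [this]; exact k.2

/-- Elements of the normaliser are in the field or have scalar cube. -/
theorem cube {g : GL (Fin 3) F} (hg : g ∈ NS K) : g ∈ Tor hK ∨ IsSc (g ^ 3) := by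
  classical
  haveI : Finite K := Finite.of_injective _ Subtype.val_injective
  letI : CommRing K := { K.toRing with mul_comm := fun a b => Subtype.ext (hK.comm a a.2 b b.2) }
  haveI : Nontrivial K := ⟨⟨0, 1, fun e => zero_ne_one (congrArg Subtype.val e)⟩⟩
  haveI : NoZeroDivisors K := ⟨fun {a b} hab =>
    (fieldSubalgebra_mul_eq_zero hK a.2 (congrArg Subtype.val hab)).imp (fun h => Subtype.ext h) fun h => Subtype.ext h⟩
  haveI : IsDomain K := NoZeroDivisors.to_isDomain _
  letI : Field K := (Finite.isDomain_to_isField K).toField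
  let c : K →ₐ[F] K :=
    { toFun := fun k => ⟨_, (hg.1 k).mp k.2⟩
      map_one' := Subtype.ext (by simp [← Units.val_mul])
      map_mul' := fun a b => Subtype.ext (by
        simp only [Subalgebra.coe_mul, Matrix.mul_assoc]
        rw [← Matrix.mul_assoc ((g⁻¹ : GL (Fin 3) F) : Matrix (Fin 3) (Fin 3) F) (g : Matrix (Fin 3) (Fin 3) F),
          ← Units.val_mul, inv_mul_cancel, Units.val_one, Matrix.one_mul])
      map_zero' := Subtype.ext (by simp)
      map_add' := fun a b => Subtype.ext (by simp [Matrix.mul_add, Matrix.add_mul])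
      commutes' := fun r => Subtype.ext (by simp [Algebra.algebraMap_eq_smul_one, ← Units.val_mul]) }
  have hce : ∀ k : K, ((c k : K) : Matrix (Fin 3) (Fin 3) F) =
      (g : Matrix (Fin 3) (Fin 3) F) * k * ((g⁻¹ : GL (Fin 3) F) : Matrix (Fin 3) (Fin 3) F) := fun _ => rfl
  let e : K ≃ₐ[F] K := AlgEquiv.ofBijective c
    ⟨RingHom.injective _, Finite.surjective_of_injective (RingHom.injective (c : K →+* K))⟩
  have h3 : e ^ 3 = 1 := by
    have h := pow_card_eq_one' (G := K ≃ₐ[F] K) (x := e)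
    rwa [FieldExt.gal_card hK.finrank_eq] at h
  have hc3 : ∀ k : K, c (c (c k)) = k := fun k => by
    have := congrArg (fun f : K ≃ₐ[F] K => f k) h3
    simp only [pow_succ, pow_zero, one_mul, AlgEquiv.mul_apply, AlgEquiv.one_apply] at this
    exact this
  have hcomm : ∀ (h : GL (Fin 3) F) (k : Matrix (Fin 3) (Fin 3) F),
      (h : Matrix (Fin 3) (Fin 3) F) * k * ((h⁻¹ : GL (Fin 3) F) : Matrix (Fin 3) (Fin 3) F) = k →
      (h : Matrix (Fin 3) (Fin 3) F) * k = k * (h : Matrix (Fin 3) (Fin 3) F) := fun h k hk => by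
    conv_rhs => rw [← hk]
    rw [Matrix.mul_assoc, Matrix.mul_assoc, ← Units.val_mul, inv_mul_cancel, Units.val_one, Matrix.mul_one]
  have hcube : ((g ^ 3 : GL (Fin 3) F) : Matrix (Fin 3) (Fin 3) F) ∈ K := cent hK _ fun k hk => hcomm _ _ (by
    have := congrArg Subtype.val (hc3 ⟨k, hk⟩)
    simp only [hce] at this
    simpa [pow_succ, _root_.mul_inv_rev, Units.val_mul, Matrix.mul_assoc] using this)
  by_cases hsc : ∀ a : F, ((g ^ 3 : GL (Fin 3) F) : Matrix (Fin 3) (Fin 3) F) ≠ a • 1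
  · left
    refine ⟨cent hK g fun k hk => ?_, hg.2⟩
    let S : Subalgebra F (Matrix (Fin 3) (Fin 3) F) := Subalgebra.centralizer F {(g : Matrix (Fin 3) (Fin 3) F)}
    have hgS : ((g ^ 3 : GL (Fin 3) F) : Matrix (Fin 3) (Fin 3) F) ∈ S := by
      rw [Subalgebra.mem_centralizer_iff]
      rintro m rfl
      rw [Units.val_pow_eq_pow_val, ← pow_succ', ← pow_succ]
    have := mem_of_gen hK (S := S) hcube hsc hgS hk
    rw [Subalgebra.mem_centralizer_iff] at this
    exact this _ rfl
  · right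
    push Not at hsc
    exact hsc

end Cfsg.Agent.Classical.LinThree
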