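/-
Orders of the norm-one torus and of its normaliser.
-/
import Cfsg.Agent.Lib.Classical.LinThree.SingerTorus

set_option autoImplicit false
set_option linter.unusedSectionVars false
set_option linter.style.haveILetI false

namespace Cfsg.Agent.Classical.LinThree

open Matrix Cfsg.Geo
open Cfsg.Agent.Classical

variable {F : Type*} [Field F] [Fintype F] {K : Subalgebra F (Matrix (Fin 3) (Fin 3) F)}

theorem tor_orders (hK : IsFieldSubalgebra 3 K) :
    Nat.card (Tor hK) = Fintype.card F ^ 2 + Fintype.card F + 1 ∧ Nat.card (NS K) = 3 * Nat.card (Tor hK) := by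
  classical
  haveI : Finite K := Finite.of_injective _ Subtype.val_injective
  letI : CommRing K := { K.toRing with mul_comm := fun a b => Subtype.ext (hK.comm a a.2 b b.2) }
  haveI : Nontrivial K := ⟨⟨0, 1, fun e => zero_ne_one (congrArg Subtype.val e)⟩⟩
  haveI : NoZeroDivisors K := ⟨fun {a b} hab =>
    (fieldSubalgebra_mul_eq_zero hK a.2 (congrArg Subtype.val hab)).imp (fun h => Subtype.ext h) fun h => Subtype.ext h⟩
  haveI : IsDomain K := NoZeroDivisors.to_isDomain _
  letI : Field K := (Finite.isDomain_to_isField K).toField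
  let φ₀ : K →ₗ[F] (Fin 3 → F) :=
    { toFun := fun k => (k : Matrix (Fin 3) (Fin 3) F) *ᵥ Pi.single 0 1
      map_add' := fun a b => Matrix.add_mulVec _ _ _
      map_smul' := fun c a => Matrix.smul_mulVec c _ _ }
  have hinj : Function.Injective φ₀ := (injective_iff_map_eq_zero φ₀).mpr fun k hk => by
    refine Subtype.ext ?_
    have := eig_scalar hK k.2 (v := Pi.single 0 1) (by simp) (c := 0) (by rw [zero_smul]; exact hk)
    simpa using this
  have hdim : Module.finrank F K = Module.finrank F (Fin 3 → F) := by rw [hK.finrank_eq, Module.finrank_fin_fun]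
  let φ : K ≃ₗ[F] (Fin 3 → F) := LinearEquiv.ofBijective φ₀
    ⟨hinj, (LinearMap.injective_iff_surjective_of_finrank_eq_finrank hdim).mp hinj⟩
  have hφ : ∀ k : K, φ k = (k : Matrix (Fin 3) (Fin 3) F) *ᵥ Pi.single 0 1 := fun _ => rfl
  have hmul : ∀ (k : K) (v : Fin 3 → F), (k : Matrix (Fin 3) (Fin 3) F) *ᵥ v = φ (k * φ.symm v) := fun k v => by
    obtain ⟨a, rfl⟩ := φ.surjective v
    rw [φ.symm_apply_apply, hφ, hφ, Subalgebra.coe_mul, Matrix.mulVec_mulVec]
  have hdet : ∀ k : K, (k : Matrix (Fin 3) (Fin 3) F).det = Algebra.norm F k := fun k => by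
    rw [Algebra.norm_apply, ← LinearMap.det_toLin', ← LinearMap.det_conj (Algebra.lmul F K k) φ]
    congr 1
    refine LinearMap.ext fun v => ?_
    simp [hmul]
  let d : Kˣ →* Fˣ := Units.map (Algebra.norm F : K →* F)
  have hdsur : Function.Surjective d := fun x => by
    obtain ⟨a, ha⟩ := FiniteField.unitsMap_norm_surjective F K x
    exact ⟨a, ha⟩
  let toG : Kˣ →* GL (Fin 3) F := Units.map (K.val : K →* Matrix (Fin 3) (Fin 3) F)
  have hker : Nat.card (Tor hK) = Nat.card d.ker := by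
    refine (Nat.card_congr (Equiv.ofBijective (fun a : d.ker => (⟨toG a, ?_⟩ : Tor hK)) ⟨?_, ?_⟩)).symm
    · refine ⟨(a : Kˣ).val.2, mem_specialLinear_iff.mpr ?_⟩
      show ((a : Kˣ) : K).val.det = 1
      rw [hdet]
      exact congrArg Units.val (MonoidHom.mem_ker.mp a.2)
    · intro a b h
      have := congrArg (fun z : Tor hK => ((z : GL (Fin 3) F) : Matrix (Fin 3) (Fin 3) F)) h
      exact Subtype.ext (Units.ext (Subtype.ext this))
    · intro g
      have hu : IsUnit (⟨((g : GL (Fin 3) F) : Matrix (Fin 3) (Fin 3) F), g.2.1⟩ : K) :=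
        IsUnit.of_mul_eq_one (⟨_, val_inv_mem hK g.2.1⟩ : K) (Subtype.ext (by
          rw [Subalgebra.coe_mul, ← Units.val_mul, mul_inv_cancel, Units.val_one]; rfl))
      obtain ⟨a, ha⟩ := hu
      have ha' : ((a : K) : Matrix (Fin 3) (Fin 3) F) = ((g : GL (Fin 3) F) : Matrix (Fin 3) (Fin 3) F) :=
        congrArg Subtype.val ha
      refine ⟨⟨a, MonoidHom.mem_ker.mpr (Units.ext ?_)⟩, Subtype.ext (Units.ext ha')⟩
      show Algebra.norm F (a : K) = 1
      rw [← hdet, ha']
      exact mem_specialLinear_iff.mp g.2.2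
  have hTor : Nat.card (Tor hK) = Fintype.card F ^ 2 + Fintype.card F + 1 := by
    have h := Subgroup.card_eq_card_quotient_mul_card_subgroup d.ker
    rw [Nat.card_congr (QuotientGroup.quotientKerEquivOfSurjective d hdsur).toEquiv, ← hker, Nat.card_units, Nat.card_units,
      Module.natCard_eq_pow_finrank (K := F) (V := K), hK.finrank_eq, Nat.card_eq_fintype_card] at h
    have hq : 1 < Fintype.card F := Fintype.one_lt_card
    obtain ⟨m, hm⟩ : ∃ m, Fintype.card F = m + 2 := ⟨Fintype.card F - 2, by omega⟩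
    rw [hm] at h ⊢
    have e : (m + 2) ^ 3 - 1 = (m + 2 - 1) * ((m + 2) ^ 2 + (m + 2) + 1) := by
      rw [show m + 2 - 1 = m + 1 by omega]
      have : (m + 2) ^ 3 = (m + 1) * ((m + 2) ^ 2 + (m + 2) + 1) + 1 := by ring
      omega
    rw [e] at h
    exact (Nat.eq_of_mul_eq_mul_left (by omega) h).symm
  refine ⟨hTor, ?_⟩
  -- the action of the normaliser
  let c : NS K → (K ≃ₐ[F] K) := fun g => AlgEquiv.ofBijective
    ({ toFun := fun k => ⟨_, (g.2.1 k).mp k.2⟩
       map_one' := Subtype.ext (by simp [← Units.val_mul])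
       map_mul' := fun a b => Subtype.ext (by
         simp only [Subalgebra.coe_mul, Matrix.mul_assoc]
         rw [← Matrix.mul_assoc (((g : GL (Fin 3) F)⁻¹ : GL (Fin 3) F) : Matrix (Fin 3) (Fin 3) F)
           ((g : GL (Fin 3) F) : Matrix (Fin 3) (Fin 3) F),
           ← Units.val_mul, inv_mul_cancel, Units.val_one, Matrix.one_mul])
       map_zero' := Subtype.ext (by simp)
       map_add' := fun a b => Subtype.ext (by simp [Matrix.mul_add, Matrix.add_mul])
       commutes' := fun r => Subtype.ext (by simp [Algebra.algebraMap_eq_smul_one, ← Units.val_mul]) } : K →ₐ[F] K)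
    ⟨RingHom.injective _, Finite.surjective_of_injective (RingHom.injective _)⟩
  have hce : ∀ (g : NS K) (k : K), ((c g k : K) : Matrix (Fin 3) (Fin 3) F) =
      ((g : GL (Fin 3) F) : Matrix (Fin 3) (Fin 3) F) * k * (((g : GL (Fin 3) F)⁻¹ : GL (Fin 3) F) : Matrix (Fin 3) (Fin 3) F) :=
    fun _ _ => rfl
  let ψ : NS K →* (K ≃ₐ[F] K) := MonoidHom.mk' c fun a b => AlgEquiv.ext fun k => Subtype.ext (by
    rw [AlgEquiv.mul_apply, hce, hce, hce]
    simp [_root_.mul_inv_rev, Matrix.mul_assoc])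
  have hψ : ψ.ker = (Tor hK).subgroupOf (NS K) := by
    ext g
    rw [MonoidHom.mem_ker, Subgroup.mem_subgroupOf]
    constructor
    · intro h
      refine ⟨cent hK _ fun k hk => ?_, g.2.2⟩
      have e := congrArg (fun f : K ≃ₐ[F] K => ((f ⟨k, hk⟩ : K) : Matrix (Fin 3) (Fin 3) F)) h
      change ((g : GL (Fin 3) F) : Matrix (Fin 3) (Fin 3) F) * k *
        (((g : GL (Fin 3) F)⁻¹ : GL (Fin 3) F) : Matrix (Fin 3) (Fin 3) F) = k at e
      conv_rhs => rw [← e]
      rw [Matrix.mul_assoc _ (((g : GL (Fin 3) F)⁻¹ : GL (Fin 3) F) : Matrix (Fin 3) (Fin 3) F), ← Units.val_mul,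
        inv_mul_cancel, Units.val_one, Matrix.mul_one]
    · intro h
      refine AlgEquiv.ext fun k => Subtype.ext ?_
      exact conj_fix hK h.1 k.2
  have hsur : Function.Surjective ψ := by
    haveI : Fact (Nat.Prime 3) := ⟨Nat.prime_three⟩
    haveI : Finite (K ≃ₐ[F] K) := Finite.of_injective (fun g : K ≃ₐ[F] K => (g : K → K)) DFunLike.coe_injective
    intro σ
    let L : (Fin 3 → F) →ₗ[F] (Fin 3 → F) := φ.toLinearMap.comp (σ.toLinearMap.comp φ.symm.toLinearMap)
    have hL : ∀ k : K, LinearMap.toMatrix' L * (k : Matrix (Fin 3) (Fin 3) F) =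
        (σ k : Matrix (Fin 3) (Fin 3) F) * LinearMap.toMatrix' L := fun k => Matrix.ext_of_mulVec_single fun i => by
      rw [← Matrix.mulVec_mulVec, ← Matrix.mulVec_mulVec, LinearMap.toMatrix'_mulVec, LinearMap.toMatrix'_mulVec,
        hmul, hmul]
      simp [L]
    have hu : IsUnit (LinearMap.toMatrix' L).det := by
      rw [LinearMap.det_toMatrix']
      exact LinearEquiv.isUnit_det' (φ.symm.trans (σ.toLinearEquiv.trans φ))
    obtain ⟨a, ha⟩ := hdsur hu.unit⁻¹
    obtain ⟨g, hg⟩ : ∃ g : GL (Fin 3) F, g = toG a * GeneralLinearGroup.mkOfDetNeZero _ hu.ne_zero := ⟨_, rfl⟩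
    have hgm : (g : Matrix (Fin 3) (Fin 3) F) = ((a : K) : Matrix (Fin 3) (Fin 3) F) * LinearMap.toMatrix' L := by
      rw [hg, Units.val_mul, GeneralLinearGroup.val_mkOfDetNeZero]; rfl
    have hgk : ∀ k : K, (g : Matrix (Fin 3) (Fin 3) F) * k * ((g⁻¹ : GL (Fin 3) F) : Matrix (Fin 3) (Fin 3) F) =
        (σ k : Matrix (Fin 3) (Fin 3) F) := fun k => by
      have e : (g : Matrix (Fin 3) (Fin 3) F) * k = (σ k : Matrix (Fin 3) (Fin 3) F) * (g : Matrix (Fin 3) (Fin 3) F) := by
        rw [hgm, Matrix.mul_assoc, hL, ← Matrix.mul_assoc, ← Matrix.mul_assoc, hK.comm _ (a : K).2 _ (σ k).2]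
      rw [e, Matrix.mul_assoc, ← Units.val_mul, mul_inv_cancel, Units.val_one, Matrix.mul_one]
    have hgN : g ∈ NS K := by
      refine ⟨fun k => ⟨fun hk => by rw [show k = ((⟨k, hk⟩ : K) : Matrix (Fin 3) (Fin 3) F) from rfl, hgk]; exact (σ _).2,
        fun hk => ?_⟩, mem_specialLinear_iff.mpr ?_⟩
      · obtain ⟨b, hb⟩ := σ.surjective ⟨_, hk⟩
        have e := hgk b
        rw [hb] at e
        have := congrArg (fun z => ((g⁻¹ : GL (Fin 3) F) : Matrix (Fin 3) (Fin 3) F) * z * (g : Matrix (Fin 3) (Fin 3) F)) e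
        simp only [Matrix.mul_assoc] at this
        simp only [← Units.val_mul, inv_mul_cancel, Units.val_one, Matrix.mul_one] at this
        simp only [← Matrix.mul_assoc, ← Units.val_mul, inv_mul_cancel, Units.val_one, Matrix.one_mul] at this
        rw [← this]; exact b.2
      · rw [hgm, Matrix.det_mul, hdet]
        have e := congrArg Units.val ha
        change Algebra.norm F (a : K) = _ at e
        rw [e, IsUnit.val_inv_mul]
    exact ⟨⟨g, hgN⟩, AlgEquiv.ext fun k => Subtype.ext (hgk k)⟩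
  have h := Subgroup.card_eq_card_quotient_mul_card_subgroup ψ.ker
  rw [Nat.card_congr (QuotientGroup.quotientKerEquivOfSurjective ψ hsur).toEquiv, FieldExt.gal_card hK.finrank_eq, hψ,
    Nat.card_congr (Subgroup.subgroupOfEquivOfLe (tor_le_NS hK)).toEquiv] at h
  exact h

/-- Scalars of determinant one and cube roots. -/
theorem cube_root_scalar (hK : IsFieldSubalgebra 3 K) {x : GL (Fin 3) F} (hx : x ∈ Tor hK) (h3 : IsSc (x ^ 3)) :
    IsSc x := by
  classical
  haveI : Finite K := Finite.of_injective _ Subtype.val_injective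
  obtain ⟨c, hc⟩ := h3
  have hc3 : c ^ 3 = 1 := by
    have := mem_specialLinear_iff.mp (pow_mem hx.2 3)
    rw [hc, Matrix.det_smul, Matrix.det_one, mul_one, Fintype.card_fin] at this
    exact this
  have h9 : x ^ 9 = 1 := Units.ext (by
    rw [show 9 = 3 * 3 from rfl, pow_mul, Units.val_pow_eq_pow_val, hc, smul_pow, one_pow, hc3, one_smul, Units.val_one])
  obtain ⟨hTor, -⟩ := tor_orders hK
  have hQ : x ^ (Fintype.card F ^ 2 + Fintype.card F + 1) = 1 := by
    rw [← hTor]
    have := congrArg Subtype.val (pow_card_eq_one' (G := Tor hK) (x := ⟨x, hx⟩))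
    exact this
  obtain ⟨q, hq⟩ : ∃ q, q = Fintype.card F := ⟨_, rfl⟩
  rw [← hq] at hQ
  have hg := pow_gcd_eq_one.mpr ⟨h9, hQ⟩
  by_cases h1 : q % 3 = 1
  · have hd : Nat.gcd 9 (q ^ 2 + q + 1) ∣ 3 := by
      have hd9 := Nat.gcd_dvd_left 9 (q ^ 2 + q + 1)
      have hdQ := Nat.gcd_dvd_right 9 (q ^ 2 + q + 1)
      rcases (Nat.dvd_prime_pow Nat.prime_three).mp (show Nat.gcd 9 (q ^ 2 + q + 1) ∣ 3 ^ 2 from hd9) with ⟨k, hk, e⟩
      rw [e] at hdQ ⊢
      interval_cases k
      · norm_num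
      · norm_num
      · exfalso
        obtain ⟨u, hu⟩ : ∃ u, q = 3 * u + 1 := ⟨q / 3, by omega⟩
        rw [hu, show (3 * u + 1) ^ 2 + (3 * u + 1) + 1 = 3 + 9 * (u ^ 2 + u) by ring] at hdQ
        have := (Nat.dvd_add_left (Dvd.intro _ rfl)).mp hdQ
        norm_num at this
    have hx3 : x ^ 3 = 1 := by
      obtain ⟨k, hk⟩ := hd
      exact (congrArg (fun n : ℕ => x ^ n) hk).trans (by rw [pow_mul, hg, one_pow])
    obtain ⟨g, hg'⟩ := IsCyclic.exists_ofOrder_eq_natCard (α := Fˣ)
    rw [Nat.card_units, Nat.card_eq_fintype_card, ← hq] at hg'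
    have hq2 : 2 ≤ q := by rw [hq]; exact Fintype.one_lt_card
    obtain ⟨w, hw⟩ : ∃ w : Fˣ, w = g ^ ((q - 1) / 3) := ⟨_, rfl⟩
    have hw3 : (w : F) ^ 3 = 1 := by
      rw [← Units.val_pow_eq_pow_val, hw, ← pow_mul, show (q - 1) / 3 * 3 = q - 1 by omega, ← hg', pow_orderOf_eq_one,
        Units.val_one]
    have hw1 : (w : F) ≠ 1 := fun e => by
      have : g ^ ((q - 1) / 3) = 1 := by rw [← hw]; exact Units.ext e
      have hd' := orderOf_dvd_of_pow_eq_one this
      rw [hg'] at hd'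
      have := Nat.le_of_dvd (by omega) hd'
      omega
    have hsum : (w : F) ^ 2 + w + 1 = 0 := (mul_eq_zero.mp (show ((w : F) - 1) * ((w : F) ^ 2 + w + 1) = 0 by
      linear_combination hw3)).resolve_left (sub_ne_zero.mpr hw1)
    obtain ⟨X, hX⟩ : ∃ X : Matrix (Fin 3) (Fin 3) F, X = (x : Matrix (Fin 3) (Fin 3) F) := ⟨_, rfl⟩
    have hXK : X ∈ K := hX ▸ hx.1
    have hX3 : X * (X * X) = 1 := by
      have := congrArg Units.val hx3
      rw [Units.val_pow_eq_pow_val, Units.val_one, ← hX, pow_succ', pow_two] at this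
      exact this
    have e : (X - (1 : F) • 1) * ((X - (w : F) • 1) * (X - ((w : F) ^ 2) • 1)) = 0 := by
      have : (X - (1 : F) • 1) * ((X - (w : F) • 1) * (X - ((w : F) ^ 2) • 1)) = X * (X * X) -
          ((w : F) ^ 2 + w + 1) • (X * X) + ((w : F) * ((w : F) ^ 2 + w + 1)) • X - ((w : F) ^ 3) • 1 := by
        simp only [Matrix.mul_sub, Matrix.sub_mul, Matrix.mul_smul, Matrix.smul_mul, Matrix.mul_one, Matrix.one_mul,
          smul_sub, smul_smul, one_smul]
        module
      rw [this, hsum, hw3, hX3]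
      simp
    have hsub : ∀ a : F, X - a • 1 ∈ K := fun a => sub_mem hXK (K.smul_mem (one_mem K) a)
    rcases fieldSubalgebra_mul_eq_zero hK (hsub 1) e with h | h
    · exact ⟨1, by rw [← hX]; exact sub_eq_zero.mp h⟩
    rcases fieldSubalgebra_mul_eq_zero hK (hsub w) h with h | h
    · exact ⟨w, by rw [← hX]; exact sub_eq_zero.mp h⟩
    · exact ⟨(w : F) ^ 2, by rw [← hX]; exact sub_eq_zero.mp h⟩
  · have hd : Nat.gcd 9 (q ^ 2 + q + 1) = 1 := by
      have h3 : Nat.Coprime 3 (q ^ 2 + q + 1) := by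
        refine Nat.prime_three.coprime_iff_not_dvd.mpr fun hd => ?_
        have : q % 3 = 0 ∨ q % 3 = 2 := by omega
        rcases this with h' | h' <;>
          (rw [Nat.dvd_iff_mod_eq_zero, Nat.add_mod, Nat.add_mod (q ^ 2), Nat.pow_mod, h'] at hd; norm_num at hd)
      exact Nat.Coprime.pow_left 2 h3
    rw [hd, pow_one] at hg
    exact ⟨1, by rw [hg, Units.val_one, one_smul]⟩

end Cfsg.Agent.Classical.LinThree
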