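/-
Triangular subgroups of `GL_3` and the two exceptional orders.
-/
import Cfsg.Agent.Lib.Classical.LinThree.MonMain
import Cfsg.Agent.Lib.Classical.LinThree.SingerCard

set_option autoImplicit false
set_option linter.unusedSectionVars false

namespace Cfsg.Agent.Classical.LinThree

open Matrix Cfsg.Geo
open Cfsg.Agent.Classical
open scoped Pointwise
open Cfsg.Agent.Classical.LMonFour (IsMon isMon_mul isMon_inv mon_perm)

variable (F : Type*) [Field F] [Fintype F]

/-- Invertible triangular matrices. -/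
def Tri : Subgroup (GL (Fin 3) F) where
  carrier := {g | (g : Matrix (Fin 3) (Fin 3) F) 1 0 = 0 ∧ (g : Matrix (Fin 3) (Fin 3) F) 2 0 = 0 ∧
    (g : Matrix (Fin 3) (Fin 3) F) 2 1 = 0}
  one_mem' := by simp
  mul_mem' {a b} ha hb := by
    obtain ⟨a1, a2, a3⟩ := ha
    obtain ⟨b1, b2, b3⟩ := hb
    refine ⟨?_, ?_, ?_⟩ <;> simp [Matrix.mul_apply, Fin.sum_univ_three, a1, a2, a3, b1, b2, b3]
  inv_mem' {a} ha := by
    obtain ⟨a1, a2, a3⟩ := ha
    have hd : (a : Matrix (Fin 3) (Fin 3) F).det ≠ 0 := ((Matrix.isUnit_iff_isUnit_det _).mp a.isUnit).ne_zero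
    rw [det_fin_three, a1, a2, a3] at hd
    obtain ⟨b, hb⟩ : ∃ b, b = ((a⁻¹ : GL (Fin 3) F) : Matrix (Fin 3) (Fin 3) F) := ⟨_, rfl⟩
    have e : b * (a : Matrix (Fin 3) (Fin 3) F) = 1 := by rw [hb, ← Units.val_mul, inv_mul_cancel, Units.val_one]
    have h0 : (a : Matrix (Fin 3) (Fin 3) F) 0 0 ≠ 0 := fun h => hd (by rw [h]; ring)
    have h11 : (a : Matrix (Fin 3) (Fin 3) F) 1 1 ≠ 0 := fun h => hd (by rw [h]; ring)
    have c1 := congrFun (congrFun e 1) 0
    have c2 := congrFun (congrFun e 2) 0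
    have c3 := congrFun (congrFun e 2) 1
    simp [Matrix.mul_apply, Fin.sum_univ_three, a1, a2, h0] at c1 c2
    simp [Matrix.mul_apply, Fin.sum_univ_three, a3, c2, h11] at c3
    rw [Set.mem_setOf_eq, ← hb]
    exact ⟨c1, c2, c3⟩

/-- Unitriangular matrices. -/
def Uni : Subgroup (GL (Fin 3) F) where
  carrier := {g | g ∈ Tri F ∧ ∀ i, (g : Matrix (Fin 3) (Fin 3) F) i i = 1}
  one_mem' := ⟨one_mem _, fun i => by simp⟩
  mul_mem' {a b} ha hb := by
    refine ⟨mul_mem ha.1 hb.1, fun i => ?_⟩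
    obtain ⟨a1, a2, a3⟩ := ha.1
    obtain ⟨b1, b2, b3⟩ := hb.1
    fin_cases i <;> simp [Matrix.mul_apply, Fin.sum_univ_three, a1, a2, a3, b1, b2, b3, ha.2, hb.2]
  inv_mem' {a} ha := by
    refine ⟨inv_mem ha.1, fun i => ?_⟩
    obtain ⟨b1, b2, b3⟩ := (Tri F).inv_mem ha.1
    obtain ⟨a1, a2, a3⟩ := ha.1
    obtain ⟨c, hc⟩ : ∃ c, c = ((a⁻¹ : GL (Fin 3) F) : Matrix (Fin 3) (Fin 3) F) := ⟨_, rfl⟩
    rw [← hc] at b1 b2 b3 ⊢
    have e := congrFun (congrFun (show c * (a : Matrix (Fin 3) (Fin 3) F) = 1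
      by rw [hc, ← Units.val_mul, inv_mul_cancel, Units.val_one]) i) i
    fin_cases i <;> simp [Matrix.mul_apply, Fin.sum_univ_three, a1, a2, a3, b1, b2, b3, ha.2] at e <;> exact e

theorem card_tri : Nat.card (Tri F) = (Fintype.card F - 1) ^ 3 * Fintype.card F ^ 3 := by
  classical
  let f : (Fin 3 → Fˣ) × (Fin 3 → F) → Tri F := fun p =>
    ⟨GeneralLinearGroup.mkOfDetNeZero !![(p.1 0 : F), p.2 0, p.2 1; 0, (p.1 1 : F), p.2 2; 0, 0, (p.1 2 : F)]
      (by rw [det_fin_three]; simp), by simp [Tri]⟩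
  have hf : Function.Bijective f := by
    constructor
    · intro p q h
      have e := congrArg (fun z : Tri F => ((z : GL (Fin 3) F) : Matrix (Fin 3) (Fin 3) F)) h
      simp only [f, GeneralLinearGroup.val_mkOfDetNeZero] at e
      refine Prod.ext (funext fun i => Units.ext ?_) (funext fun i => ?_)
      · fin_cases i
        · simpa using congrFun (congrFun e 0) 0
        · simpa using congrFun (congrFun e 1) 1
        · simpa using congrFun (congrFun e 2) 2
      · fin_cases i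
        · simpa using congrFun (congrFun e 0) 1
        · simpa using congrFun (congrFun e 0) 2
        · simpa using congrFun (congrFun e 1) 2
    · intro g
      obtain ⟨a1, a2, a3⟩ := g.2
      have hd : ((g : GL (Fin 3) F) : Matrix (Fin 3) (Fin 3) F).det ≠ 0 :=
        ((Matrix.isUnit_iff_isUnit_det _).mp (g : GL (Fin 3) F).isUnit).ne_zero
      rw [det_fin_three, a1, a2, a3] at hd
      have hi : ∀ i, ((g : GL (Fin 3) F) : Matrix (Fin 3) (Fin 3) F) i i ≠ 0 := fun i h => hd (by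
        fin_cases i <;> simp at h <;> rw [h] <;> ring)
      refine ⟨(fun i => Units.mk0 _ (hi i), ![((g : GL (Fin 3) F) : Matrix (Fin 3) (Fin 3) F) 0 1,
        ((g : GL (Fin 3) F) : Matrix (Fin 3) (Fin 3) F) 0 2, ((g : GL (Fin 3) F) : Matrix (Fin 3) (Fin 3) F) 1 2]),
        Subtype.ext (Units.ext (by ext i j; fin_cases i <;> fin_cases j <;> simp [f, a1, a2, a3]))⟩
  rw [← Nat.card_congr (Equiv.ofBijective f hf), Nat.card_prod, Nat.card_fun, Nat.card_fun, Nat.card_units,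
    Nat.card_eq_fintype_card (α := F), Nat.card_fin]

theorem card_uni : Nat.card (Uni F) = Fintype.card F ^ 3 := by
  classical
  let f : (Fin 3 → F) → Uni F := fun p =>
    ⟨GeneralLinearGroup.mkOfDetNeZero !![1, p 0, p 1; 0, 1, p 2; 0, 0, 1] (by rw [det_fin_three]; simp),
      by simp [Tri], fun i => by fin_cases i <;> simp⟩
  have hf : Function.Bijective f := by
    constructor
    · intro p q h
      have e := congrArg (fun z : Uni F => ((z : GL (Fin 3) F) : Matrix (Fin 3) (Fin 3) F)) h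
      simp only [f, GeneralLinearGroup.val_mkOfDetNeZero] at e
      funext i
      fin_cases i
      · simpa using congrFun (congrFun e 0) 1
      · simpa using congrFun (congrFun e 0) 2
      · simpa using congrFun (congrFun e 1) 2
    · intro g
      obtain ⟨⟨a1, a2, a3⟩, hd⟩ := g.2
      exact ⟨![((g : GL (Fin 3) F) : Matrix (Fin 3) (Fin 3) F) 0 1, ((g : GL (Fin 3) F) : Matrix (Fin 3) (Fin 3) F) 0 2,
        ((g : GL (Fin 3) F) : Matrix (Fin 3) (Fin 3) F) 1 2],
        Subtype.ext (Units.ext (by ext i j; fin_cases i <;> fin_cases j <;> simp [f, a1, a2, a3, hd]))⟩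
  rw [← Nat.card_congr (Equiv.ofBijective f hf), Nat.card_fun, Nat.card_eq_fintype_card (α := F), Nat.card_fin]

theorem card_gl : Nat.card (GL (Fin 3) F) =
    (Fintype.card F - 1) ^ 3 * Fintype.card F ^ 3 * ((Fintype.card F + 1) * (Fintype.card F ^ 2 + Fintype.card F + 1)) := by
  rw [Matrix.card_GL_field]
  have hq : 1 ≤ Fintype.card F := Fintype.card_pos
  obtain ⟨m, hm⟩ : ∃ m, Fintype.card F = m + 1 := ⟨_, (Nat.succ_pred_eq_of_pos hq).symm⟩
  rw [hm, Fin.prod_univ_three]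
  simp only [Fin.val_zero, Fin.val_one, Fin.val_two, pow_zero, pow_one, Nat.add_sub_cancel]
  have e0 : (m + 1) ^ 3 - 1 = m * ((m + 1) ^ 2 + (m + 1) + 1) := by
    have : (m + 1) ^ 3 = m * ((m + 1) ^ 2 + (m + 1) + 1) + 1 := by ring
    omega
  have e1 : (m + 1) ^ 3 - (m + 1) = (m + 1) * m * (m + 2) := by
    have : (m + 1) ^ 3 = (m + 1) * m * (m + 2) + (m + 1) := by ring
    omega
  have e2 : (m + 1) ^ 3 - (m + 1) ^ 2 = (m + 1) ^ 2 * m := by
    have : (m + 1) ^ 3 = (m + 1) ^ 2 * m + (m + 1) ^ 2 := by ring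
    omega
  rw [e0, e1, e2]
  ring

theorem card_sl_mul : Nat.card (specialLinear (Fin 3) F) * (Fintype.card F - 1) = Nat.card (GL (Fin 3) F) := by
  have h := Subgroup.card_eq_card_quotient_mul_card_subgroup (specialLinear (Fin 3) F)
  have hs : Function.Surjective (Matrix.GeneralLinearGroup.det : GL (Fin 3) F →* Fˣ) := fun a =>
    ⟨GeneralLinearGroup.mkOfDetNeZero !![(a : F), 0, 0; 0, 1, 0; 0, 0, 1] (by rw [det_fin_three]; simp),
      Units.ext (by rw [Matrix.GeneralLinearGroup.val_det_apply, GeneralLinearGroup.val_mkOfDetNeZero, det_fin_three]; simp)⟩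
  have e : Nat.card (GL (Fin 3) F ⧸ specialLinear (Fin 3) F) = Fintype.card F - 1 := by
    rw [← Nat.card_eq_fintype_card, ← Nat.card_units]
    exact Nat.card_congr (QuotientGroup.quotientKerEquivOfSurjective _ hs).toEquiv
  rw [h, e]; ring

variable {F}

/-- A group of order `3 Q q^3` containing the torus is too large. -/
theorem no_sylow_order {G : Subgroup (GL (Fin 3) F)} (hG : G ≤ specialLinear (Fin 3) F)
    (hirr : ∀ W : Submodule F (Fin 3 → F), W ≠ ⊥ → W ≠ ⊤ →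
      ∃ g ∈ G, ∃ w ∈ W, (g : Matrix (Fin 3) (Fin 3) F) *ᵥ w ∉ W)
    (hdvd : Fintype.card F ^ 3 ∣ Nat.card G) : specialLinear (Fin 3) F ≤ G := by
  classical
  obtain ⟨p, hp⟩ := CharP.exists F
  obtain ⟨n, hpp, hn⟩ := FiniteField.card F p
  haveI : Fact p.Prime := ⟨hpp⟩
  obtain ⟨P, hP⟩ := Sylow.exists_subgroup_card_pow_prime p (show p ^ ((n : ℕ) * 3) ∣ Nat.card G by
    rw [pow_mul, ← hn]; exact hdvd)
  have hfac : (Nat.card (GL (Fin 3) F)).factorization p = (n : ℕ) * 3 := by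
    have hnd : ∀ d : ℕ, ¬ p ∣ d → (p ^ ((n : ℕ) * 3) * d).factorization p = (n : ℕ) * 3 := fun d hd => by
      rw [Nat.factorization_mul (pow_ne_zero _ hpp.ne_zero) (show d ≠ 0 from fun e => hd (by rw [e]; exact dvd_zero p)),
        Finsupp.add_apply,
        hpp.factorization_pow, Finsupp.single_eq_same, Nat.factorization_eq_zero_of_not_dvd hd, add_zero]
    have hp1 : ¬ p ∣ (p ^ (n : ℕ) - 1) := fun h => by
      have h' : p ∣ p ^ (n : ℕ) := dvd_pow_self p n.ne_zero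
      have := Nat.dvd_sub h' h
      rw [Nat.sub_sub_self (Nat.one_le_pow _ _ hpp.pos)] at this
      exact hpp.not_dvd_one this
    have hp2 : ¬ p ∣ (p ^ (n : ℕ) + 1) := fun h => hpp.not_dvd_one ((Nat.dvd_add_right (dvd_pow_self p n.ne_zero)).mp h)
    have hp3 : ¬ p ∣ ((p ^ (n : ℕ)) ^ 2 + p ^ (n : ℕ) + 1) := fun h => hpp.not_dvd_one
      ((Nat.dvd_add_right (dvd_add (dvd_pow (dvd_pow_self p n.ne_zero) two_ne_zero) (dvd_pow_self p n.ne_zero))).mp h)
    rw [card_gl, hn, mul_comm ((p ^ (n : ℕ) - 1) ^ 3), mul_assoc, ← pow_mul, hnd]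
    rw [hpp.dvd_mul, hpp.dvd_mul]
    rintro (h | h | h)
    · exact hp1 (hpp.dvd_of_dvd_pow h)
    · exact hp2 h
    · exact hp3 h
  have hc : ∀ X : Subgroup (GL (Fin 3) F), Nat.card X = p ^ ((n : ℕ) * 3) →
      Nat.card X = p ^ (Nat.card (GL (Fin 3) F)).factorization p := fun X h => by rw [h, hfac]
  obtain ⟨g, hg⟩ := MulAction.exists_smul_eq (GL (Fin 3) F)
    (Sylow.ofCard (P.map G.subtype) (hc _ (by rw [Subgroup.card_map_of_injective G.subtype_injective, hP])))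
    (Sylow.ofCard (Uni F) (hc _ (by rw [card_uni, hn, pow_mul])))
  have hU : ∀ u ∈ Uni F, g⁻¹ * u * g ∈ G := by
    intro u hu
    have e := congrArg (fun S : Sylow p (GL (Fin 3) F) => (S : Subgroup (GL (Fin 3) F))) hg
    simp only [Sylow.coe_subgroup_smul] at e
    have hu' : u ∈ (MulAut.conj g • (P.map G.subtype) : Subgroup (GL (Fin 3) F)) := by
      have : u ∈ ((Sylow.ofCard (Uni F) (hc _ (by rw [card_uni, hn, pow_mul])) : Sylow p _) : Subgroup (GL (Fin 3) F)) := by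
        rw [Sylow.coe_ofCard]; exact hu
      rw [← e, Sylow.coe_ofCard] at this
      exact this
    obtain ⟨y, hy, rfl⟩ := hu'
    obtain ⟨z, -, rfl⟩ := hy
    simp [MulAut.conj_apply, mul_assoc]
  -- move to the standard flag
  let G' := G.comap (MulAut.conj g⁻¹).toMonoidHom
  have hG' : ∀ x, x ∈ G' ↔ g⁻¹ * x * g ∈ G := fun x => by simp [G', MulAut.conj_apply]
  have h01 : ∀ c, transGL (show (0 : Fin 3) ≠ 1 by decide) c ∈ G' := fun c => (hG' _).mpr (hU _ ⟨by
    refine ⟨?_, ?_, ?_⟩ <;> simp [transGL_coe, transvection, Matrix.single],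
    fun i => by fin_cases i <;> simp [transGL_coe, transvection, Matrix.single]⟩)
  have h02 : ∀ c, transGL (show (0 : Fin 3) ≠ 2 by decide) c ∈ G' := fun c => (hG' _).mpr (hU _ ⟨by
    refine ⟨?_, ?_, ?_⟩ <;> simp [transGL_coe, transvection, Matrix.single],
    fun i => by fin_cases i <;> simp [transGL_coe, transvection, Matrix.single]⟩)
  have h12 : ∀ c, transGL (show (1 : Fin 3) ≠ 2 by decide) c ∈ G' := fun c => (hG' _).mpr (hU _ ⟨by
    refine ⟨?_, ?_, ?_⟩ <;> simp [transGL_coe, transvection, Matrix.single],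
    fun i => by fin_cases i <;> simp [transGL_coe, transvection, Matrix.single]⟩)
  obtain ⟨h, hhG, hh⟩ : ∃ h ∈ G', (h : Matrix (Fin 3) (Fin 3) F) 2 0 ≠ 0 := by
    by_contra hcon
    push Not at hcon
    -- the orbit of the first point stays in a plane
    obtain ⟨W, hW⟩ : ∃ W : Submodule F (Fin 3 → F), W = Submodule.span F
        {w | ∃ x ∈ G', w = ((g⁻¹ : GL (Fin 3) F) : Matrix (Fin 3) (Fin 3) F) *ᵥ ((x : Matrix (Fin 3) (Fin 3) F) *ᵥ Pi.single 0 1)} :=
      ⟨_, rfl⟩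
    have hinv : ∀ y ∈ G, ∀ w ∈ W, (y : Matrix (Fin 3) (Fin 3) F) *ᵥ w ∈ W := by
      intro y hy w hw
      rw [hW] at hw ⊢
      induction hw using Submodule.span_induction with
      | mem w hw =>
        obtain ⟨x, hx, rfl⟩ := hw
        refine Submodule.subset_span ⟨g * y * g⁻¹ * x, mul_mem ((hG' _).mpr (by
          rwa [show g⁻¹ * (g * y * g⁻¹) * g = y by group])) hx, ?_⟩
        rw [gl_mul_mulVec, gl_mul_mulVec, gl_mul_mulVec, gl_inv_mulVec_cancel]
      | zero => rw [Matrix.mulVec_zero]; exact Submodule.zero_mem _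
      | add a b _ _ ha hb => rw [Matrix.mulVec_add]; exact Submodule.add_mem _ ha hb
      | smul c a _ ha => rw [Matrix.mulVec_smul]; exact Submodule.smul_mem _ c ha
    have hW0 : W ≠ ⊥ := fun e => by
      have : ((g⁻¹ : GL (Fin 3) F) : Matrix (Fin 3) (Fin 3) F) *ᵥ Pi.single 0 1 ∈ W :=
        hW ▸ Submodule.subset_span ⟨1, one_mem _, by rw [Units.val_one, Matrix.one_mulVec]⟩
      rw [e, Submodule.mem_bot, ← Matrix.mulVec_zero ((g⁻¹ : GL (Fin 3) F) : Matrix (Fin 3) (Fin 3) F)] at this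
      simpa using congrFun (gl_mulVec_injective _ this) 0
    have hW1 : W ≠ ⊤ := fun e => by
      have h2 : ∀ w ∈ W, ((g : Matrix (Fin 3) (Fin 3) F) *ᵥ w) 2 = 0 := fun w hw => by
        rw [hW] at hw
        induction hw using Submodule.span_induction with
        | mem w hw =>
          obtain ⟨x, hx, rfl⟩ := hw
          rw [gl_mulVec_inv_cancel, mulVec_single_one]
          exact hcon x hx
        | zero => rw [Matrix.mulVec_zero]; rfl
        | add a b _ _ ha hb => rw [Matrix.mulVec_add, Pi.add_apply, ha, hb, add_zero]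
        | smul c a _ ha => rw [Matrix.mulVec_smul, Pi.smul_apply, ha, smul_zero]
      have := h2 (((g⁻¹ : GL (Fin 3) F) : Matrix (Fin 3) (Fin 3) F) *ᵥ Pi.single 2 1) (e ▸ Submodule.mem_top)
      rw [gl_mulVec_inv_cancel] at this
      simp at this
    obtain ⟨y, hy, w, hw, hn'⟩ := hirr W hW0 hW1
    exact hn' (hinv y hy w hw)
  -- normalise to the last point
  obtain ⟨a, ha⟩ : ∃ a, a = -((h : Matrix (Fin 3) (Fin 3) F) 1 0 / (h : Matrix (Fin 3) (Fin 3) F) 2 0) := ⟨_, rfl⟩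
  obtain ⟨b, hb⟩ : ∃ b, b = -((h : Matrix (Fin 3) (Fin 3) F) 0 0 / (h : Matrix (Fin 3) (Fin 3) F) 2 0) := ⟨_, rfl⟩
  obtain ⟨k, hkG, hk0, hk1, hk2⟩ : ∃ k ∈ G', (k : Matrix (Fin 3) (Fin 3) F) 0 0 = 0 ∧
      (k : Matrix (Fin 3) (Fin 3) F) 1 0 = 0 ∧ (k : Matrix (Fin 3) (Fin 3) F) 2 0 ≠ 0 := by
    refine ⟨transGL (show (0 : Fin 3) ≠ 2 by decide) b * transGL (show (1 : Fin 3) ≠ 2 by decide) a * h,
      mul_mem (mul_mem (h02 b) (h12 a)) hhG, ?_, ?_, ?_⟩ <;>
      simp [Matrix.mul_apply, Matrix.vecMul, dotProduct, Fin.sum_univ_three, transGL_coe, transvection, Matrix.single, ha, hb, hh]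
  obtain ⟨κ, hκ⟩ : ∃ κ, κ = (k : Matrix (Fin 3) (Fin 3) F) 2 0 := ⟨_, rfl⟩
  rw [← hκ] at hk2
  -- transvections with the last point as centre
  have hlast : ∀ u₀ u₁, ∃ t ∈ G', ∀ x, (t : Matrix (Fin 3) (Fin 3) F) *ᵥ x = x + (u₀ * x 0 + u₁ * x 1) • Pi.single 2 1 := by
    intro u₀ u₁
    obtain ⟨φ, hφ⟩ : ∃ φ : Fin 3 → F, φ = κ⁻¹ • ((![u₀, u₁, 0] : Fin 3 → F) ᵥ* (k : Matrix (Fin 3) (Fin 3) F)) := ⟨_, rfl⟩
    have hφ0 : φ 0 = 0 := by simp [hφ, Matrix.vecMul, dotProduct, Fin.sum_univ_three, hk0, hk1]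
    refine ⟨k * (transGL (show (0 : Fin 3) ≠ 1 by decide) (φ 1) * transGL (show (0 : Fin 3) ≠ 2 by decide) (φ 2)) * k⁻¹,
      mul_mem (mul_mem hkG (mul_mem (h01 _) (h02 _))) (inv_mem hkG), fun x => ?_⟩
    obtain ⟨y, rfl⟩ : ∃ y, x = (k : Matrix (Fin 3) (Fin 3) F) *ᵥ y :=
      ⟨((k⁻¹ : GL (Fin 3) F) : Matrix (Fin 3) (Fin 3) F) *ᵥ x, (gl_mulVec_inv_cancel k x).symm⟩
    rw [gl_mul_mulVec, gl_inv_mulVec_cancel, gl_mul_mulVec, gl_mul_mulVec, transGL_mulVec, transGL_mulVec,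
      add_assoc, Matrix.mulVec_add]
    congr 1
    have e : φ 0 * y 0 + φ 1 * y 1 + φ 2 * y 2 = κ⁻¹ * (u₀ * ((k : Matrix (Fin 3) (Fin 3) F) *ᵥ y) 0 +
        u₁ * ((k : Matrix (Fin 3) (Fin 3) F) *ᵥ y) 1) := by
      simp [hφ, Matrix.vecMul, Matrix.mulVec, dotProduct, Fin.sum_univ_three]
      ring
    rw [hφ0, zero_mul, zero_add] at e
    have hcol : ∀ c : F, (k : Matrix (Fin 3) (Fin 3) F) *ᵥ Pi.single 0 c = (κ * c) • Pi.single 2 1 := fun c => by
      ext i; fin_cases i <;> simp [Matrix.mulVec, dotProduct, Fin.sum_univ_three, hk0, hk1, hκ]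
    rw [Matrix.mulVec_add, hcol, hcol, ← add_smul]
    congr 1
    simp only [Pi.add_apply, Pi.single_eq_of_ne (show (1 : Fin 3) ≠ 0 by decide), add_zero]
    linear_combination κ * e + (u₀ * ((k : Matrix (Fin 3) (Fin 3) F) *ᵥ y) 0 +
      u₁ * ((k : Matrix (Fin 3) (Fin 3) F) *ᵥ y) 1) * mul_inv_cancel₀ hk2
  have h20 : ∀ c, transGL (show (2 : Fin 3) ≠ 0 by decide) c ∈ G' := fun c => by
    obtain ⟨t, ht, hte⟩ := hlast c 0
    convert ht
    exact gl_ext_mulVec fun x => by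
      rw [transGL_mulVec, hte]; congr 1; ext i; fin_cases i <;> simp
  have h21 : ∀ c, transGL (show (2 : Fin 3) ≠ 1 by decide) c ∈ G' := fun c => by
    obtain ⟨t, ht, hte⟩ := hlast 0 c
    convert ht
    exact gl_ext_mulVec fun x => by
      rw [transGL_mulVec, hte]; congr 1; ext i; fin_cases i <;> simp
  have h10 : ∀ c, transGL (show (1 : Fin 3) ≠ 0 by decide) c ∈ G' := fun c => by
    rw [eq_mul_inv_of_mul_eq (show transGL (show (1 : Fin 3) ≠ 0 by decide) c *
        (transGL (show (2 : Fin 3) ≠ 0 by decide) 1 * transGL (show (1 : Fin 3) ≠ 2 by decide) c) =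
        transGL (show (1 : Fin 3) ≠ 2 by decide) c * transGL (show (2 : Fin 3) ≠ 0 by decide) 1 from Units.ext (by
      rw [Units.val_mul, Units.val_mul, Units.val_mul, transGL_coe, transGL_coe, transGL_coe]
      ext i j; fin_cases i <;> fin_cases j <;>
        simp [Matrix.mul_apply, Matrix.vecMul, dotProduct, Fin.sum_univ_three, transvection, Matrix.single]))]
    exact mul_mem (mul_mem (h12 c) (h20 1)) (inv_mem (mul_mem (h20 1) (h12 c)))
  have hfull : specialLinear (Fin 3) F ≤ G' := (specialLinear_le_iff G').mpr fun i j hij b => by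
    fin_cases i <;> fin_cases j <;> first
      | exact absurd rfl hij
      | exact h01 b
      | exact h02 b
      | exact h12 b
      | exact h10 b
      | exact h20 b
      | exact h21 b
  intro x hx
  have := (hG' _).mp (hfull (specialLinear_normal.conj_mem _ hx g))
  rwa [show g⁻¹ * (g * x * g⁻¹) * g = x by group] at this

end Cfsg.Agent.Classical.LinThree
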