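/-
A group acting regularly enough on flags contains a monomial group.
-/
import Cfsg.Agent.Lib.Classical.LinThree.SingerTri

set_option autoImplicit false
set_option linter.unusedSectionVars false

namespace Cfsg.Agent.Classical.LinThree

open Matrix Cfsg.Geo
open Cfsg.Agent.Classical
open Cfsg.Agent.Classical.LMonFour (IsMon isMon_mul isMon_inv mon_perm)

variable {F : Type*} [Field F] [Fintype F]

/-- A group of order `Q (q - 1)^2 (q + 1)` is too large. -/
theorem no_flag_order {G : Subgroup (GL (Fin 3) F)} (hG : G ≤ specialLinear (Fin 3) F) (h5 : 5 ≤ Fintype.card F)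
    (hcard : Nat.card G = (Fintype.card F ^ 2 + Fintype.card F + 1) * ((Fintype.card F - 1) ^ 2 * (Fintype.card F + 1))) :
    specialLinear (Fin 3) F ≤ G := by
  classical
  obtain ⟨p, hp⟩ := CharP.exists F
  obtain ⟨nn, hpp, hn⟩ := FiniteField.card F p
  haveI : Fact p.Prime := ⟨hpp⟩
  have hq : 2 ≤ Fintype.card F := by omega
  obtain ⟨q, hqe⟩ : ∃ q, q = Fintype.card F := ⟨_, rfl⟩
  rw [← hqe] at h5 hcard hq
  have hpG : ¬ p ∣ Nat.card G := by
    rw [hcard, hpp.dvd_mul, hpp.dvd_mul, hqe, hn]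
    rintro (h | h | h)
    · exact hpp.not_dvd_one
        ((Nat.dvd_add_right (dvd_add (dvd_pow (dvd_pow_self p nn.ne_zero) two_ne_zero) (dvd_pow_self p nn.ne_zero))).mp h)
    · have h' : p ∣ p ^ (nn : ℕ) := dvd_pow_self p nn.ne_zero
      have := Nat.dvd_sub h' (hpp.dvd_of_dvd_pow h)
      rw [Nat.sub_sub_self (Nat.one_le_pow _ _ hpp.pos)] at this
      exact hpp.not_dvd_one this
    · exact hpp.not_dvd_one ((Nat.dvd_add_right (dvd_pow_self p nn.ne_zero)).mp h)
  -- the diagonal of a triangular element determines it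
  have hU : ∀ g : GL (Fin 3) F, g ∈ G → g ∈ Uni F → g = 1 := by
    intro g hg hu
    have h1 : g ^ (q ^ 3) = 1 := by
      have := congrArg Subtype.val (pow_card_eq_one' (G := Uni F) (x := ⟨g, hu⟩))
      rw [card_uni, ← hqe] at this
      exact this
    have h2 : g ^ Nat.card G = 1 := congrArg Subtype.val (pow_card_eq_one' (G := G) (x := ⟨g, hg⟩))
    have hcop : Nat.Coprime (q ^ 3) (Nat.card G) := by
      rw [hqe, hn, ← pow_mul]
      exact Nat.Coprime.pow_left _ (hpp.coprime_iff_not_dvd.mpr hpG)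
    have := pow_gcd_eq_one.mpr ⟨h1, h2⟩
    rwa [hcop, pow_one] at this
  -- every flag stabiliser has order (q - 1) ^ 2
  let f2 : F → F → Fˣ × Fˣ := fun a b => if h : a ≠ 0 ∧ b ≠ 0 then (Units.mk0 _ h.1, Units.mk0 _ h.2) else 1
  let D : Subgroup (GL (Fin 3) F) → GL (Fin 3) F → Fˣ × Fˣ := fun _ g =>
    f2 ((g : Matrix (Fin 3) (Fin 3) F) 0 0) ((g : Matrix (Fin 3) (Fin 3) F) 1 1)
  have hdiag : ∀ g : GL (Fin 3) F, g ∈ Tri F → g ∈ specialLinear (Fin 3) F →
      (g : Matrix (Fin 3) (Fin 3) F) 0 0 * (g : Matrix (Fin 3) (Fin 3) F) 1 1 * (g : Matrix (Fin 3) (Fin 3) F) 2 2 = 1 := by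
    intro g hg hs
    have := mem_specialLinear_iff.mp hs
    rw [det_fin_three, hg.1, hg.2.1, hg.2.2] at this
    linear_combination this
  have key : ∀ x : GL (Fin 3) F, Nat.card ((G.comap (MulAut.conj x).toMonoidHom ⊓ Tri F : Subgroup (GL (Fin 3) F))) = (q - 1) ^ 2 ∧
      Function.Bijective (fun g : (G.comap (MulAut.conj x).toMonoidHom ⊓ Tri F : Subgroup (GL (Fin 3) F)) => D G g) := by
    intro x
    have hsl : ∀ g ∈ G.comap (MulAut.conj x).toMonoidHom, g ∈ specialLinear (Fin 3) F := fun g hg => by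
      have := specialLinear_normal.conj_mem _ (hG hg) x⁻¹
      simpa [MulAut.conj_apply, mul_assoc] using this
    have hle : Nat.card G ≤ Nat.card ((G.comap (MulAut.conj x).toMonoidHom ⊓ Tri F : Subgroup (GL (Fin 3) F))) *
        ((q + 1) * (q ^ 2 + q + 1)) := by
      have hG' : Nat.card (G.comap (MulAut.conj x).toMonoidHom) = Nat.card G :=
        Nat.card_congr ((MulAut.conj x).toEquiv.subtypeEquiv fun g => Iff.rfl)
      rw [← hG', ← Subgroup.card_mul_index ((Tri F).subgroupOf (G.comap (MulAut.conj x).toMonoidHom))]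
      refine Nat.mul_le_mul (le_of_eq ?_) ?_
      · rw [← Subgroup.inf_subgroupOf_left,
          Nat.card_congr (Subgroup.subgroupOfEquivOfLe inf_le_left).toEquiv]
      · refine (Subgroup.relIndex_le_of_le_right (H := Tri F) (le_top : (G.comap (MulAut.conj x).toMonoidHom) ≤ ⊤) ?_).trans (le_of_eq ?_)
        · rw [Subgroup.relIndex_top_right]; exact Subgroup.index_ne_zero_of_finite
        rw [Subgroup.relIndex_top_right]
        · have h := Subgroup.card_mul_index (Tri F)
          rw [card_tri, card_gl, ← hqe] at h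
          have hpos : 0 < (q - 1) ^ 3 * q ^ 3 := Nat.mul_pos (pow_pos (by omega) 3) (pow_pos (by omega) 3)
          exact Nat.eq_of_mul_eq_mul_left hpos h
    have hinj : Function.Injective (fun g : (G.comap (MulAut.conj x).toMonoidHom ⊓ Tri F : Subgroup (GL (Fin 3) F)) => D G g) := by
      intro a b hab
      obtain ⟨a, ha'⟩ := a
      obtain ⟨b, hb'⟩ := b
      have haG : a ∈ G.comap (MulAut.conj x).toMonoidHom := ha'.1
      have hbG : b ∈ G.comap (MulAut.conj x).toMonoidHom := hb'.1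
      have haT : a ∈ Tri F := ha'.2
      have hbT : b ∈ Tri F := hb'.2
      have nz : ∀ g : GL (Fin 3) F, g ∈ Tri F → g ∈ specialLinear (Fin 3) F →
          (g : Matrix (Fin 3) (Fin 3) F) 0 0 ≠ 0 ∧ (g : Matrix (Fin 3) (Fin 3) F) 1 1 ≠ 0 := fun g h h' => by
        have := hdiag g h h'
        constructor <;> intro e <;> simp [e] at this
      have na := nz a haT (hsl a haG)
      have nb := nz b hbT (hsl b hbG)
      simp only [D, f2, dif_pos na, dif_pos nb, Prod.mk.injEq, Units.ext_iff, Units.val_mk0] at hab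
      obtain ⟨e0, e1⟩ := hab
      have e2 : (a : Matrix (Fin 3) (Fin 3) F) 2 2 = (b : Matrix (Fin 3) (Fin 3) F) 2 2 := by
        have ha := hdiag a haT (hsl a haG)
        have hb := hdiag b hbT (hsl b hbG)
        rw [e0, e1] at ha
        exact mul_left_cancel₀ (mul_ne_zero nb.1 nb.2) (ha.trans hb.symm)
      have hu : a * b⁻¹ ∈ Uni F := by
        have hT := mul_mem haT (inv_mem hbT)
        refine ⟨hT, fun i => ?_⟩
        obtain ⟨c, hc⟩ : ∃ c, c = ((a * b⁻¹ : GL (Fin 3) F) : Matrix (Fin 3) (Fin 3) F) := ⟨_, rfl⟩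
        have e : c * (b : Matrix (Fin 3) (Fin 3) F) = (a : Matrix (Fin 3) (Fin 3) F) := by
          rw [hc, ← Units.val_mul, inv_mul_cancel_right]
        obtain ⟨c1, c2, c3⟩ := hT
        rw [← hc] at c1 c2 c3
        have n2 : (b : Matrix (Fin 3) (Fin 3) F) 2 2 ≠ 0 := fun h => by
          have := hdiag b hbT (hsl b hbG); simp [h] at this
        have := congrFun (congrFun e i) i
        rw [← hc]
        fin_cases i <;> simp [Matrix.mul_apply, Fin.sum_univ_three, c1, c2, c3, hbT.1, hbT.2.1, hbT.2.2, e0, e1, e2] at this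
        · exact mul_right_cancel₀ nb.1 (this.trans (one_mul _).symm)
        · exact mul_right_cancel₀ nb.2 (this.trans (one_mul _).symm)
        · exact mul_right_cancel₀ n2 (this.trans (one_mul _).symm)
      have h1 : (MulAut.conj x).toMonoidHom (a * b⁻¹) = 1 := by
        have hg : (MulAut.conj x).toMonoidHom (a * b⁻¹) ∈ G :=
          (G.comap (MulAut.conj x).toMonoidHom).mul_mem haG ((G.comap (MulAut.conj x).toMonoidHom).inv_mem hbG)
        have hq3 : (a * b⁻¹) ^ (q ^ 3) = 1 := by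
          have := congrArg Subtype.val (pow_card_eq_one' (G := Uni F) (x := ⟨_, hu⟩))
          rw [card_uni, ← hqe] at this
          exact this
        have h2 := congrArg Subtype.val (pow_card_eq_one' (G := G) (x := ⟨_, hg⟩))
        have hcop : Nat.Coprime (q ^ 3) (Nat.card G) := by
          rw [hqe, hn, ← pow_mul]
          exact Nat.Coprime.pow_left _ (hpp.coprime_iff_not_dvd.mpr hpG)
        have := pow_gcd_eq_one.mpr ⟨(show ((MulAut.conj x).toMonoidHom (a * b⁻¹)) ^ (q ^ 3) = 1 by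
          rw [← map_pow, hq3, map_one]), (show ((MulAut.conj x).toMonoidHom (a * b⁻¹)) ^ Nat.card G = 1 from h2)⟩
        rwa [hcop, pow_one] at this
      have h1' : a * b⁻¹ = 1 := by
        have := congrArg (MulAut.conj x⁻¹) h1
        simpa [MulAut.conj_apply, mul_assoc] using this
      exact Subtype.ext (mul_inv_eq_one.mp h1')
    have hcardD : Nat.card (Fˣ × Fˣ) = (q - 1) ^ 2 := by
      rw [Nat.card_prod, Nat.card_units, Nat.card_eq_fintype_card, ← hqe, pow_two]
    have hle2 := Nat.card_le_card_of_injective _ hinj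
    rw [hcardD] at hle2
    have heq : Nat.card ((G.comap (MulAut.conj x).toMonoidHom ⊓ Tri F : Subgroup (GL (Fin 3) F))) = (q - 1) ^ 2 := by
      refine le_antisymm hle2 ?_
      rw [hcard, show (q ^ 2 + q + 1) * ((q - 1) ^ 2 * (q + 1)) = (q - 1) ^ 2 * ((q + 1) * (q ^ 2 + q + 1)) by ring] at hle
      exact Nat.le_of_mul_le_mul_right hle (by positivity)
    exact ⟨heq, (Nat.bijective_iff_injective_and_card _).mpr ⟨hinj, by rw [heq, hcardD]⟩⟩
  -- transitivity on flags
  have htrans : ∀ x : GL (Fin 3) F, ∃ h ∈ G, h⁻¹ * x ∈ Tri F := by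
    have h1 := (key 1).1
    have hinf : G.comap (MulAut.conj (1 : GL (Fin 3) F)).toMonoidHom ⊓ Tri F = G ⊓ Tri F := by
      ext g; simp
    rw [hinf] at h1
    let f : G ⧸ (Tri F).subgroupOf G → GL (Fin 3) F ⧸ Tri F := Quotient.map' (fun g : G => (g : GL (Fin 3) F))
      fun a b h => by
        rw [QuotientGroup.leftRel_apply] at h ⊢
        simpa [Subgroup.mem_subgroupOf] using h
    have hf : Function.Injective f := by
      intro a b
      induction a using QuotientGroup.induction_on with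
      | _ a => induction b using QuotientGroup.induction_on with
        | _ b =>
          intro h
          have h' := QuotientGroup.eq.mp (show ((a : GL (Fin 3) F) : GL (Fin 3) F ⧸ Tri F) = ((b : GL (Fin 3) F) : _) from h)
          exact QuotientGroup.eq.mpr (by simpa [Subgroup.mem_subgroupOf] using h')
    have hc : Nat.card (G ⧸ (Tri F).subgroupOf G) = Nat.card (GL (Fin 3) F ⧸ Tri F) := by
      have a := Subgroup.card_eq_card_quotient_mul_card_subgroup ((Tri F).subgroupOf G)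
      have b := Subgroup.card_eq_card_quotient_mul_card_subgroup (Tri F)
      rw [← Subgroup.inf_subgroupOf_left, Nat.card_congr (Subgroup.subgroupOfEquivOfLe inf_le_left).toEquiv, h1,
        Subgroup.inf_subgroupOf_left, hcard] at a
      rw [card_tri, card_gl, ← hqe] at b
      have e1 : Nat.card (G ⧸ (Tri F).subgroupOf G) = (q + 1) * (q ^ 2 + q + 1) :=
        Nat.eq_of_mul_eq_mul_right (pow_pos (show 0 < q - 1 by omega) 2) (by rw [← a]; ring)
      have e2 : Nat.card (GL (Fin 3) F ⧸ Tri F) = (q + 1) * (q ^ 2 + q + 1) :=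
        Nat.eq_of_mul_eq_mul_right (Nat.mul_pos (pow_pos (show 0 < q - 1 by omega) 3) (pow_pos (show 0 < q by omega) 3))
          (by rw [← b]; ring)
      rw [e1, e2]
    intro x
    obtain ⟨a, ha⟩ := ((Nat.bijective_iff_injective_and_card f).mpr ⟨hf, hc⟩).2 (x : GL (Fin 3) F ⧸ Tri F)
    induction a using QuotientGroup.induction_on with
    | _ a =>
      exact ⟨a, a.2, by
        simpa using QuotientGroup.eq.mp (show ((a : GL (Fin 3) F) : GL (Fin 3) F ⧸ Tri F) = (x : _) from ha)⟩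
  -- a diagonalisable element with three eigenvalues
  obtain ⟨g₀, hg₀⟩ := IsCyclic.exists_ofOrder_eq_natCard (α := Fˣ)
  rw [Nat.card_units, Nat.card_eq_fintype_card, ← hqe] at hg₀
  obtain ⟨t, ht⟩ := (key 1).2.2 (g₀, 1)
  obtain ⟨t, htG, htT⟩ := t
  have htG' : t ∈ G := by simpa using htG
  have hslt := hG htG'
  have ht3 := hdiag t htT hslt
  obtain ⟨t00, t11⟩ : (t : Matrix (Fin 3) (Fin 3) F) 0 0 = (g₀ : F) ∧ (t : Matrix (Fin 3) (Fin 3) F) 1 1 = 1 := by
    have nz : (t : Matrix (Fin 3) (Fin 3) F) 0 0 ≠ 0 ∧ (t : Matrix (Fin 3) (Fin 3) F) 1 1 ≠ 0 := by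
      constructor <;> intro e <;> simp [e] at ht3
    simp only [D, f2, dif_pos nz, Prod.mk.injEq, Units.ext_iff, Units.val_mk0, Units.val_one] at ht
    exact ht
  rw [t00, t11, mul_one] at ht3
  have g01 : (g₀ : F) ≠ 1 := fun e => by
    have : orderOf g₀ = 1 := orderOf_eq_one_iff.mpr (Units.ext e)
    omega
  have g02 : (g₀ : F) * (g₀ : F) ≠ 1 := fun e => by
    have := Nat.le_of_dvd (by norm_num) (orderOf_dvd_of_pow_eq_one (show g₀ ^ 2 = 1 from Units.ext (by
      rw [pow_two, Units.val_mul]; exact e)))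
    omega
  have n1 : (t : Matrix (Fin 3) (Fin 3) F) 2 2 ≠ 1 := fun e => g01 (by rw [e, mul_one] at ht3; exact ht3)
  have n2 : (t : Matrix (Fin 3) (Fin 3) F) 2 2 ≠ (g₀ : F) := fun e => g02 (by rw [e] at ht3; exact ht3)
  obtain ⟨a, ha⟩ : ∃ a, a = (t : Matrix (Fin 3) (Fin 3) F) 0 1 / (1 - (g₀ : F)) := ⟨_, rfl⟩
  obtain ⟨b, hb⟩ : ∃ b, b = (t : Matrix (Fin 3) (Fin 3) F) 1 2 / ((t : Matrix (Fin 3) (Fin 3) F) 2 2 - 1) := ⟨_, rfl⟩
  obtain ⟨c, hc⟩ : ∃ c, c = ((t : Matrix (Fin 3) (Fin 3) F) 0 1 * b + (t : Matrix (Fin 3) (Fin 3) F) 0 2) /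
      ((t : Matrix (Fin 3) (Fin 3) F) 2 2 - (g₀ : F)) := ⟨_, rfl⟩
  obtain ⟨u, huT, hue⟩ : ∃ u ∈ Tri F, (u : Matrix (Fin 3) (Fin 3) F) = !![1, a, c; 0, 1, b; 0, 0, 1] :=
    ⟨GeneralLinearGroup.mkOfDetNeZero !![1, a, c; 0, 1, b; 0, 0, 1] (by rw [det_fin_three]; simp), by simp [Tri], rfl⟩
  have hdu : (t : Matrix (Fin 3) (Fin 3) F) * (u : Matrix (Fin 3) (Fin 3) F) = (u : Matrix (Fin 3) (Fin 3) F) *
      !![(g₀ : F), 0, 0; 0, 1, 0; 0, 0, (t : Matrix (Fin 3) (Fin 3) F) 2 2] := by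
    have q1 : a * (1 - (g₀ : F)) = (t : Matrix (Fin 3) (Fin 3) F) 0 1 := by
      rw [ha, div_mul_cancel₀ _ (sub_ne_zero.mpr (Ne.symm g01))]
    have q2 : b * ((t : Matrix (Fin 3) (Fin 3) F) 2 2 - 1) = (t : Matrix (Fin 3) (Fin 3) F) 1 2 := by
      rw [hb, div_mul_cancel₀ _ (sub_ne_zero.mpr n1)]
    have q3 : c * ((t : Matrix (Fin 3) (Fin 3) F) 2 2 - (g₀ : F)) =
        (t : Matrix (Fin 3) (Fin 3) F) 0 1 * b + (t : Matrix (Fin 3) (Fin 3) F) 0 2 := by
      rw [hc, div_mul_cancel₀ _ (sub_ne_zero.mpr n2)]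
    rw [hue]
    ext i j; fin_cases i <;> fin_cases j <;>
      simp [Matrix.mul_apply, Fin.sum_univ_three, htT.1, htT.2.1, htT.2.2, t00, t11] <;> first
        | linear_combination -q1
        | linear_combination -q2
        | linear_combination -q3
        | ring
  -- pass to the new coordinates
  let X := G.comap (MulAut.conj u).toMonoidHom
  obtain ⟨d, hdX, hde⟩ : ∃ d ∈ X, (d : Matrix (Fin 3) (Fin 3) F) =
      !![(g₀ : F), 0, 0; 0, 1, 0; 0, 0, (t : Matrix (Fin 3) (Fin 3) F) 2 2] := by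
    refine ⟨u⁻¹ * t * u, ?_, ?_⟩
    · show u * (u⁻¹ * t * u) * u⁻¹ ∈ G
      rwa [show u * (u⁻¹ * t * u) * u⁻¹ = t by group]
    · rw [Units.val_mul, Units.val_mul, Matrix.mul_assoc, hdu, ← Matrix.mul_assoc, ← Units.val_mul, inv_mul_cancel,
        Units.val_one, Matrix.one_mul]
  have hX : X ≤ specialLinear (Fin 3) F := fun g hg => by
    have := specialLinear_normal.conj_mem _ (hG hg) u⁻¹
    simpa [MulAut.conj_apply, mul_assoc] using this
  have hdT : d ∈ Tri F := by refine ⟨?_, ?_, ?_⟩ <;> simp [hde]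
  obtain ⟨hXcard, hXbij⟩ := key u
  -- the triangular part is the diagonal group
  have habel : ∀ g ∈ X ⊓ Tri F, g * d = d * g := by
    intro g hg
    have hg2 : ∀ y ∈ X ⊓ Tri F, ∀ z ∈ X ⊓ Tri F, D G (y * z) = D G (z * y) := by
      intro y hy z hz
      obtain ⟨y1, y2, y3⟩ := hy.2
      obtain ⟨z1, z2, z3⟩ := hz.2
      have e0 : ((y * z : GL (Fin 3) F) : Matrix (Fin 3) (Fin 3) F) 0 0 = ((z * y : GL (Fin 3) F) : Matrix (Fin 3) (Fin 3) F) 0 0 := by
        simp [Matrix.mul_apply, Fin.sum_univ_three, y1, y2, z1, z2, mul_comm]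
      have e1 : ((y * z : GL (Fin 3) F) : Matrix (Fin 3) (Fin 3) F) 1 1 = ((z * y : GL (Fin 3) F) : Matrix (Fin 3) (Fin 3) F) 1 1 := by
        simp [Matrix.mul_apply, Fin.sum_univ_three, y1, y3, z1, z3, mul_comm]
      exact congrArg₂ f2 e0 e1
    have := hXbij.1 (a₁ := ⟨g * d, mul_mem hg ⟨hdX, hdT⟩⟩) (a₂ := ⟨d * g, mul_mem ⟨hdX, hdT⟩ hg⟩) (hg2 g hg d ⟨hdX, hdT⟩)
    exact congrArg Subtype.val this
  have hdiagX : ∀ g ∈ X ⊓ Tri F, ∀ i j, i ≠ j → (g : Matrix (Fin 3) (Fin 3) F) i j = 0 := by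
    intro g hg i j hij
    have e := congrArg (fun z : GL (Fin 3) F => (z : Matrix (Fin 3) (Fin 3) F) i j) (habel g hg)
    simp only [Units.val_mul, hde] at e
    fin_cases i <;> fin_cases j <;> simp [Matrix.mul_apply, Fin.sum_univ_three] at e <;>
      first
        | exact absurd rfl hij
        | exact hg.2.1
        | exact hg.2.2.1
        | exact hg.2.2.2
        | (refine (mul_eq_zero.mp (show (g : Matrix (Fin 3) (Fin 3) F) 0 1 * (1 - (g₀ : F)) = 0 by
            linear_combination e)).resolve_right (sub_ne_zero.mpr (Ne.symm g01)))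
        | (refine (mul_eq_zero.mp (show (g : Matrix (Fin 3) (Fin 3) F) 0 2 * ((t : Matrix (Fin 3) (Fin 3) F) 2 2 - (g₀ : F)) = 0 by
            linear_combination e)).resolve_right (sub_ne_zero.mpr n2))
        | (refine (mul_eq_zero.mp (show (g : Matrix (Fin 3) (Fin 3) F) 1 2 * ((t : Matrix (Fin 3) (Fin 3) F) 2 2 - 1) = 0 by
            linear_combination e)).resolve_right (sub_ne_zero.mpr n1))
  have hall : ∀ v : GL (Fin 3) F, v ∈ specialLinear (Fin 3) F →
      (∀ i j, i ≠ j → (v : Matrix (Fin 3) (Fin 3) F) i j = 0) → v ∈ X := by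
    intro v hv hvd
    have hv3 := hdiag v ⟨hvd 1 0 (by decide), hvd 2 0 (by decide), hvd 2 1 (by decide)⟩ hv
    have nz : (v : Matrix (Fin 3) (Fin 3) F) 0 0 ≠ 0 ∧ (v : Matrix (Fin 3) (Fin 3) F) 1 1 ≠ 0 := by
      constructor <;> intro e <;> simp [e] at hv3
    obtain ⟨⟨w, hw⟩, hwD⟩ := hXbij.2 (Units.mk0 _ nz.1, Units.mk0 _ nz.2)
    have hw3 := hdiag w hw.2 (hX hw.1)
    have nzw : (w : Matrix (Fin 3) (Fin 3) F) 0 0 ≠ 0 ∧ (w : Matrix (Fin 3) (Fin 3) F) 1 1 ≠ 0 := by
      constructor <;> intro e <;> simp [e] at hw3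
    simp only [D, f2, dif_pos nzw, Prod.mk.injEq, Units.ext_iff, Units.val_mk0] at hwD
    have e22 : (w : Matrix (Fin 3) (Fin 3) F) 2 2 = (v : Matrix (Fin 3) (Fin 3) F) 2 2 := by
      rw [hwD.1, hwD.2] at hw3
      exact mul_left_cancel₀ (mul_ne_zero nz.1 nz.2) (hw3.trans hv3.symm)
    have : w = v := Units.ext (by
      ext i j
      by_cases hij : i = j
      · subst hij; fin_cases i
        · exact hwD.1
        · exact hwD.2
        · exact e22
      · rw [hdiagX w hw i j hij, hvd i j hij])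
    exact this ▸ hw.1
  -- permutations
  have hmon : ∀ m : GL (Fin 3) F, m ∈ specialLinear (Fin 3) F → IsMon (m : Matrix (Fin 3) (Fin 3) F) → m ∈ X := by
    intro m hm hmm
    obtain ⟨h, hh, hhx⟩ := htrans (u * m)
    obtain ⟨k, hk⟩ : ∃ k, k = u⁻¹ * h * u := ⟨_, rfl⟩
    have hkX : k ∈ X := by
      show u * k * u⁻¹ ∈ G
      rwa [hk, show u * (u⁻¹ * h * u) * u⁻¹ = h by group]
    obtain ⟨bb, hbb⟩ : ∃ bb, bb = k⁻¹ * m := ⟨_, rfl⟩
    have hbT : bb ∈ Tri F := by
      rw [hbb, show k⁻¹ * m = u⁻¹ * (h⁻¹ * (u * m)) by rw [hk]; group]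
      exact mul_mem (inv_mem huT) hhx
    -- k carries the diagonal group to itself
    obtain ⟨σ, hσ⟩ := mon_perm hmm
    have hdd : ∀ i j, i ≠ j → (d : Matrix (Fin 3) (Fin 3) F) i j = 0 := fun i j hij => by
      rw [hde]; fin_cases i <;> fin_cases j <;> first | exact absurd rfl hij | simp
    obtain ⟨e, he⟩ : ∃ e, e = m * d * m⁻¹ := ⟨_, rfl⟩
    have hemat : (e : Matrix (Fin 3) (Fin 3) F) = Matrix.diagonal fun i => (d : Matrix (Fin 3) (Fin 3) F) (σ.symm i) (σ.symm i) := by
      have hk' : Matrix.diagonal (fun i => (d : Matrix (Fin 3) (Fin 3) F) (σ.symm i) (σ.symm i)) * (m : Matrix (Fin 3) (Fin 3) F) =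
          (m : Matrix (Fin 3) (Fin 3) F) * (d : Matrix (Fin 3) (Fin 3) F) := by
        ext i j
        rw [Matrix.diagonal_mul, Matrix.mul_apply, Finset.sum_eq_single j (fun l _ hl => by rw [hdd l j hl, mul_zero])
          (fun h => absurd (Finset.mem_univ j) h)]
        by_cases hi : i = σ j
        · subst hi; rw [Equiv.symm_apply_apply, mul_comm]
        · rw [((hσ j).2 i hi).1, mul_zero, zero_mul]
      rw [he, Units.val_mul, Units.val_mul, ← hk', Matrix.mul_assoc, ← Units.val_mul, mul_inv_cancel, Units.val_one,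
        Matrix.mul_one]
    have heX : e ∈ X := hall e (he ▸ specialLinear_normal.conj_mem _ (hX hdX) m) fun i j hij => by
      rw [hemat, Matrix.diagonal_apply_ne _ hij]
    have hy : k⁻¹ * e * k ∈ X ⊓ Tri F := ⟨X.mul_mem (X.mul_mem (X.inv_mem hkX) heX) hkX, by
      rw [show k⁻¹ * e * k = bb * d * bb⁻¹ by rw [hbb, he]; group]
      exact (Tri F).mul_mem ((Tri F).mul_mem hbT hdT) ((Tri F).inv_mem hbT)⟩
    have hd' := hdiagX _ hy
    obtain ⟨yv, hyv⟩ : ∃ yv, yv = k⁻¹ * e * k := ⟨_, rfl⟩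
    rw [← hyv] at hd' hy
    have hey : (e : Matrix (Fin 3) (Fin 3) F) * (k : Matrix (Fin 3) (Fin 3) F) =
        (k : Matrix (Fin 3) (Fin 3) F) * (yv : Matrix (Fin 3) (Fin 3) F) := by
      rw [← Units.val_mul, ← Units.val_mul, hyv]; congr 1; group
    have hsep : ∀ i i', i ≠ i' → (d : Matrix (Fin 3) (Fin 3) F) i i ≠ (d : Matrix (Fin 3) (Fin 3) F) i' i' := by
      intro i i' hii
      rw [hde]
      fin_cases i <;> fin_cases i' <;> first
        | exact absurd rfl hii
        | simpa using g01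
        | simpa [eq_comm] using g01
        | simpa using n1
        | simpa [eq_comm] using n1
        | simpa using n2
        | simpa [eq_comm] using n2
    have hkmon : IsMon (k : Matrix (Fin 3) (Fin 3) F) := by
      intro j
      by_cases hz : ∃ i, (k : Matrix (Fin 3) (Fin 3) F) i j ≠ 0
      · obtain ⟨i, hi⟩ := hz
        refine ⟨i, fun i' hi' => by_contra fun hne => hsep (σ.symm i') (σ.symm i) (σ.symm.injective.ne hi') ?_⟩
        have hrow : ∀ l, (k : Matrix (Fin 3) (Fin 3) F) l j ≠ 0 →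
            (d : Matrix (Fin 3) (Fin 3) F) (σ.symm l) (σ.symm l) = (yv : Matrix (Fin 3) (Fin 3) F) j j := by
          intro l hl
          have := congrFun (congrFun hey l) j
          rw [hemat, Matrix.diagonal_mul, Matrix.mul_apply,
            Finset.sum_eq_single j (fun r _ hr => by rw [hd' r j hr, mul_zero]) (fun h => absurd (Finset.mem_univ j) h)] at this
          exact mul_right_cancel₀ hl (this.trans (mul_comm _ _))
        rw [hrow i' hne, hrow i hi]
      · push Not at hz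
        exact ⟨0, fun i _ => hz i⟩
    have hbm : IsMon (bb : Matrix (Fin 3) (Fin 3) F) := by
      rw [hbb, Units.val_mul]; exact isMon_mul (isMon_inv hkmon) hmm
    obtain ⟨τ, hτ⟩ := mon_perm hbm
    have hb3 : (bb : Matrix (Fin 3) (Fin 3) F).det ≠ 0 := ((Matrix.isUnit_iff_isUnit_det _).mp bb.isUnit).ne_zero
    rw [det_fin_three, hbT.1, hbT.2.1, hbT.2.2] at hb3
    have hbd : ∀ i j, i ≠ j → (bb : Matrix (Fin 3) (Fin 3) F) i j = 0 := by
      intro i j hij
      obtain ⟨pz, hpz⟩ := hbm j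
      have hjj : (bb : Matrix (Fin 3) (Fin 3) F) j j ≠ 0 := fun h => hb3 (by
        fin_cases j <;> simp at h <;> rw [h] <;> ring)
      have : pz = j := by_contra fun h => hjj (hpz j (Ne.symm h))
      exact hpz i (this ▸ hij)
    have hbX : bb ∈ X := hall bb (hbb ▸ mul_mem (inv_mem (hX hkX)) hm) hbd
    rw [show m = k * bb by rw [hbb]; group]
    exact mul_mem hkX hbX
  have hD : MData X := ⟨hX, hmon, hqe ▸ h5⟩
  have hXG : Nat.card X = Nat.card G := Nat.card_congr ((MulAut.conj u).toEquiv.subtypeEquiv fun g => Iff.rfl)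
  obtain ⟨g, hgX, hgm⟩ : ∃ g ∈ X, ¬ IsMon (g : Matrix (Fin 3) (Fin 3) F) := by
    by_contra hcon
    push Not at hcon
    let f : X → Equiv.Perm (Fin 3) × (Fin 3 → F) := fun g =>
      ((mon_perm (hcon g g.2)).choose, fun j => ((g : GL (Fin 3) F) : Matrix (Fin 3) (Fin 3) F) ((mon_perm (hcon g g.2)).choose j) j)
    have hf : Function.Injective f := by
      intro a b hab
      simp only [f, Prod.mk.injEq] at hab
      obtain ⟨h1, h2⟩ := hab
      refine Subtype.ext (Units.ext (Matrix.ext fun i j => ?_))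
      have sa := (mon_perm (hcon a a.2)).choose_spec j
      have sb := (mon_perm (hcon b b.2)).choose_spec j
      by_cases hi : i = (mon_perm (hcon a a.2)).choose j
      · rw [hi]
        have := congrFun h2 j
        rw [this, h1]
      · rw [(sa.2 i hi).1, (sb.2 i (h1 ▸ hi)).1]
    have hle := Nat.card_le_card_of_injective f hf
    rw [hXG, hcard, Nat.card_prod, Nat.card_perm, Nat.card_fun, Nat.card_fin, Nat.card_eq_fintype_card, ← hqe] at hle
    simp [Nat.factorial] at hle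
    obtain ⟨m, rfl⟩ : ∃ m, q = m + 5 := ⟨q - 5, by omega⟩
    rw [show m + 5 - 1 = m + 4 by omega] at hle
    have h16 : 16 * (m + 5) ≤ (m + 4) ^ 2 * (m + 5 + 1) :=
      Nat.mul_le_mul (show 16 ≤ (m + 4) ^ 2 from (show 16 = 4 ^ 2 by norm_num).le.trans (Nat.pow_le_pow_left (by omega) 2)) (by omega)
    have hbig : (m + 5) ^ 2 * (16 * (m + 5)) ≤ ((m + 5) ^ 2 + (m + 5) + 1) * ((m + 4) ^ 2 * (m + 5 + 1)) :=
      Nat.mul_le_mul (by omega) h16
    have hpos : 0 < (m + 5) ^ 3 := pow_pos (by omega) 3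
    linarith [show (m + 5) ^ 2 * (16 * (m + 5)) = 16 * (m + 5) ^ 3 by ring]
  intro x hx
  have := sl_le hD hgX hgm (specialLinear_normal.conj_mem _ hx u⁻¹)
  rw [inv_inv] at this
  have h' : u * (u⁻¹ * x * u) * u⁻¹ ∈ G := this
  rwa [show u * (u⁻¹ * x * u) * u⁻¹ = x by group] at h'

end Cfsg.Agent.Classical.LinThree
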