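/-
Singer normalisers are maximal in `SL_3(q)` for `q ≠ 4`.
-/
import Cfsg.Agent.Lib.Classical.LinThree.SingerArith
import Cfsg.Agent.Lib.Classical.LinThree.SingerFlag

set_option autoImplicit false
set_option linter.unusedSectionVars false

namespace Cfsg.Agent.Classical.LinThree

open Matrix Cfsg.Geo
open Cfsg.Agent.Classical

variable {F : Type*} [Field F] [Fintype F] {K : Subalgebra F (Matrix (Fin 3) (Fin 3) F)}

theorem isSc_center {g x : GL (Fin 3) F} (h : IsSc g) : g * x = x * g := by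
  obtain ⟨c, hc⟩ := h
  exact Units.ext (by rw [Units.val_mul, Units.val_mul, hc, Matrix.smul_mul, Matrix.mul_smul, Matrix.one_mul, Matrix.mul_one])

theorem exists_nonscalar (hK : IsFieldSubalgebra 3 K) (hz : 3 < Nat.card (Tor hK)) :
    ∃ x ∈ Tor hK, ¬ IsSc x := by
  classical
  by_contra h
  push Not at h
  choose c hc using fun x : Tor hK => h x.1 x.2
  have hcu : ∀ x, c x ≠ 0 := fun x e => (x : GL (Fin 3) F).ne_zero (by rw [hc x, e, zero_smul])
  have hc3 : ∀ x, (Units.mk0 _ (hcu x)) ∈ (powMonoidHom 3 : Fˣ →* Fˣ).ker := fun x => by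
    rw [MonoidHom.mem_ker, powMonoidHom_apply]
    refine Units.ext ?_
    have := mem_specialLinear_iff.mp x.2.2
    rw [hc x, Matrix.det_smul, Matrix.det_one, mul_one, Fintype.card_fin] at this
    simpa using this
  have hle : Nat.card (Tor hK) ≤ Nat.card (powMonoidHom 3 : Fˣ →* Fˣ).ker :=
    Nat.card_le_card_of_injective (fun x => ⟨_, hc3 x⟩) fun a b hab => by
      have e := congrArg (fun z : (powMonoidHom 3 : Fˣ →* Fˣ).ker => ((z : Fˣ) : F)) hab
      simp at e
      exact Subtype.ext (Units.ext (by rw [hc a, hc b, e]))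
  rw [IsCyclic.card_powMonoidHom_ker] at hle
  have := Nat.gcd_le_right (n := 3) (Nat.card Fˣ) (by norm_num)
  omega

/-- The index of the normaliser in an overgroup is one modulo the orbit length. -/
theorem index_mod (hK : IsFieldSubalgebra 3 K) {H : Subgroup (GL (Fin 3) F)} (hH : H ≤ specialLinear (Fin 3) F)
    (hN : NS K ≤ H) {Q' : ℕ} (hQ' : Q' * Nat.gcd (Fintype.card F - 1) 3 = Nat.card (Tor hK)) :
    Nat.card (H ⧸ (NS K).subgroupOf H) ≡ 1 [MOD Q'] := by
  classical
  have hTH : Tor hK ≤ H := (tor_le_NS hK).trans hN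
  let T := (Tor hK).subgroupOf H
  have hstab : ∀ (h : H) (t : T), t • (h : H ⧸ (NS K).subgroupOf H) = (h : H ⧸ (NS K).subgroupOf H) →
      IsSc ((t : H) : GL (Fin 3) F) ∨ (h : GL (Fin 3) F) ∈ NS K := by
    intro h t ht
    obtain ⟨y, hy⟩ : ∃ y : GL (Fin 3) F, y = (h : GL (Fin 3) F)⁻¹ * ((t : H) : GL (Fin 3) F) * (h : GL (Fin 3) F) := ⟨_, rfl⟩
    have hyN : y ∈ NS K := by
      have ht' : (((t : H) * h : H) : H ⧸ (NS K).subgroupOf H) = (h : H ⧸ (NS K).subgroupOf H) := ht
      have := inv_mem (QuotientGroup.eq.mp ht')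
      rw [Subgroup.mem_subgroupOf] at this
      rw [hy]
      simpa [_root_.mul_inv_rev, mul_assoc] using this
    by_cases hts : IsSc ((t : H) : GL (Fin 3) F)
    · exact Or.inl hts
    right
    rcases cube hK hyN with hyT | hyc
    · refine ⟨?_, hH h.2⟩
      have hns : ∀ c : F, ((t : H) : GL (Fin 3) F).val ≠ c • 1 := fun c e => hts ⟨c, e⟩
      have := norm_of_conj hK (g := (h : GL (Fin 3) F)⁻¹) (Subgroup.mem_subgroupOf.mp t.2).1 hns (by
        rw [inv_inv]
        have e := hyT.1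
        rwa [hy, Units.val_mul, Units.val_mul] at e)
      simpa using inv_mem this
    · exfalso
      refine hts (cube_root_scalar hK (Subgroup.mem_subgroupOf.mp t.2) ?_)
      have e : y ^ 3 = (h : GL (Fin 3) F)⁻¹ * ((t : H) : GL (Fin 3) F) ^ 3 * (h : GL (Fin 3) F) := by
        rw [hy]; simp only [pow_succ, pow_zero, one_mul]; group
      have e2 : ((t : H) : GL (Fin 3) F) ^ 3 = (h : GL (Fin 3) F) * y ^ 3 * (h : GL (Fin 3) F)⁻¹ := by rw [e]; group
      rw [e2, ← isSc_center hyc (x := (h : GL (Fin 3) F)), mul_inv_cancel_right]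
      exact hyc
  have hfix : ∀ (h : H) (t : T), IsSc ((t : H) : GL (Fin 3) F) →
      t • (h : H ⧸ (NS K).subgroupOf H) = (h : H ⧸ (NS K).subgroupOf H) := by
    intro h t ht
    show (((t : H) * h : H) : H ⧸ (NS K).subgroupOf H) = (h : H ⧸ (NS K).subgroupOf H)
    refine QuotientGroup.eq.mpr (Subgroup.mem_subgroupOf.mpr ?_)
    have e : (((((t : H) * h)⁻¹ * h : H)) : GL (Fin 3) F) = (((t : H) : GL (Fin 3) F))⁻¹ := by
      simp only [Subgroup.coe_mul, Subgroup.coe_inv]
      rw [← isSc_center ht (x := (h : GL (Fin 3) F)) |>.symm]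
      group
    rw [e]
    exact inv_mem (tor_le_NS hK (Subgroup.mem_subgroupOf.mp t.2))
  -- scalars of the torus
  let Z : Subgroup T :=
    { carrier := {t | IsSc ((t : H) : GL (Fin 3) F)}
      one_mem' := ⟨1, by simp⟩
      mul_mem' := by
        rintro a b ⟨x, hx⟩ ⟨y, hy⟩
        exact ⟨x * y, by simp [hx, hy, smul_smul, mul_comm]⟩
      inv_mem' := by
        rintro a ⟨x, hx⟩
        have hx0 : x ≠ 0 := fun e => ((a : H) : GL (Fin 3) F).ne_zero (by rw [hx, e, zero_smul])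
        refine ⟨x⁻¹, ?_⟩
        have e : ((((a : H) : GL (Fin 3) F)⁻¹ : GL (Fin 3) F) : Matrix (Fin 3) (Fin 3) F) * (((a : H) : GL (Fin 3) F) : Matrix (Fin 3) (Fin 3) F) = 1 := by
          rw [← Units.val_mul, inv_mul_cancel, Units.val_one]
        rw [hx, Matrix.mul_smul, Matrix.mul_one] at e
        show ((((a⁻¹ : T) : H) : GL (Fin 3) F) : Matrix (Fin 3) (Fin 3) F) = x⁻¹ • 1
        rw [← e, smul_smul, inv_mul_cancel₀ hx0, one_smul]
        simp }
  have hZ : Nat.card Z = Nat.gcd (Fintype.card F - 1) 3 := by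
    have hk := IsCyclic.card_powMonoidHom_ker (G := Fˣ) 3
    rw [Nat.card_units, Nat.card_eq_fintype_card (α := F)] at hk
    rw [← hk]
    refine Nat.card_congr (Equiv.ofBijective
      (fun t : Z => (⟨Units.mk0 (t.2 : IsSc _).choose ?_, ?_⟩ : (powMonoidHom 3 : Fˣ →* Fˣ).ker)) ⟨?_, ?_⟩)
    · intro e
      have := (t.2 : IsSc _).choose_spec
      rw [e, zero_smul] at this
      exact (((t : T) : H) : GL (Fin 3) F).ne_zero this
    · rw [MonoidHom.mem_ker, powMonoidHom_apply]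
      refine Units.ext ?_
      have := mem_specialLinear_iff.mp (Subgroup.mem_subgroupOf.mp (t : T).2).2
      rw [(t.2 : IsSc _).choose_spec, Matrix.det_smul, Matrix.det_one, mul_one, Fintype.card_fin] at this
      simpa using this
    · intro a b hab
      have e := congrArg (fun z : (powMonoidHom 3 : Fˣ →* Fˣ).ker => ((z : Fˣ) : F)) hab
      simp at e
      refine Subtype.ext (Subtype.ext (Subtype.ext (Units.ext ?_)))
      rw [(a.2 : IsSc _).choose_spec, (b.2 : IsSc _).choose_spec, e]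
    · rintro ⟨c, hc⟩
      have hc' : (c : F) ^ 3 = 1 := by simpa using congrArg Units.val hc
      obtain ⟨g, hg⟩ : ∃ g : GL (Fin 3) F, (g : Matrix (Fin 3) (Fin 3) F) = (c : F) • 1 :=
        ⟨GeneralLinearGroup.mkOfDetNeZero ((c : F) • (1 : Matrix (Fin 3) (Fin 3) F))
          (by rw [Matrix.det_smul]; simp), rfl⟩
      have hgT : g ∈ Tor hK := ⟨by rw [hg]; exact K.smul_mem (one_mem K) _, mem_specialLinear_iff.mpr (by
        rw [hg, Matrix.det_smul, Matrix.det_one, mul_one, Fintype.card_fin, hc'])⟩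
      refine ⟨⟨⟨⟨g, hTH hgT⟩, hgT⟩, ⟨c, hg⟩⟩, Subtype.ext (Units.ext ?_)⟩
      have := hg.symm.trans (show IsSc g from ⟨c, hg⟩).choose_spec
      have := congrFun (congrFun this 0) 0
      simpa using this.symm
  have hT : Nat.card T = Q' * Nat.card Z := by
    rw [hZ, hQ']
    exact Nat.card_congr (Subgroup.subgroupOfEquivOfLe hTH).toEquiv
  -- orbit lengths
  obtain ⟨x₀, hx₀⟩ : ∃ x₀ : H ⧸ (NS K).subgroupOf H, x₀ = ((1 : H) : H ⧸ (NS K).subgroupOf H) := ⟨_, rfl⟩
  have horb1 : ∀ t : T, t • x₀ = x₀ := fun t => by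
    rw [hx₀]
    show (((t : H) * 1 : H) : H ⧸ (NS K).subgroupOf H) = ((1 : H) : H ⧸ (NS K).subgroupOf H)
    refine QuotientGroup.eq.mpr (Subgroup.mem_subgroupOf.mpr ?_)
    simpa using inv_mem (tor_le_NS hK (Subgroup.mem_subgroupOf.mp t.2))
  have horb : ∀ x : H ⧸ (NS K).subgroupOf H, x ≠ x₀ → Nat.card (MulAction.orbit T x) = Q' := by
    intro x hx
    induction x using QuotientGroup.induction_on with
    | _ h =>
      have hs : MulAction.stabilizer T ((h : H ⧸ (NS K).subgroupOf H)) = Z := by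
        ext t
        rw [MulAction.mem_stabilizer_iff]
        constructor
        · intro ht
          rcases hstab h t ht with h' | h'
          · exact h'
          · exact absurd (by rw [hx₀]; exact QuotientGroup.eq.mpr (Subgroup.mem_subgroupOf.mpr (by simpa using inv_mem h'))) hx
        · exact hfix h t
      have hc := MulAction.orbitEquivQuotientStabilizer T (h : H ⧸ (NS K).subgroupOf H)
      rw [Nat.card_congr hc, hs]
      have e := Subgroup.card_eq_card_quotient_mul_card_subgroup Z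
      rw [hT] at e
      exact (Nat.eq_of_mul_eq_mul_right Nat.card_pos e).symm
  have hsum : Nat.card (H ⧸ (NS K).subgroupOf H) =
      ∑ ω : MulAction.orbitRel.Quotient T (H ⧸ (NS K).subgroupOf H), Nat.card (MulAction.orbitRel.Quotient.orbit ω) := by
    rw [Nat.card_congr (MulAction.selfEquivSigmaOrbits' T (H ⧸ (NS K).subgroupOf H)), Nat.card_sigma]
  rw [hsum, ← Finset.add_sum_erase _ _ (Finset.mem_univ (Quotient.mk'' x₀ : MulAction.orbitRel.Quotient T _))]
  have h1 : Nat.card (MulAction.orbitRel.Quotient.orbit (Quotient.mk'' x₀ : MulAction.orbitRel.Quotient T _)) = 1 := by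
    rw [MulAction.orbitRel.Quotient.orbit_mk]
    haveI : Subsingleton (MulAction.orbit T x₀) := ⟨by
      rintro ⟨_, a, rfl⟩ ⟨_, b, rfl⟩
      exact Subtype.ext ((horb1 a).trans (horb1 b).symm)⟩
    haveI : Nonempty (MulAction.orbit T x₀) := ⟨⟨x₀, MulAction.mem_orbit_self x₀⟩⟩
    exact Nat.card_eq_one_iff_unique.mpr ⟨inferInstance, inferInstance⟩
  rw [h1]
  have hdvd : Q' ∣ ∑ ω ∈ Finset.univ.erase (Quotient.mk'' x₀ : MulAction.orbitRel.Quotient T (H ⧸ (NS K).subgroupOf H)),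
      Nat.card (MulAction.orbitRel.Quotient.orbit ω) := by
    refine Finset.dvd_sum fun ω hω => ?_
    rw [Finset.mem_erase] at hω
    revert hω
    refine Quotient.inductionOn' ω fun x hω => ?_
    rw [MulAction.orbitRel.Quotient.orbit_mk, horb x fun e => hω.1 (by rw [e])]
  exact (Nat.ModEq.add_left 1 (Nat.modEq_zero_iff_dvd.mpr hdvd)).trans (by rw [add_zero])

/-- Singer normalisers are maximal. -/
theorem singer_isMaximal (hK : IsFieldSubalgebra 3 K) (h4 : Fintype.card F ≠ 4) :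
    IsMaximalIn (specialLinear (Fin 3) F) (subalgebraNormalizer K ⊓ specialLinear (Fin 3) F) := by
  classical
  obtain ⟨hT, hNcard⟩ := tor_orders hK
  refine ⟨lt_of_le_of_ne inf_le_right fun e =>
    not_specialLinear_le_subalgebraNormalizer (by simp) (by norm_num) hK (inf_eq_right.mp e),
    fun H hN hH => or_iff_not_imp_left.mpr fun hne => le_antisymm hH ?_⟩
  change NS K ≤ H at hN
  obtain ⟨q, hq⟩ : ∃ q, q = Fintype.card F := ⟨_, rfl⟩
  have hq2 : 2 ≤ q := hq ▸ Fintype.one_lt_card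
  rw [← hq] at hT h4
  have h10 : q ≠ 10 := fun e => by
    obtain ⟨p, hp⟩ := CharP.exists F
    obtain ⟨n, hpp, hn⟩ := FiniteField.card F p
    rw [← hq, e] at hn
    have h2 : 2 ∣ p ^ (n : ℕ) := hn ▸ (show 2 ∣ 10 by norm_num)
    have h5 : 5 ∣ p ^ (n : ℕ) := hn ▸ (show 5 ∣ 10 by norm_num)
    have a := (Nat.prime_dvd_prime_iff_eq Nat.prime_two hpp).mp (Nat.prime_two.dvd_of_dvd_pow h2)
    have b := (Nat.prime_dvd_prime_iff_eq (by norm_num) hpp).mp ((show Nat.Prime 5 by norm_num).dvd_of_dvd_pow h5)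
    omega
  obtain ⟨j, hj⟩ : ∃ j, j = Nat.card (H ⧸ (NS K).subgroupOf H) := ⟨_, rfl⟩
  have hHcard : Nat.card H = j * (3 * (q ^ 2 + q + 1)) := by
    rw [hj, ← hT, ← hNcard, Subgroup.card_eq_card_quotient_mul_card_subgroup ((NS K).subgroupOf H),
      Nat.card_congr (Subgroup.subgroupOfEquivOfLe hN).toEquiv]
  have hS : Nat.card (specialLinear (Fin 3) F) = (q - 1) ^ 2 * q ^ 3 * ((q + 1) * (q ^ 2 + q + 1)) := by
    have h := card_sl_mul F
    rw [card_gl, ← hq] at h
    refine Nat.eq_of_mul_eq_mul_right (show 0 < q - 1 by omega) (h.trans ?_)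
    ring
  obtain ⟨e, he⟩ : Nat.card H ∣ Nat.card (specialLinear (Fin 3) F) := Subgroup.card_dvd_of_le hH
  rw [hS, hHcard] at he
  obtain ⟨m, hm⟩ : ∃ m, q = m + 1 := ⟨q - 1, by omega⟩
  have hM' : 3 * j * e = (q - 1) ^ 2 * q ^ 3 * (q + 1) :=
    Nat.eq_of_mul_eq_mul_right (show 0 < q ^ 2 + q + 1 by positivity) (by
      rw [show (q - 1) ^ 2 * q ^ 3 * (q + 1) * (q ^ 2 + q + 1) = (q - 1) ^ 2 * q ^ 3 * ((q + 1) * (q ^ 2 + q + 1)) by ring, he]
      ring)
  have hM : (3 : ℤ) * j * e = (q : ℤ) ^ 3 * ((q : ℤ) - 1) ^ 2 * ((q : ℤ) + 1) := by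
    have := congrArg (fun z : ℕ => (z : ℤ)) hM'
    rw [hm] at this ⊢
    simp only [Nat.add_sub_cancel] at this
    push_cast at this ⊢
    linear_combination this
  obtain ⟨Q', hQ', hQQ⟩ : ∃ Q', Q' * Nat.gcd (q - 1) 3 = Nat.card (Tor hK) ∧
      ((q % 3 ≠ 1 ∧ Q' = q ^ 2 + q + 1) ∨ (q % 3 = 1 ∧ 3 * Q' = q ^ 2 + q + 1)) := by
    by_cases h1 : q % 3 = 1
    · have hg : Nat.gcd (q - 1) 3 = 3 := Nat.gcd_eq_right (by omega)
      have h3 : 3 ∣ q ^ 2 + q + 1 := by
        rw [Nat.dvd_iff_mod_eq_zero, Nat.add_mod, Nat.add_mod (q ^ 2), Nat.pow_mod, h1]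
      exact ⟨(q ^ 2 + q + 1) / 3, by rw [hg, hT, Nat.div_mul_cancel h3], Or.inr ⟨h1, by omega⟩⟩
    · have hg : Nat.gcd (q - 1) 3 = 1 := by
        have := Nat.coprime_comm.mp (Nat.prime_three.coprime_iff_not_dvd.mpr (show ¬ 3 ∣ q - 1 by omega))
        exact this
      exact ⟨q ^ 2 + q + 1, by rw [hg, hT, mul_one], Or.inl ⟨h1, rfl⟩⟩
  have hmod : j ≡ 1 [MOD Q'] := hj ▸ index_mod hK hH hN (hq ▸ hQ')
  rcases singer_arith hq2 h4 h10 hQQ hM hmod with h | h | h | h
  · exfalso
    refine hne (le_antisymm ?_ hN)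
    intro x hx
    rw [hj] at h
    haveI := (Nat.card_eq_one_iff_unique.mp h).1
    have := QuotientGroup.eq.mp (Subsingleton.elim ((1 : H) : H ⧸ (NS K).subgroupOf H) ((⟨x, hx⟩ : H) : _))
    rw [Subgroup.mem_subgroupOf] at this
    have h' : x ∈ NS K := by simpa using this
    exact h'
  · intro x hx
    have hcard : Nat.card H = Nat.card (specialLinear (Fin 3) F) := by rw [hS, hHcard, he, h, mul_one]
    exact (Subgroup.eq_of_le_of_card_ge hH hcard.ge).ge hx
  · refine no_sylow_order hH ?_ ?_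
    · intro W h0 h1
      obtain ⟨x, hx, hxs⟩ := exists_nonscalar hK (by rw [hT]; nlinarith)
      obtain ⟨v, hv, hv0⟩ := (Submodule.ne_bot_iff W).mp h0
      by_contra hcon
      push Not at hcon
      exact h1 (inv_top hK hx.1 (fun c e => hxs ⟨c, e⟩) (fun w hw => hcon x (hN (tor_le_NS hK hx)) w hw) hv hv0)
    · rw [hHcard, h, ← hq]
      exact Dvd.intro _ rfl
  · have h3j : 3 * j = (q - 1) ^ 2 * (q + 1) := by
      rw [hm] at h ⊢
      push_cast at h
      simp only [Nat.add_sub_cancel]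
      have : ((3 * j : ℕ) : ℤ) = ((m ^ 2 * (m + 1 + 1) : ℕ) : ℤ) := by push_cast; linear_combination h
      exact_mod_cast this
    have h5 : 5 ≤ q := by
      by_contra hlt
      push Not at hlt
      interval_cases q
      · -- two elements
        norm_num at h3j
        haveI := (Nat.card_eq_one_iff_unique.mp (show Nat.card (H ⧸ (NS K).subgroupOf H) = 1 by rw [← hj]; omega)).1
        refine hne (le_antisymm (fun x hx => ?_) hN)
        have := QuotientGroup.eq.mp (Subsingleton.elim ((1 : H) : H ⧸ (NS K).subgroupOf H) ((⟨x, hx⟩ : H) : _))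
        rw [Subgroup.mem_subgroupOf] at this
        have h' : x ∈ NS K := by simpa using this
        exact h'
      · norm_num at h3j; omega
      · exact h4 rfl
    refine no_flag_order hH (hq ▸ h5) ?_
    rw [hHcard, ← hq, ← h3j]
    ring

end Cfsg.Agent.Classical.LinThree
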