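/-
Overgroups of the unitary group in three dimensions, in adapted coordinates.
-/
import Cfsg.Agent.Lib.Classical.GaloisDescent
import Cfsg.Agent.Lib.Classical.LinBasic

set_option autoImplicit false
set_option linter.unusedSectionVars false

namespace Cfsg.Agent.Classical.LinThree

open Matrix Cfsg.Geo
open Cfsg.Agent.Classical

variable {F : Type*} [Field F] [Fintype F]

/-- The Hermitian form in coordinates. -/
def J (σ : F ≃+* F) (ρ : F) (x y : Fin 3 → F) : F := x 0 * σ (y 2) + ρ * (x 1 * σ (y 1)) + x 2 * σ (y 0)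

/-- The setting. -/
structure UData (σ : F ≃+* F) (ρ : F) (G : Subgroup (GL (Fin 3) F)) : Prop where
  inv : ∀ x, σ (σ x) = x
  ne : σ ≠ RingEquiv.refl F
  rho : ρ ≠ 0
  fix : σ ρ = ρ
  iso : ∀ g : GL (Fin 3) F, (g : Matrix (Fin 3) (Fin 3) F).det = 1 →
    (∀ x y, J σ ρ ((g : Matrix (Fin 3) (Fin 3) F) *ᵥ x) ((g : Matrix (Fin 3) (Fin 3) F) *ᵥ y) = J σ ρ x y) → g ∈ G

variable {σ : F ≃+* F} {ρ : F} {G : Subgroup (GL (Fin 3) F)}

theorem exists_iso (D : UData σ ρ G) (M : Matrix (Fin 3) (Fin 3) F) (hd : M.det = 1)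
    (h : ∀ x y, J σ ρ (M *ᵥ x) (M *ᵥ y) = J σ ρ x y) : ∃ g ∈ G, (g : Matrix (Fin 3) (Fin 3) F) = M :=
  ⟨GeneralLinearGroup.mkOfDetNeZero M (by rw [hd]; exact one_ne_zero), D.iso _ hd h, rfl⟩

theorem exists_u (D : UData σ ρ G) {a b c : F} (hb : b = -(σ a * ρ)) (hc : c + σ c + ρ * (a * σ a) = 0) :
    ∃ g ∈ G, (g : Matrix (Fin 3) (Fin 3) F) = !![1, b, c; 0, 1, a; 0, 0, 1] := by
  have hb' : σ b = -(a * ρ) := by rw [hb, map_neg, map_mul, D.inv, D.fix]
  refine exists_iso D _ (by rw [det_fin_three]; simp) fun x y => ?_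
  simp [J, Matrix.mulVec, dotProduct, Fin.sum_univ_three]
  linear_combination (x 1 * σ (y 2)) * hb + (x 2 * σ (y 1)) * hb' + (x 2 * σ (y 2)) * hc

theorem exists_w (D : UData σ ρ G) :
    ∃ g ∈ G, (g : Matrix (Fin 3) (Fin 3) F) = !![0, 0, 1; 0, -1, 0; 1, 0, 0] := by
  refine exists_iso D _ (by rw [det_fin_three]; simp) fun x y => ?_
  simp [J, Matrix.mulVec, dotProduct, Fin.sum_univ_three]
  ring

theorem exists_h (D : UData σ ρ G) {l : F} (hl : l ≠ 0) :
    ∃ g ∈ G, (g : Matrix (Fin 3) (Fin 3) F) = !![l, 0, 0; 0, σ l / l, 0; 0, 0, (σ l)⁻¹] := by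
  have hl' : σ l ≠ 0 := by simpa using hl
  refine exists_iso D _ (by rw [det_fin_three]; simp; field_simp) fun x y => ?_
  simp [J, Matrix.mulVec, dotProduct, Fin.sum_univ_three, D.inv]
  field_simp

variable (D : UData σ ρ G) {q : ℕ} (hσ : IsUSigma q σ)

/-- The parameters of the transvections in the middle of the last column. -/
def Mid (G : Subgroup (GL (Fin 3) F)) (z : F) : Prop :=
  ∃ g ∈ G, (g : Matrix (Fin 3) (Fin 3) F) = !![1, 0, 0; 0, 1, z; 0, 0, 1]

theorem mid_add {a b : F} (ha : Mid G a) (hb : Mid G b) : Mid G (a + b) := by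
  obtain ⟨g, hg, hge⟩ := ha
  obtain ⟨k, hk, hke⟩ := hb
  refine ⟨g * k, mul_mem hg hk, ?_⟩
  rw [Units.val_mul, hge, hke]
  ext i j; fin_cases i <;> fin_cases j <;> simp [Matrix.mul_apply, Fin.sum_univ_three]
  ring

theorem mid_zero : Mid G (0 : F) :=
  ⟨1, one_mem _, by ext i j; fin_cases i <;> fin_cases j <;> simp⟩

theorem mid_neg {a : F} (ha : Mid G a) : Mid G (-a) := by
  obtain ⟨g, hg, hge⟩ := ha
  refine ⟨g⁻¹, inv_mem hg, ?_⟩
  have h : ((g : GL (Fin 3) F) : Matrix (Fin 3) (Fin 3) F) * !![1, 0, 0; 0, 1, -a; 0, 0, 1] = 1 := by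
    rw [hge]
    ext i j; fin_cases i <;> fin_cases j <;> simp [Matrix.mul_apply, Fin.sum_univ_three]
  rw [← Matrix.mul_one ((g⁻¹ : GL (Fin 3) F) : Matrix (Fin 3) (Fin 3) F), ← h, ← Matrix.mul_assoc, ← Units.val_mul,
    inv_mul_cancel, Units.val_one, Matrix.one_mul]

include D in
theorem mid_scale {l : F} (hl : l ≠ 0) {z : F} (hz : Mid G z) : Mid G (σ l / l * σ l * z) := by
  obtain ⟨g, hg, hge⟩ := hz
  obtain ⟨h, hh, hhe⟩ := exists_h D hl
  refine ⟨h * g * h⁻¹, mul_mem (mul_mem hh hg) (inv_mem hh), ?_⟩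
  have hl' : σ l ≠ 0 := by simpa using hl
  have he : !![1, 0, 0; 0, 1, σ l / l * σ l * z; 0, 0, 1] * (h : Matrix (Fin 3) (Fin 3) F) =
      ((h * g : GL (Fin 3) F) : Matrix (Fin 3) (Fin 3) F) := by
    rw [Units.val_mul, hge, hhe]
    ext i j; fin_cases i <;> fin_cases j <;> simp [Matrix.mul_apply, Fin.sum_univ_three]
    field_simp
  rw [Units.val_mul, ← he, Matrix.mul_assoc, ← Units.val_mul, mul_inv_cancel, Units.val_one, Matrix.mul_one]

include D hσ in
theorem mid_top (h1 : Mid G 1) : ∀ z, Mid G z := by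
  classical
  by_cases hq : q = 2
  · -- the field with four elements
    subst hq
    have h4 : Fintype.card F = 4 := hσ.card
    have h2 : (2 : F) = 0 := by
      have := FiniteField.cast_card_eq_zero F
      rw [h4, show ((4 : ℕ) : F) = 2 * 2 by norm_num] at this
      simpa using this
    have hcube : ∀ x : F, x ≠ 0 → x ^ 3 = 1 := fun x hx => by
      have := FiniteField.pow_card_sub_one_eq_one x hx
      rwa [h4] at this
    obtain ⟨w, hw⟩ : ∃ w : F, w ∉ ({0, 1} : Finset F) := Finset.exists_mem_notMem_of_card_lt_card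
      (s := ({0, 1} : Finset F)) (t := Finset.univ) (by
        have := Finset.card_le_two (a := (0 : F)) (b := 1)
        rw [Finset.card_univ]; omega) |>.imp fun _ h => h.2
    simp only [Finset.mem_insert, Finset.mem_singleton, not_or] at hw
    have hww : w ^ 2 + w + 1 = 0 :=
      (mul_eq_zero.mp (show (w - 1) * (w ^ 2 + w + 1) = 0 by linear_combination hcube w hw.1)).resolve_left
        (sub_ne_zero.mpr hw.2)
    have hρ : ρ = 1 := by
      have := D.fix
      rw [hσ.apply_eq] at this
      exact mul_left_cancel₀ D.rho (by linear_combination this)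
    obtain ⟨u, hu, hue⟩ := exists_u D (a := 1) (b := 1) (c := w) (by rw [map_one, hρ]; linear_combination h2)
      (by rw [hσ.apply_eq, map_one, hρ]; linear_combination hww)
    obtain ⟨v, hv, hve⟩ := exists_u D (a := w ^ 2) (b := w) (c := w)
      (by rw [hσ.apply_eq, hρ]; linear_combination w * hcube w hw.1 + w * h2)
      (by rw [hσ.apply_eq, hσ.apply_eq, hρ]; linear_combination hww + (w ^ 3 + 1) * hcube w hw.1)
    obtain ⟨x, hx, hxe⟩ := id h1
    obtain ⟨t, ht, hte⟩ := exists_w D
    obtain ⟨X, hX, hXe⟩ : ∃ g ∈ G, (g : Matrix (Fin 3) (Fin 3) F) = !![1, 0, 0; 1, 1, 0; 0, 0, 1] :=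
      ⟨t * x * t, mul_mem (mul_mem ht hx) ht, by
        rw [Units.val_mul, Units.val_mul, hte, hxe]
        ext i j; fin_cases i <;> fin_cases j <;> simp [Matrix.mul_apply, Fin.sum_univ_three]
        linear_combination -h2⟩
    obtain ⟨Y, hY, hYe⟩ : ∃ g ∈ G, (g : Matrix (Fin 3) (Fin 3) F) = !![1, 0, w + 1; 0, 1, 1; 0, 0, 1] :=
      ⟨v * x * v, mul_mem (mul_mem hv hx) hv, by
        rw [Units.val_mul, Units.val_mul, hve, hxe]
        ext i j; fin_cases i <;> fin_cases j <;> simp [Matrix.mul_apply, Fin.sum_univ_three]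
        · linear_combination w * h2
        · linear_combination hcube w hw.1 + w * h2
        · linear_combination w ^ 2 * h2⟩
    have hwm : Mid G w := ⟨u * X * Y * X * u, mul_mem (mul_mem (mul_mem (mul_mem hu hX) hY) hX) hu, by
      simp only [Units.val_mul, hue, hXe, hYe]
      ext i j; fin_cases i <;> fin_cases j <;> simp [Matrix.mul_apply, Fin.sum_univ_three] <;> first
        | linear_combination h2
        | linear_combination (2 : F) * h2
        | linear_combination (w + 1) * h2
        | linear_combination (2 * w + 2) * h2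
        | linear_combination (w + 2) * h2
        | linear_combination (2 + 3 * w) * h2
        | ring⟩
    intro z
    have hcov : z = 0 ∨ z = 1 ∨ z = w ∨ z = 1 + w := by
      by_cases hz : z = 0
      · exact Or.inl hz
      by_cases hz1 : z = 1
      · exact Or.inr (Or.inl hz1)
      have hzz := (mul_eq_zero.mp (show (z - 1) * (z ^ 2 + z + 1) = 0 by linear_combination hcube z hz)).resolve_left
        (sub_ne_zero.mpr hz1)
      rcases mul_eq_zero.mp (show (z - w) * (z + w + 1) = 0 by linear_combination hzz - hww) with e | e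
      · exact Or.inr (Or.inr (Or.inl (sub_eq_zero.mp e)))
      · exact Or.inr (Or.inr (Or.inr (by linear_combination e - (1 + w) * h2)))
    rcases hcov with rfl | rfl | rfl | rfl
    exacts [mid_zero, h1, hwm, mid_add h1 hwm]
  · -- multiplication by the ratios of the torus
    let S : Subring F :=
      { carrier := {z | ∀ c, Mid G c → Mid G (z * c)}
        one_mem' := fun c hc => by rwa [one_mul]
        zero_mem' := fun c _ => by rw [zero_mul]; exact mid_zero
        add_mem' := fun ha hb c hc => by rw [add_mul]; exact mid_add (ha c hc) (hb c hc)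
        neg_mem' := fun ha c hc => by rw [neg_mul]; exact mid_neg (ha c hc)
        mul_mem' := fun {a b} ha hb c hc => by rw [mul_assoc]; exact ha _ (hb c hc) }
    have hgen : ∀ l, l ≠ 0 → σ l / l * σ l ∈ S := fun l hl c hc => mid_scale D hl hc
    have hfix : ∀ l, σ l = l → l ∈ S := fun l hl => by
      by_cases h0 : l = 0
      · rw [h0]; exact zero_mem S
      have := hgen l h0
      rwa [hl, div_self h0, one_mul] at this
    obtain ⟨l, hl, hne⟩ : ∃ l : F, l ≠ 0 ∧ σ (σ l / l * σ l) ≠ σ l / l * σ l := by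
      obtain ⟨g, hg⟩ := IsCyclic.exists_ofOrder_eq_natCard (α := Fˣ)
      refine ⟨(g : F), g.ne_zero, fun e => ?_⟩
      rw [map_mul, map_div₀, D.inv] at e
      have h3 : (σ (g : F)) ^ 3 = (g : F) ^ 3 := by
        have : σ (g : F) ≠ 0 := by simp
        field_simp at e
        linear_combination -e
      rw [hσ.apply_eq] at h3
      rw [Nat.card_units, Nat.card_eq_fintype_card, hσ.card] at hg
      have hq2 := hσ.two_le
      have hdvd : orderOf g ∣ 3 * q - 3 := orderOf_dvd_of_pow_eq_one (Units.ext (by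
        rw [Units.val_pow_eq_pow_val, Units.val_one]
        refine mul_right_cancel₀ (pow_ne_zero 3 g.ne_zero) ?_
        rw [← pow_add, one_mul, show 3 * q - 3 + 3 = q * 3 by omega, pow_mul]
        exact h3))
      have hle := Nat.le_of_dvd (by omega) hdvd
      rw [hg] at hle
      have : 3 * q ≤ q * q := Nat.mul_le_mul_right q (show 3 ≤ q by omega)
      rw [pow_two] at hle
      have hqq : q * q = 3 * q ∨ q * q ≤ 3 * q - 2 := by omega
      rcases hqq with h | h
      · have : q = 3 := Nat.eq_of_mul_eq_mul_right (by omega) h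
        subst this
        obtain ⟨k, hk⟩ := hg ▸ hdvd
        omega
      · omega
    obtain ⟨z₀, hz⟩ : ∃ z, z = σ l / l * σ l := ⟨_, rfl⟩
    rw [← hz] at hne
    intro z
    have hd : z₀ - σ z₀ ≠ 0 := sub_ne_zero.mpr (Ne.symm hne)
    obtain ⟨b, hb⟩ : ∃ b, b = (z - σ z) / (z₀ - σ z₀) := ⟨_, rfl⟩
    have hσb : σ b = b := by
      rw [hb, map_div₀, map_sub, map_sub, D.inv, D.inv, ← neg_sub z (σ z), ← neg_sub z₀ (σ z₀), neg_div_neg_eq]
    have hb' : b * (z₀ - σ z₀) = z - σ z := by rw [hb, div_mul_cancel₀ _ hd]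
    have hmem : z ∈ S := by
      rw [show z = (z - b * z₀) + b * z₀ by ring]
      refine add_mem (hfix _ ?_) (mul_mem (hfix b hσb) (hz ▸ hgen l hl))
      rw [map_sub, map_mul, hσb]
      linear_combination hb'
    simpa using hmem 1 h1

include D hσ in
/-- The unitary group and one such transvection give everything. -/
theorem sl_le_coord (h1 : Mid G 1) (htr : ∀ b : F, σ b = b → ∃ s : F, s + σ s + b = 0) :
    specialLinear (Fin 3) F ≤ G := by
  have hall := mid_top D hσ h1
  obtain ⟨w, hw, hwe⟩ := exists_w D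
  have h13 : ∀ b, transGL (show (0 : Fin 3) ≠ 2 by decide) b ∈ G ∧ transGL (show (0 : Fin 3) ≠ 1 by decide) b ∈ G := by
    have hy : ∀ b : F, ∃ c, ∃ g ∈ G, (g : Matrix (Fin 3) (Fin 3) F) = !![1, b, c; 0, 1, 0; 0, 0, 1] := by
      intro b
      obtain ⟨a, ha⟩ : ∃ a, a = -(σ b / ρ) := ⟨_, rfl⟩
      obtain ⟨c, hc⟩ := htr (ρ * (a * σ a)) (by rw [map_mul, map_mul, D.inv, D.fix]; ring)
      obtain ⟨u, hu, hue⟩ := exists_u D (a := a) (b := b) (c := c)
        (by rw [ha, map_neg, map_div₀, D.inv, D.fix, neg_mul, neg_neg, div_mul_cancel₀ _ D.rho]) hc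
      obtain ⟨x, hx, hxe⟩ := hall (-a)
      refine ⟨c - b * a, u * x, mul_mem hu hx, ?_⟩
      rw [Units.val_mul, hue, hxe]
      ext i j; fin_cases i <;> fin_cases j <;> simp [Matrix.mul_apply, Fin.sum_univ_three]
      ring
    have h02 : ∀ b, transGL (show (0 : Fin 3) ≠ 2 by decide) b ∈ G := by
      intro b
      obtain ⟨c, y, hyG, hye⟩ := hy b
      obtain ⟨x, hx, hxe⟩ := id h1
      rw [eq_mul_inv_of_mul_eq (show transGL (show (0 : Fin 3) ≠ 2 by decide) b * (x * y) = y * x from Units.ext (by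
        rw [Units.val_mul, Units.val_mul, Units.val_mul, hye, hxe, transGL_coe]
        ext i j; fin_cases i <;> fin_cases j <;>
          simp [Matrix.mul_apply, Fin.sum_univ_three, transvection, Matrix.single] <;> ring))]
      exact mul_mem (mul_mem hyG hx) (inv_mem (mul_mem hx hyG))
    intro b
    refine ⟨h02 b, ?_⟩
    obtain ⟨c, y, hyG, hye⟩ := hy b
    convert mul_mem hyG (h02 (-c))
    refine Units.ext ?_
    rw [Units.val_mul, hye, transGL_coe, transGL_coe]
    ext i j; fin_cases i <;> fin_cases j <;> simp [Matrix.mul_apply, Fin.sum_univ_three, transvection, Matrix.single]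
  have h12 : ∀ b, transGL (show (1 : Fin 3) ≠ 2 by decide) b ∈ G := fun b => by
    obtain ⟨g, hg, hge⟩ := hall b
    convert hg
    refine Units.ext ?_
    rw [hge, transGL_coe]
    ext i j; fin_cases i <;> fin_cases j <;> simp [transvection, Matrix.single]
  refine (specialLinear_le_iff G).mpr fun i j hij b => ?_
  have conj : ∀ {i j i' j' : Fin 3} (h : i ≠ j) (h' : i' ≠ j') (b' : F),
      (w * transGL h b' * w = transGL h' b) → transGL h b' ∈ G → transGL h' b ∈ G :=
    fun h h' b' e hm => e ▸ mul_mem (mul_mem hw hm) hw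
  fin_cases i <;> fin_cases j <;> first
    | exact absurd rfl hij
    | exact (h13 b).1
    | exact (h13 b).2
    | exact h12 b
    | (refine conj (show (1 : Fin 3) ≠ 2 by decide) hij (-b) (Units.ext ?_) (h12 _)
       rw [Units.val_mul, Units.val_mul, hwe, transGL_coe, transGL_coe]
       ext p q; fin_cases p <;> fin_cases q <;> simp [Matrix.mul_apply, Matrix.vecMul, dotProduct, Fin.sum_univ_three, transvection, Matrix.single]
       done)
    | (refine conj (show (0 : Fin 3) ≠ 1 by decide) hij (-b) (Units.ext ?_) (h13 _).2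
       rw [Units.val_mul, Units.val_mul, hwe, transGL_coe, transGL_coe]
       ext p q; fin_cases p <;> fin_cases q <;> simp [Matrix.mul_apply, Matrix.vecMul, dotProduct, Fin.sum_univ_three, transvection, Matrix.single]
       done)
    | (refine conj (show (0 : Fin 3) ≠ 2 by decide) hij b (Units.ext ?_) (h13 _).1
       rw [Units.val_mul, Units.val_mul, hwe, transGL_coe, transGL_coe]
       ext p q; fin_cases p <;> fin_cases q <;> simp [Matrix.mul_apply, Matrix.vecMul, dotProduct, Fin.sum_univ_three, transvection, Matrix.single]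
       done)

end Cfsg.Agent.Classical.LinThree
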