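/-
The unitary similitudes are maximal in `SL_3`.
-/
import Cfsg.Agent.Lib.Classical.UMaximalInSL
import Cfsg.Agent.Lib.Classical.LinThree.UnitCoord

set_option autoImplicit false
set_option linter.unusedSectionVars false

namespace Cfsg.Agent.Classical.LinThree

open Matrix Cfsg.Geo
open Cfsg.Agent.Classical
open Cfsg.Agent.Classical.UMaxSL (Tv exists_tv exists_trace exists_rep tv_mem)

variable {F : Type*} [Field F] [Fintype F] {σ : F ≃+* F} {f : (Fin 3 → F) → (Fin 3 → F) → F}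

/-- An adapted basis. -/
structure Fr (σ : F ≃+* F) (f : (Fin 3 → F) → (Fin 3 → F) → F) (e p e' : Fin 3 → F) : Prop where
  ee : f e e = 0
  ee' : f e e' = 1
  ep : f e p = 0
  pe' : f p e' = 0
  e'e' : f e' e' = 0
  pp : f p p ≠ 0

variable (hf : IsUnitaryForm σ f)

include hf

theorem fr_sym {a b : Fin 3 → F} (h : f a b = 0) : f b a = 0 := by rw [hf.herm, h, map_zero]

/-- A third vector completing two. -/
theorem fr_partner {e p : Fin 3 → F} (he : e ≠ 0) (hee : f e e = 0) (hep : f e p = 0) (hpp : f p p ≠ 0) :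
    ∃ e', Fr σ f e p e' := by
  have hs := semiForm_of_unitary hf
  obtain ⟨y, hy⟩ := (hf.nondegenerate e he).2
  obtain ⟨k, hk⟩ : ∃ k, k = σ (-(f y p / f p p)) := ⟨_, rfl⟩
  obtain ⟨c, hc⟩ : ∃ c, c = σ (f e y)⁻¹ := ⟨_, rfl⟩
  obtain ⟨z, hz⟩ : ∃ z, z = c • (y + (-(f y p / f p p)) • p) := ⟨_, rfl⟩
  have hzp : f z p = 0 := by
    rw [hz, hs.smul_left, hs.add_left, hs.smul_left, neg_mul, div_mul_cancel₀ _ hpp, add_neg_cancel, mul_zero]
  have hez : f e z = 1 := by
    rw [hz, hs.smul_right, hs.add_right, hs.smul_right, hep, mul_zero, add_zero, hc, hf.involutive, inv_mul_cancel₀ hy]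
  obtain ⟨s, -, hss⟩ := exists_trace hf (b := f z z) (hf.herm z z).symm
  refine ⟨z + s • e, hee, ?_, hep, ?_, ?_, hpp⟩
  · rw [hs.add_right, hs.smul_right, hee, hez, mul_zero, add_zero]
  · rw [hs.add_right, hs.smul_right, fr_sym hf hep, fr_sym hf hzp, mul_zero, add_zero]
  · rw [hs.add_left, hs.add_right, hs.add_right, hs.smul_left, hs.smul_left, hs.smul_right, hs.smul_right, hee, hez,
      hf.herm z e, hez, map_one]
    linear_combination hss

theorem exists_kernel_two (a b : Fin 3 → F) : ∃ q, q ≠ 0 ∧ f q a = 0 ∧ f q b = 0 := by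
  have hs := semiForm_of_unitary hf
  let φ : (Fin 3 → F) →ₗ[F] F :=
    { toFun := fun x => f x a, map_add' := fun u v => hs.add_left u v a, map_smul' := fun c u => hs.smul_left c u a }
  let ψ : (Fin 3 → F) →ₗ[F] F :=
    { toFun := fun x => f x b, map_add' := fun u v => hs.add_left u v b, map_smul' := fun c u => hs.smul_left c u b }
  have h2 := (φ.prod ψ).finrank_range_add_finrank_ker
  have h3 := Submodule.finrank_le (LinearMap.range (φ.prod ψ))
  rw [Module.finrank_prod, Module.finrank_self] at h3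
  rw [Module.finrank_fintype_fun_eq_card, Fintype.card_fin] at h2
  have h4 : LinearMap.ker (φ.prod ψ) ≠ ⊥ := fun h => by rw [h, finrank_bot] at h2; omega
  obtain ⟨q, hq, hq0⟩ := (Submodule.ne_bot_iff _).mp h4
  rw [LinearMap.mem_ker, LinearMap.prod_apply, Prod.mk_eq_zero] at hq
  exact ⟨q, hq0, hq.1, hq.2⟩

theorem fr_of_iso {e : Fin 3 → F} (he : e ≠ 0) (hee : f e e = 0) : ∃ p e', Fr σ f e p e' := by
  have hs := semiForm_of_unitary hf
  obtain ⟨y, hy⟩ := (hf.nondegenerate e he).2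
  obtain ⟨q, hq0, hqe, hqy⟩ := exists_kernel_two hf e y
  by_cases hqq : f q q = 0
  · obtain ⟨z, hz⟩ := (hf.nondegenerate q hq0).1
    obtain ⟨y', hy'⟩ : ∃ y', y' = y + (-(f y e / f y e)) • (0 : Fin 3 → F) := ⟨_, rfl⟩
    -- `q` would be orthogonal to a spanning set
    exfalso
    have hli : LinearIndependent F ![e, y, q] := by
      rw [Fintype.linearIndependent_iff]
      intro g hg
      simp only [Fin.sum_univ_three, Matrix.cons_val_zero, Matrix.cons_val_one, Matrix.cons_val] at hg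
      have h0 : ∀ v, g 0 * f e v + g 1 * f y v + g 2 * f q v = 0 := fun v => by
        rw [← hs.smul_left, ← hs.smul_left, ← hs.smul_left, ← hs.add_left, ← hs.add_left, hg, ← zero_smul F v,
          hs.smul_left, zero_mul]
      have h1 := h0 e
      rw [hee, hqe, mul_zero, mul_zero, zero_add, add_zero, mul_eq_zero,
        or_iff_left (show f y e ≠ 0 from fun h => hy (fr_sym hf h))] at h1
      have h2 := h0 y
      rw [hqy, h1, zero_mul, mul_zero, add_zero, add_zero, mul_eq_zero, or_iff_left hy] at h2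
      have h3 : g 2 • q = 0 := by rw [h2, h1, zero_smul, zero_smul, zero_add, zero_add] at hg; exact hg
      rw [smul_eq_zero, or_iff_left hq0] at h3
      intro i; fin_cases i <;> assumption
    have hsp := hli.span_eq_top_of_card_eq_finrank (by simp)
    refine hz ?_
    have hzz : z ∈ Submodule.span F (Set.range ![e, y, q]) := by rw [hsp]; exact Submodule.mem_top
    obtain ⟨g, rfl⟩ := (Submodule.mem_span_range_iff_exists_fun F).mp hzz
    simp only [Fin.sum_univ_three, Matrix.cons_val_zero, Matrix.cons_val_one, Matrix.cons_val]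
    rw [hs.add_left, hs.add_left, hs.smul_left, hs.smul_left, hs.smul_left, fr_sym hf hqe, fr_sym hf hqy, hqq]
    simp
  · obtain ⟨e', he'⟩ := fr_partner hf he hee (fr_sym hf hqe) hqq
    exact ⟨q, e', he'⟩

theorem exists_iso_vec : ∃ e : Fin 3 → F, e ≠ 0 ∧ f e e = 0 := by
  have hs := semiForm_of_unitary hf
  obtain ⟨qq, hσ⟩ := exists_isUSigma_of_involutive (σ := σ) hf.involutive hf.ne_refl
  obtain ⟨a, ha⟩ : ∃ a : Fin 3 → F, a ≠ 0 := ⟨fun _ => 1, fun e => one_ne_zero (congrFun e 0)⟩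
  by_cases haa : f a a = 0
  · exact ⟨a, ha, haa⟩
  obtain ⟨b, hb, hba, -⟩ := exists_kernel_two hf a a
  by_cases hbb : f b b = 0
  · exact ⟨b, hb, hbb⟩
  obtain ⟨t, -, ht⟩ := hσ.norm_surjective (t := -(f a a / f b b)) (neg_ne_zero.mpr (div_ne_zero haa hbb))
    (by rw [map_neg, map_div₀, ← hf.herm, ← hf.herm])
  refine ⟨a + t • b, fun h => haa ?_, ?_⟩
  · have := congrArg (fun x => f x a) h
    simp only [hs.add_left, hs.smul_left, hba, mul_zero, add_zero] at this
    rw [this, ← zero_smul F a, hs.smul_left, zero_mul]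
  · rw [hs.add_left, hs.add_right, hs.add_right, hs.smul_left, hs.smul_left, hs.smul_right, hs.smul_right,
      fr_sym hf hba, hba, mul_zero, mul_zero, add_zero, zero_add, ← mul_assoc, ht, neg_mul, div_mul_cancel₀ _ hbb,
      add_neg_cancel]

variable {e p e' : Fin 3 → F}

theorem fr_val (R : Fr σ f e p e') (a b c a' b' c' : F) :
    f (a • e + b • p + c • e') (a' • e + b' • p + c' • e') =
      a * σ c' + f p p * (b * σ b') + c * σ a' := by
  have hs := semiForm_of_unitary hf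
  simp only [hs.add_left, hs.add_right, hs.smul_left, hs.smul_right, R.ee, R.ee', R.ep, R.pe', R.e'e',
    fr_sym hf R.ep, fr_sym hf R.pe', show f e' e = 1 by rw [hf.herm, R.ee', map_one]]
  ring

/-- Coordinates in an adapted basis. -/
theorem fr_coords (R : Fr σ f e p e') : ∃ P : GL (Fin 3) F,
    (∀ x, (P : Matrix (Fin 3) (Fin 3) F) *ᵥ x = x 0 • e + x 1 • p + x 2 • e') ∧
    ∀ x y, f ((P : Matrix (Fin 3) (Fin 3) F) *ᵥ x) ((P : Matrix (Fin 3) (Fin 3) F) *ᵥ y) = J σ (f p p) x y := by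
  have hs := semiForm_of_unitary hf
  let M : Matrix (Fin 3) (Fin 3) F := Matrix.of fun i j => ![e i, p i, e' i] j
  have hM : ∀ x, M *ᵥ x = x 0 • e + x 1 • p + x 2 • e' := fun x => by
    ext i
    simp [M, Matrix.mulVec, dotProduct, Fin.sum_univ_three]
    ring
  have hinj : ∀ x, M *ᵥ x = 0 → x = 0 := fun x hx => by
    have h0 : ∀ y : Fin 3 → F, J σ (f p p) x y = 0 := fun y => by
      rw [J, ← fr_val hf R, ← hM, hx, ← zero_smul F (0 : Fin 3 → F), hs.smul_left, zero_mul]
    have a := h0 (Pi.single 2 1)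
    have b := h0 (Pi.single 1 1)
    have c := h0 (Pi.single 0 1)
    simp [J, R.pp] at a b c
    ext i; fin_cases i <;> assumption
  have hd : M.det ≠ 0 := fun h => by
    obtain ⟨v, hv0, hv⟩ := Matrix.exists_mulVec_eq_zero_iff.mpr h
    exact hv0 (hinj v hv)
  refine ⟨GeneralLinearGroup.mkOfDetNeZero M hd, fun x => by
    rw [GeneralLinearGroup.val_mkOfDetNeZero]; exact hM x, fun x y => ?_⟩
  rw [GeneralLinearGroup.val_mkOfDetNeZero, hM, hM, fr_val hf R]
  rfl

/-- The product of three transvections that is an isometry. -/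
theorem iso_mem {K : Subgroup (GL (Fin 3) F)} (hK : similarityGroup f ⊓ specialLinear (Fin 3) F ≤ K)
    {ρ : F} {P : GL (Fin 3) F}
    (hP : ∀ x y, f ((P : Matrix (Fin 3) (Fin 3) F) *ᵥ x) ((P : Matrix (Fin 3) (Fin 3) F) *ᵥ y) = J σ ρ x y)
    (g : GL (Fin 3) F) (hd : (g : Matrix (Fin 3) (Fin 3) F).det = 1)
    (hg : ∀ x y, J σ ρ ((g : Matrix (Fin 3) (Fin 3) F) *ᵥ x) ((g : Matrix (Fin 3) (Fin 3) F) *ᵥ y) = J σ ρ x y) :
    g ∈ K.comap (MulAut.conj P).toMonoidHom := by
  refine hK ⟨⟨1, fun u v => ?_⟩, ?_⟩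
  · rw [Units.val_one, one_mul]
    show f ((((P * g * P⁻¹ : GL (Fin 3) F)) : Matrix (Fin 3) (Fin 3) F) *ᵥ u)
      (((P * g * P⁻¹ : GL (Fin 3) F) : Matrix (Fin 3) (Fin 3) F) *ᵥ v) = f u v
    rw [gl_mul_mulVec, gl_mul_mulVec, gl_mul_mulVec, gl_mul_mulVec, hP, hg, ← hP, gl_mulVec_inv_cancel,
      gl_mulVec_inv_cancel]
  · exact specialLinear_normal.conj_mem _ (mem_specialLinear_iff.mpr hd) P

/-- A subgroup above the similitudes with an element outside contains a special transvection. -/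
theorem exists_special {K : Subgroup (GL (Fin 3) F)} (hK : similarityGroup f ⊓ specialLinear (Fin 3) F ≤ K)
    {g : GL (Fin 3) F} (hg : g ∈ K) (hgs : g ∉ similarityGroup f) :
    ∃ e p : Fin 3 → F, e ≠ 0 ∧ f e e = 0 ∧ f e p = 0 ∧ f p p ≠ 0 ∧ ∃ t ∈ K, Tv f t p e 1 := by
  classical
  have hs := semiForm_of_unitary hf
  obtain ⟨d, hd0, hd⟩ : ∃ d : F, d ≠ 0 ∧ d + σ d = 0 := by
    obtain ⟨s, hs0, hss⟩ := exists_trace hf (b := 0) (map_zero σ)
    exact ⟨s, hs0, by rw [← hss, add_zero]⟩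
  have htr : ∀ {v} (_ : f v v = 0), ∃ t ∈ K, Tv f t v v d := fun {v} hv => by
    obtain ⟨t, -, ht⟩ := exists_tv hf hv d
    exact ⟨t, hK (tv_mem hf ht hv hd), ht⟩
  choose u hu using fun v => exists_rep hf (((g⁻¹ : GL (Fin 3) F) : Matrix (Fin 3) (Fin 3) F)ᵀ *ᵥ (gramMatrix f *ᵥ ((σ : F → F) ∘ v)))
  have huf : ∀ v x, f x (u v) = f (((g⁻¹ : GL (Fin 3) F) : Matrix (Fin 3) (Fin 3) F) *ᵥ x) v := fun v x => by
    rw [hu, semiForm_apply σ hs (((g⁻¹ : GL (Fin 3) F) : Matrix (Fin 3) (Fin 3) F) *ᵥ x) v, Matrix.dotProduct_mulVec x,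
      Matrix.vecMul_transpose]
  have hinj : ∀ a b, (∀ x, f x a = f x b) → a = b := fun a b h => by
    by_contra hne
    obtain ⟨x, hx⟩ := (hf.nondegenerate (a - b) (sub_ne_zero.mpr hne)).1
    rw [hf.herm] at hx
    refine hx ?_
    rw [← map_zero σ]
    congr 1
    rw [← hf.involutive (f (a - b) x), ← hf.herm, sub_eq_add_neg, ← neg_one_smul F b, hs.add_right, hs.smul_right, h]
    simp
  -- a transvection with independent parameters
  obtain ⟨v, hv0, hvv, hind⟩ : ∃ v, v ≠ 0 ∧ f v v = 0 ∧ ∀ k : F, k • ((g : Matrix (Fin 3) (Fin 3) F) *ᵥ v) ≠ u v := by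
    by_contra hcon
    push Not at hcon
    apply hgs
    let B : (Fin 3 → F) → (Fin 3 → F) := fun v => ((g⁻¹ : GL (Fin 3) F) : Matrix (Fin 3) (Fin 3) F) *ᵥ u v
    have hBadd : ∀ a b, B (a + b) = B a + B b := fun a b => by
      simp only [B, ← Matrix.mulVec_add]
      congr 1
      exact hinj _ _ fun x => by rw [hs.add_right, huf, huf, huf, hs.add_right]
    have hBsmul : ∀ (t : F) a, B (t • a) = t • B a := fun t a => by
      simp only [B, ← Matrix.mulVec_smul]
      congr 1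
      exact hinj _ _ fun x => by rw [hs.smul_right, huf, huf, hs.smul_right]
    have heig : ∀ v, v ≠ 0 → f v v = 0 → ∃ k : F, B v = k • v := fun v h1 h2 => by
      obtain ⟨k, hk⟩ := hcon v h1 h2
      exact ⟨k, by simp only [B, ← hk, Matrix.mulVec_smul, gl_inv_mulVec_cancel]⟩
    obtain ⟨e, he, hee⟩ := exists_iso_vec hf
    obtain ⟨p, e', R⟩ := fr_of_iso hf he hee
    obtain ⟨P, hPv, hPf⟩ := fr_coords hf R
    obtain ⟨s, -, hss⟩ := exists_trace hf (b := f p p) (hf.herm p p).symm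
    have hPi : ∀ a b c a' b' c' : F, a • e + b • p + c • e' = a' • e + b' • p + c' • e' → a = a' ∧ b = b' ∧ c = c' := by
      intro a b c a' b' c' h
      have h' : (P : Matrix (Fin 3) (Fin 3) F) *ᵥ ![a, b, c] = (P : Matrix (Fin 3) (Fin 3) F) *ᵥ ![a', b', c'] := by
        rw [hPv, hPv]; simpa using h
      have := gl_mulVec_injective P h'
      exact ⟨by simpa using congrFun this 0, by simpa using congrFun this 1, by simpa using congrFun this 2⟩
    have hval := fr_val hf R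
    have eig : ∀ a b c : F, a * σ c + f p p * (b * σ b) + c * σ a = 0 → c = 1 →
        ∃ k : F, B (a • e + b • p + c • e') = k • (a • e + b • p + c • e') := fun a b c h hc => by
      refine heig _ (fun h0 => ?_) (by rw [hval]; exact h)
      have := (hPi a b c 0 0 0 (by rw [h0]; simp)).2.2
      exact one_ne_zero (α := F) (hc ▸ this)
    obtain ⟨k, hk⟩ := heig e he hee
    obtain ⟨l, hl⟩ := eig 0 0 1 (by simp) rfl
    obtain ⟨m, hm⟩ := eig d 0 1 (by simp; linear_combination hd) rfl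
    obtain ⟨n, hn⟩ := eig s 1 1 (by simp; linear_combination hss) rfl
    obtain ⟨n', hn'⟩ := eig (s + d) 1 1 (by simp; linear_combination hss + hd) rfl
    simp only [zero_smul, zero_add, add_zero, one_smul] at hl hm hn hn'
    rw [hBadd, hBsmul, hk, hl] at hm
    obtain ⟨m1, -, m2⟩ := hPi (d * k) 0 l (m * d) 0 m (by
      simp only [zero_smul, add_zero]
      rw [← smul_smul, hm, smul_add, smul_smul])
    have hlk : l = k := by
      rw [← m2] at m1
      exact mul_left_cancel₀ hd0 (by linear_combination -m1)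
    have hn'' : B ((s + d) • e + p + e') = B (s • e + p + e') + (d * k) • e := by
      rw [← smul_smul, ← hk, ← hBsmul, ← hBadd]
      congr 1
      rw [add_smul]; abel
    rw [hn, hn'] at hn''
    obtain ⟨n1, n2, -⟩ := hPi (n' * (s + d)) n' n' (n * s + d * k) n n (by
      rw [← smul_smul, add_smul (n * s), ← smul_smul n s]
      rw [show n' • ((s + d) • e) + n' • p + n' • e' = n' • ((s + d) • e + p + e') by rw [smul_add, smul_add], hn'',
        smul_add, smul_add]
      abel)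
    have hnk : n = k := by
      rw [n2] at n1
      exact mul_left_cancel₀ hd0 (by linear_combination n1)
    have hBp : B p = k • p := by
      have h : B (s • e + p + e') = B (s • e) + B p + B e' := by rw [hBadd, hBadd]
      rw [hn, hBsmul, hk, hl, hnk, hlk, smul_add, smul_add, smul_comm k s e] at h
      exact (add_left_cancel (add_right_cancel h)).symm
    have hall : ∀ x, B x = k • x := fun x => by
      obtain ⟨a, rfl⟩ : ∃ a, x = (P : Matrix (Fin 3) (Fin 3) F) *ᵥ a :=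
        ⟨((P⁻¹ : GL (Fin 3) F) : Matrix (Fin 3) (Fin 3) F) *ᵥ x, (gl_mulVec_inv_cancel P x).symm⟩
      rw [hPv, hBadd, hBadd, hBsmul, hBsmul, hBsmul, hk, hBp, hl, hlk, smul_add, smul_add, smul_comm _ k, smul_comm _ k,
        smul_comm _ k]
    have hgi : ∀ x v, σ k * f x ((g : Matrix (Fin 3) (Fin 3) F) *ᵥ v) = f (((g⁻¹ : GL (Fin 3) F) : Matrix (Fin 3) (Fin 3) F) *ᵥ x) v := fun x v => by
      rw [← huf, ← hs.smul_right, ← Matrix.mulVec_smul, ← hall v]
      simp only [B, gl_mulVec_inv_cancel]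
    have hk0 : σ k ≠ 0 := fun e0 => by
      obtain ⟨z, hz⟩ := (hf.nondegenerate e he).2
      have := hgi ((g : Matrix (Fin 3) (Fin 3) F) *ᵥ e) z
      rw [e0, zero_mul, gl_inv_mulVec_cancel] at this
      exact hz this.symm
    refine ⟨(Units.mk0 (σ k) hk0)⁻¹, fun x v => ?_⟩
    have := hgi ((g : Matrix (Fin 3) (Fin 3) F) *ᵥ x) v
    rw [gl_inv_mulVec_cancel] at this
    rw [← this, Units.val_inv_eq_inv_val, Units.val_mk0, inv_mul_cancel_left₀ hk0]
  obtain ⟨p, hp⟩ : ∃ p, p = (g : Matrix (Fin 3) (Fin 3) F) *ᵥ v := ⟨_, rfl⟩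
  obtain ⟨r, hr⟩ : ∃ r, r = u v := ⟨_, rfl⟩
  rw [← hp, ← hr] at hind
  have hp0 : p ≠ 0 := hp ▸ fun e => hv0 (gl_mulVec_injective g (e.trans (Matrix.mulVec_zero _).symm))
  have hpr : f p r = 0 := by rw [hp, hr, huf, gl_inv_mulVec_cancel]; exact hvv
  obtain ⟨T, hTK, hT⟩ : ∃ t ∈ K, Tv f t p r d := by
    obtain ⟨t, htK, ht⟩ := htr hvv
    refine ⟨g * t * g⁻¹, mul_mem (mul_mem hg htK) (inv_mem hg), fun x => ?_⟩
    rw [gl_mul_mulVec, gl_mul_mulVec, ht, Matrix.mulVec_add, gl_mulVec_inv_cancel, Matrix.mulVec_smul, hp, hr, huf]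
  by_cases hpp : f p p = 0
  · -- isotropic centre: multiply by an isometry
    obtain ⟨q₀, p', R₀⟩ := fr_of_iso hf hp0 hpp
    obtain ⟨P₀, hPv₀, -⟩ := fr_coords hf R₀
    have hrr : f r r ≠ 0 := fun hrr => by
      obtain ⟨a, ha⟩ : ∃ a, a = ((P₀⁻¹ : GL (Fin 3) F) : Matrix (Fin 3) (Fin 3) F) *ᵥ r := ⟨_, rfl⟩
      have hra : r = a 0 • p + a 1 • q₀ + a 2 • p' := by rw [← hPv₀, ha, gl_mulVec_inv_cancel]
      have h1 := fr_val hf R₀ 1 0 0 (a 0) (a 1) (a 2)
      simp only [one_smul, zero_smul, add_zero, ← hra, hpr] at h1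
      have h1 : a 2 = 0 := (map_eq_zero σ).mp (by simpa using h1.symm)
      have h2 := fr_val hf R₀ (a 0) (a 1) (a 2) (a 0) (a 1) (a 2)
      rw [← hra, hrr, h1] at h2
      simp [R₀.pp] at h2
      exact hind (a 0) (by rw [hra, h1, h2]; simp)
    obtain ⟨r', hr'⟩ : ∃ r', r' = σ d • r := ⟨_, rfl⟩
    have hpr' : f p r' = 0 := by rw [hr', hs.smul_right, hpr, mul_zero]
    have hrr' : f r' r' ≠ 0 := by
      rw [hr', hs.smul_left, hs.smul_right]
      exact mul_ne_zero (by simpa using hd0) (mul_ne_zero (by simpa using hd0) hrr)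
    obtain ⟨e', R⟩ := fr_partner hf hp0 hpp hpr' hrr'
    obtain ⟨P, hPv, hPf⟩ := fr_coords hf R
    obtain ⟨c, -, hc⟩ := exists_trace hf (b := f r' r') (hf.herm r' r').symm
    have D : UData σ (f r' r') (K.comap (MulAut.conj P).toMonoidHom) :=
      ⟨hf.involutive, hf.ne_refl, hrr', (hf.herm r' r').symm, fun g hd hg => iso_mem hf hK hPf g hd hg⟩
    obtain ⟨w, hwK, hwe⟩ := exists_u D (a := -1) (b := f r' r') (c := c) (by simp) (by simp; linear_combination hc)
    have hwK' : P * w * P⁻¹ ∈ K := hwK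
    refine ⟨p, c • p + (-1 : F) • r', hp0, hpp, by rw [hs.add_right, hs.smul_right, hs.smul_right, hpp, hpr', mul_zero,
      mul_zero, add_zero], ?_, P * w * P⁻¹ * T⁻¹, mul_mem hwK' (inv_mem hTK), fun x => ?_⟩
    · rw [hs.add_left, hs.add_right, hs.add_right, hs.smul_left, hs.smul_left, hs.smul_right, hs.smul_right,
        hs.smul_left, hs.smul_left, hs.smul_right, hs.smul_right, hpp, hpr', fr_sym hf hpr']
      simpa using hrr'
    obtain ⟨y, rfl⟩ : ∃ y, x = (T : Matrix (Fin 3) (Fin 3) F) *ᵥ y :=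
      ⟨((T⁻¹ : GL (Fin 3) F) : Matrix (Fin 3) (Fin 3) F) *ᵥ x, (gl_mulVec_inv_cancel T x).symm⟩
    rw [gl_mul_mulVec, gl_inv_mulVec_cancel]
    obtain ⟨a, rfl⟩ : ∃ a, y = (P : Matrix (Fin 3) (Fin 3) F) *ᵥ a :=
      ⟨((P⁻¹ : GL (Fin 3) F) : Matrix (Fin 3) (Fin 3) F) *ᵥ y, (gl_mulVec_inv_cancel P y).symm⟩
    rw [gl_mul_mulVec, gl_mul_mulVec, gl_inv_mulVec_cancel, hPv, hwe, hT,
      show d * f ((P : Matrix (Fin 3) (Fin 3) F) *ᵥ a) r = f ((P : Matrix (Fin 3) (Fin 3) F) *ᵥ a) r' by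
        rw [hr', hs.smul_right, hf.involutive],
      hs.add_left, hs.smul_left, hpp, mul_zero, add_zero, hPv]
    have v1 := fr_val hf R (a 0) (a 1) (a 2) 0 1 0
    have v2 := fr_val hf R (a 0) (a 1) (a 2) 1 0 0
    simp at v1 v2
    rw [v1, v2]
    simp [Matrix.mulVec, dotProduct, Fin.sum_univ_three]
    module
  · -- non-isotropic centre: take a commutator
    have hr0 : r ≠ 0 := fun e => hind 0 (by rw [e, zero_smul])
    obtain ⟨e, he0, hee, hep, her⟩ : ∃ e, e ≠ 0 ∧ f e e = 0 ∧ f e p = 0 ∧ f e r ≠ 0 := by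
      by_cases hrr : f r r = 0
      · obtain ⟨e', R⟩ := fr_partner hf hr0 hrr (fr_sym hf hpr) hpp
        have her : f e' r ≠ 0 := by rw [hf.herm, R.ee', map_one]; exact one_ne_zero
        exact ⟨e', fun e => her (by rw [e, ← zero_smul F r, hs.smul_left, zero_mul]), R.e'e', fr_sym hf R.pe', her⟩
      obtain ⟨q, hq0, hqp, hqr⟩ := exists_kernel_two hf p r
      obtain ⟨qq, hσ⟩ := exists_isUSigma_of_involutive (σ := σ) hf.involutive hf.ne_refl
      by_cases hqq : f q q = 0
      · -- such a vector would be isotropic and orthogonal to a basis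
        exfalso
        obtain ⟨q₀, q', R₀⟩ := fr_of_iso hf hq0 hqq
        obtain ⟨P₀, hPv₀, -⟩ := fr_coords hf R₀
        have co : ∀ z, f q z = 0 → ∃ a b : F, z = a • q + b • q₀ := fun z hz => by
          obtain ⟨a, ha⟩ : ∃ a, a = ((P₀⁻¹ : GL (Fin 3) F) : Matrix (Fin 3) (Fin 3) F) *ᵥ z := ⟨_, rfl⟩
          have hza : z = a 0 • q + a 1 • q₀ + a 2 • q' := by rw [← hPv₀, ha, gl_mulVec_inv_cancel]
          have h1 := fr_val hf R₀ 1 0 0 (a 0) (a 1) (a 2)
          simp only [one_smul, zero_smul, add_zero, ← hza, hz] at h1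
          have h1 : a 2 = 0 := (map_eq_zero σ).mp (by simpa using h1.symm)
          exact ⟨a 0, a 1, by rw [hza, h1, zero_smul, add_zero]⟩
        obtain ⟨a, b, hpe⟩ := co p hqp
        obtain ⟨a', b', hre⟩ := co r hqr
        have h1 : f p r = f q₀ q₀ * (b * σ b') := by
          have := fr_val hf R₀ a b 0 a' b' 0
          simp only [zero_smul, add_zero, ← hpe, ← hre] at this
          simpa using this
        rw [hpr] at h1
        rcases mul_eq_zero.mp ((mul_eq_zero.mp h1.symm).resolve_left R₀.pp) with h | h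
        · refine hpp ?_
          rw [hpe, h, zero_smul, add_zero, hs.smul_left, hs.smul_right, hqq, mul_zero, mul_zero]
        · refine hrr ?_
          rw [hre, (map_eq_zero σ).mp h, zero_smul, add_zero, hs.smul_left, hs.smul_right, hqq, mul_zero, mul_zero]
      obtain ⟨t, -, ht⟩ := hσ.norm_surjective (t := -(f r r / f q q)) (neg_ne_zero.mpr (div_ne_zero hrr hqq))
        (by rw [map_neg, map_div₀, ← hf.herm, ← hf.herm])
      have h2 : f (r + t • q) r = f r r := by rw [hs.add_left, hs.smul_left, hqr, mul_zero, add_zero]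
      refine ⟨r + t • q, fun e => hrr (by rw [← h2, e, ← zero_smul F r, hs.smul_left, zero_mul]), ?_, ?_,
        by rw [h2]; exact hrr⟩
      · rw [hs.add_left, hs.add_right, hs.add_right, hs.smul_left, hs.smul_left, hs.smul_right, hs.smul_right,
          fr_sym hf hqr, hqr, mul_zero, mul_zero, add_zero, zero_add, ← mul_assoc, ht, neg_mul, div_mul_cancel₀ _ hqq,
          add_neg_cancel]
      · rw [hs.add_left, hs.smul_left, hqp, fr_sym hf hpr, mul_zero, add_zero]
    obtain ⟨s, hsK, hst⟩ := htr hee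
    obtain ⟨c, hc⟩ : ∃ c, c = d * d * f e r := ⟨_, rfl⟩
    have hc0 : c ≠ 0 := hc ▸ mul_ne_zero (mul_ne_zero hd0 hd0) her
    refine ⟨e, c • p, he0, hee, by rw [hs.smul_right, hep, mul_zero],
      by rw [hs.smul_left, hs.smul_right]; exact mul_ne_zero hc0 (mul_ne_zero (by simpa using hc0) hpp),
      T * s * T⁻¹ * s⁻¹, mul_mem (mul_mem (mul_mem hTK hsK) (inv_mem hTK)) (inv_mem hsK), fun x => ?_⟩
    set y := ((s⁻¹ : GL (Fin 3) F) : Matrix (Fin 3) (Fin 3) F) *ᵥ x with hy
    set z := ((T⁻¹ : GL (Fin 3) F) : Matrix (Fin 3) (Fin 3) F) *ᵥ y with hz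
    have hxy : x = y + (d * f y e) • e := by rw [← hst, hy, gl_mulVec_inv_cancel]
    have hyz : y = z + (d * f z r) • p := by rw [← hT, hz, gl_mulVec_inv_cancel]
    have hfy : f x e = f y e := by rw [hxy, hs.add_left, hs.smul_left, hee, mul_zero, add_zero]
    have hfz : f z e = f y e := by rw [hyz, hs.add_left, hs.smul_left, fr_sym hf hep, mul_zero, add_zero]
    rw [gl_mul_mulVec, gl_mul_mulVec, gl_mul_mulVec, ← hy, ← hz, hst, Matrix.mulVec_add, Matrix.mulVec_smul,
      hT z, ← hyz, hT e, hfz, hfy, hc, one_mul, hxy]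
    module

/-- The similitudes are maximal. -/
theorem u_isMaximal : IsMaximalIn (specialLinear (Fin 3) F) (similarityGroup f ⊓ specialLinear (Fin 3) F) := by
  classical
  have hs := semiForm_of_unitary hf
  refine ⟨lt_of_le_of_ne inf_le_right fun e => not_specialLinear_le_similarityGroup (by simp) σ hs
    hf.nondegenerate (inf_eq_right.mp e), fun K hK hKS => or_iff_not_imp_left.mpr fun hne => le_antisymm hKS ?_⟩
  obtain ⟨g, hg, hgs⟩ : ∃ g ∈ K, g ∉ similarityGroup f := by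
    by_contra hcon
    push Not at hcon
    exact hne (le_antisymm (le_inf hcon hKS) hK)
  obtain ⟨e, p, he, hee, hep, hpp, t, htK, ht⟩ := exists_special hf hK hg hgs
  obtain ⟨e', R⟩ := fr_partner hf he hee hep hpp
  obtain ⟨P, hPv, hPf⟩ := fr_coords hf R
  obtain ⟨q, hσ⟩ := exists_isUSigma_of_involutive (σ := σ) hf.involutive hf.ne_refl
  have D : UData σ (f p p) (K.comap (MulAut.conj P).toMonoidHom) :=
    ⟨hf.involutive, hf.ne_refl, hpp, (hf.herm p p).symm, fun g hd hg => iso_mem hf hK hPf g hd hg⟩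
  have h1 : Mid (K.comap (MulAut.conj P).toMonoidHom) (1 : F) := by
    refine ⟨P⁻¹ * t * P, show P * (P⁻¹ * t * P) * P⁻¹ ∈ K by rwa [show P * (P⁻¹ * t * P) * P⁻¹ = t by group],
      Matrix.ext_of_mulVec_single fun j => gl_mulVec_injective P ?_⟩
    dsimp only
    rw [gl_mul_mulVec, gl_mul_mulVec, gl_mulVec_inv_cancel, ht, hPv, hPv]
    have v := fr_val hf R ((Pi.single j (1 : F) : Fin 3 → F) 0) ((Pi.single j (1 : F) : Fin 3 → F) 1)
      ((Pi.single j (1 : F) : Fin 3 → F) 2) 1 0 0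
    simp only [one_smul, zero_smul, add_zero, map_one, map_zero, mul_zero, zero_add, mul_one] at v
    rw [v]
    fin_cases j <;> simp <;> abel
  have h := sl_le_coord D hσ h1 fun b hb => by
    obtain ⟨s, -, hs'⟩ := exists_trace hf hb
    exact ⟨s, hs'⟩
  intro x hx
  have hx' := h (specialLinear_normal.conj_mem _ hx P⁻¹)
  rw [inv_inv] at hx'
  have h' : P * (P⁻¹ * x * P) * P⁻¹ ∈ K := hx'
  rwa [show P * (P⁻¹ * x * P) * P⁻¹ = x by group] at h'

end Cfsg.Agent.Classical.LinThree
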